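import Cfsg.Agent.H67.Kondo.Origin

/-!
The fusion in the subgroup of a transposition.
-/

set_option autoImplicit false
set_option linter.unusedSectionVars false
set_option linter.unusedSimpArgs false

namespace Cfsg.Agent.H67.Kondo

open Equiv

variable {ι : Type*} [Fintype ι] [DecidableEq ι] {a b : ι}

theorem swap_ne_one (hab : a ≠ b) : swap a b ≠ (1 : Perm ι) := fun h =>
  hab (by simpa using (congrArg (fun e : Perm ι => e a) h).symm)

theorem swapVal_p_eq_one (hab : a ≠ b) (v : ι → ZMod 2) :
    (swapVal a b v).p = 1 ↔ v a = v b := by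
  by_cases h : v a = v b <;> simp [swapVal, h, swap_ne_one hab]

theorem swapVal_mem_over (a b : ι) (v : ι → ZMod 2) : swapVal a b v ∈ overT (swap a b) := by
  rw [mem_over (swap_mul_self a b)]
  by_cases h : v a = v b <;> simp [swapVal, h]

/-- `v` has a point of `{a, b}` and at most one zero outside. -/
def Big (a b : ι) (v : ι → ZMod 2) : Prop :=
  (v a = 1 ∨ v b = 1) ∧
    ∀ r s, r ≠ a → r ≠ b → s ≠ a → s ≠ b → v r = 0 → v s = 0 → r = s

/-- The map of a block interchanging `ind {a, b}` and `e a`. -/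
def sMap (a b : ι) (v : ι → ZMod 2) : ι → ZMod 2 := Function.update v b (v a + v b)

/-- The map induced by the element interchanging the centre and `1 + e p`. -/
def fR (a b p : ι) (v : ι → ZMod 2) : ι → ZMod 2 :=
  Function.update v p (∑ i ∈ Finset.univ \ {a, b}, v i)

theorem sum_rest (hab : a ≠ b) (v : ι → ZMod 2) :
    ∑ i, v i = v a + v b + ∑ i ∈ Finset.univ \ {a, b}, v i := by
  rw [← Finset.sum_sdiff (Finset.subset_univ ({a, b} : Finset ι)), Finset.sum_pair hab, add_comm]

theorem card_rest (hab : a ≠ b) :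
    (Finset.univ \ {a, b} : Finset ι).card + 2 = Fintype.card ι := by
  rw [Finset.card_sdiff_of_subset (Finset.subset_univ _), Finset.card_univ, Finset.card_pair hab]
  have := Finset.card_le_univ ({a, b} : Finset ι)
  rw [Finset.card_pair hab] at this
  omega

namespace Setup

variable {G : Type*} [Group G] [Finite G] {σ : Setup ι G} (hab : a ≠ b)

theorem gam_perm (π : Perm ι) (ha : π a = a) (hb : π b = b) :
    σ.Gam (swapC a b hab) fun v i => v (π.symm i) := by
  refine gam_conj (W.perm π) fun v => ?_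
  have ha' : π.symm a = a := by rw [Equiv.symm_apply_eq, ha]
  have hb' : π.symm b = b := by rw [Equiv.symm_apply_eq, hb]
  have hh : ∀ i, π.symm i = a ↔ i = a := fun i => by rw [Equiv.symm_apply_eq, ha]
  simp only [swapC_φ]
  refine W.ext (funext fun i => ?_) ?_
  · rw [W.conj_v]
    simp [swapVal, hh, hb', ha']
  · simp only [swapVal, W.conj_p, W.perm_p, ha', hb']
    split_ifs
    · simp
    · rw [← swap_apply_apply, ha, hb]

theorem gam_flip : σ.Gam (swapC a b hab) fun v i => v (swap a b i) := by
  refine gam_conj (W.base (e a)) fun v => ?_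
  simp only [swapC_φ]
  refine W.ext (funext fun i => ?_) ?_
  · rw [W.conj_by_base]
    by_cases h : v a = v b
    · simp only [swapVal, h, if_true, perm_one_symm_apply, CharTwo.add_self_eq_zero, add_zero]
      by_cases hi : i = a
      · subst hi; simp [h]
      · by_cases hj : i = b
        · subst hj; simp [hi, h]
        · simp [hi, swap_apply_of_ne_of_ne hi hj]
    · simp only [swapVal, h, if_false, Equiv.symm_swap]
      have h1 : v b + 1 = v a := by
        revert h
        generalize v a = x, v b = y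
        decide +revert
      by_cases hi : i = a
      · subst hi
        simp [e_apply, hab.symm, h1]
      · by_cases hj : i = b
        · subst hj; simp [hi, e_apply, h1]
        · simp [hi, swap_apply_of_ne_of_ne hi hj, e_apply]
  · rw [W.conj_by_base_p]
    simp [swapVal, eq_comm (a := v b)]

theorem Aligned.gam_fR (hσ : σ.Aligned) {p : ι} (hpa : p ≠ a) (hpb : p ≠ b) :
    σ.Gam (swapC a b hab) (fR a b p) := by
  obtain ⟨f, hf, hfb, hfu⟩ := hσ.fixes a b p hab hpa hpb
  refine ⟨f, hf.mono (by rintro _ ⟨v, rfl⟩; exact swapVal_mem_over a b v), fun v => ?_⟩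
  simp only [swapC_φ]
  have hpm : W.perm (if v a = v b then 1 else swap a b) ∈ overT (swap a b) := by
    rw [mem_over (swap_mul_self a b)]
    by_cases h : v a = v b <;> simp [h]
  have hfp : f (W.perm (if v a = v b then 1 else swap a b)) =
      W.perm (if v a = v b then 1 else swap a b) := by
    by_cases h : v a = v b
    · simp [h, hf.map_one]
    · simp [h, hfu]
  rw [W.eq_base_mul_perm (swapVal a b v)]
  show f (W.base (swapVal a b v).v * W.perm (if v a = v b then 1 else swap a b)) = _
  rw [hf.map_mul (base_le_over _ (base_mem _)) hpm, hfb]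
  change W.base (hA p (swapVal a b v).v) * f (W.perm (if v a = v b then 1 else swap a b)) = _
  rw [hfp]
  refine W.ext (funext fun i => ?_) ?_
  · simp only [W.mul_v, W.base_v, W.base_p, perm_one_symm_apply, W.perm_v, Pi.zero_apply, add_zero]
    by_cases hi : i = p
    · subst hi
      have hs : ∀ j ∈ Finset.univ \ ({a, b} : Finset ι), (swapVal a b v).v j = v j := by
        intro j hj
        simp only [Finset.mem_sdiff, Finset.mem_insert, not_or] at hj
        simp [swapVal, hj.2.1]
      simp only [hA, Function.update_self]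
      rw [sum_rest hab, Finset.sum_congr rfl hs]
      simp [swapVal, fR, hab.symm, hpa, CharTwo.add_self_eq_zero]
    · by_cases hia : i = a
      · subst hia; simp [hA, swapVal, fR, hi, hpb.symm]
      · simp [hA, swapVal, fR, hi, hia]
  · simp [swapVal, fR, Function.update_of_ne hpa.symm, Function.update_of_ne hpb.symm]

theorem Gam.base_iff {F : (ι → ZMod 2) → (ι → ZMod 2)} (hF : σ.Gam (swapC a b hab) F) (h1 : F 1 = 1)
    (v : ι → ZMod 2) : (F v a = F v b ↔ v a = v b) ∧ (v a = v b → wt (F v) = wt v) := by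
  obtain ⟨ω, hω⟩ := hF.eq_conj h1
  have h2 := hω v
  simp only [swapC_φ] at h2
  have hiff : F v a = F v b ↔ v a = v b := by
    rw [← swapVal_p_eq_one hab, ← swapVal_p_eq_one hab, h2, W.conj_p, conj_eq_one_iff]
  refine ⟨hiff, fun h => ?_⟩
  rw [swapVal_eq (hiff.mpr h), swapVal_eq h, W.conj_base] at h2
  rw [W.base_injective h2]
  exact wt_comp v ω.p.symm

theorem Aligned.T_base (hσ : σ.Aligned) {v : ι → ZMod 2} (h : v a = v b) :
    σ.T (swapC a b hab) v ↔ v = 1 ∨ ∃ p, p ≠ a ∧ p ≠ b ∧ v = 1 + e p := by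
  have h1 : σ.T (swapC a b hab) v ↔ σ.T (baseC ι) v := by
    unfold T
    rw [swapC_φ, swapVal_eq h, baseC_φ]
  rw [h1, hσ.normal.T_iff_base]
  constructor
  · rintro (rfl | ⟨p, rfl⟩)
    · exact Or.inl rfl
    · refine Or.inr ⟨p, ?_, ?_, rfl⟩
      · rintro rfl; simp [e_apply, hab.symm] at h
      · rintro rfl; simp [e_apply, hab] at h
  · rintro (rfl | ⟨p, -, -, rfl⟩)
    · exact Or.inl rfl
    · exact Or.inr ⟨p, rfl⟩

theorem fR_one (hσ : σ.Normal) {p : ι} (hpa : p ≠ a) (hpb : p ≠ b) (hab : a ≠ b) :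
    fR a b p (1 : ι → ZMod 2) = 1 + e p := by
  funext i
  by_cases hi : i = p
  · subst hi
    have h1 := card_rest hab
    obtain ⟨m, hm⟩ := hσ.even
    simp only [fR, Function.update_self, Pi.one_apply, Finset.sum_const, nsmul_eq_mul, mul_one,
      Pi.add_apply, e_self, CharTwo.add_self_eq_zero]
    exact ZMod.natCast_eq_zero_iff_even.mpr ⟨m - 1, by omega⟩
  · simp [fR, hi, e_ne hi]

/-- The chart of a transposition is never sent onto the base subgroup. -/
theorem Aligned.image_ne_one (hσ : σ.Aligned) {f : W ι → W ι}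
    (hf : σ.Fus (swapC a b hab).grp f) {ν : Perm ι}
    (hν : ∀ w, MemM ν w ↔ ∃ v, f ((swapC a b hab).φ v) = w) : ν ≠ 1 := by
  intro h1
  subst h1
  have himg : hf.image = (baseC ι).grp := by
    ext w
    rw [mem_baseC]
    constructor
    · rintro ⟨_, ⟨v, rfl⟩, rfl⟩
      exact Equiv.ext fun i => (((hν _).mpr ⟨v, rfl⟩).2 i).elim id id
    · intro hw
      obtain ⟨v, rfl⟩ := (hν w).mp ⟨fun _ => rfl, fun i => Or.inl (by rw [hw]; rfl)⟩
      exact ⟨_, (swapC a b hab).mem v, rfl⟩
  obtain ⟨f', hf', e'⟩ := hf.symm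
  have hmem : f ((swapC a b hab).φ (e a)) ∈ hf.image := ⟨_, (swapC a b hab).mem _, rfl⟩
  rw [himg] at hmem hf'
  obtain ⟨v, hv⟩ := hmem
  have h2 := hσ.normal.rigid hf' v
  rw [show W.base v = f ((swapC a b hab).φ (e a)) from hv, e' _ ((swapC a b hab).mem _),
    mem_baseC, swapC_φ, swapVal_p_eq_one hab] at h2
  simp [e_apply, hab.symm] at h2

theorem fR_two (p : ι) (v : ι → ZMod 2) : fR a b p v = v ∨ fR a b p v = v + e p := by
  rcases zmod2_cases (v p + ∑ i ∈ Finset.univ \ {a, b}, v i) with h | h
  · left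
    funext i
    by_cases hi : i = p
    · subst hi; simp [fR, CharTwo.add_eq_zero.mp h]
    · simp [fR, hi]
  · right
    funext i
    by_cases hi : i = p
    · subst hi
      simp only [fR, Function.update_self, Pi.add_apply, e_self]
      rw [← h, ← add_assoc, CharTwo.add_self_eq_zero, zero_add]
    · simp [fR, hi, e_ne hi]

theorem rest_other (h4 : 4 ≤ Fintype.card ι) (p : ι) : ∃ q, q ≠ a ∧ q ≠ b ∧ q ≠ p := by
  obtain ⟨q, -, hq⟩ := Finset.exists_mem_notMem_of_card_lt_card (s := ({a, b, p} : Finset ι))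
    (t := Finset.univ) (by rw [Finset.card_univ]; exact Finset.card_le_three.trans_lt (by omega))
  simp only [Finset.mem_insert, Finset.mem_singleton, not_or] at hq
  exact ⟨q, hq⟩

theorem perm_fix_e {p q : ι} (hpa : p ≠ a) (hqa : q ≠ a) :
    (fun i => e a ((swap p q).symm i)) = e a := by
  funext i
  have : swap p q i = a ↔ i = a := by
    constructor
    · intro h
      have := congrArg (swap p q) h
      rwa [swap_apply_self, swap_apply_of_ne_of_ne hpa.symm hqa.symm] at this
    · rintro rfl
      exact swap_apply_of_ne_of_ne hpa.symm hqa.symm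
  simp [e_apply, this]

/-- A transposition with trivial signs is not fused to the centre. -/
theorem Aligned.not_T_e (hσ : σ.Aligned) : ¬ σ.T (swapC a b hab) (e a) := by
  intro h
  have h4 := hσ.normal.four
  obtain ⟨f, hf, hfx⟩ := h.fus
  obtain ⟨ν, hν2, hν⟩ := exists_image hf
  have hR := card_rest hab
  have hbig := fix_big hf ν (Finset.univ \ {a, b}) (Finset.card_pos.mp (by omega)) e
    (fun s _ s' _ h => ind_injective (by rw [← sum_ind_singleton, ← sum_ind_singleton]; exact h)) ?_
  · exact hσ.image_ne_one hab hf hν (eq_one_of_fix ν (by omega))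
  · intro p hp
    simp only [Finset.mem_sdiff, Finset.mem_univ, Finset.mem_insert, Finset.mem_singleton, true_and,
      not_or] at hp
    obtain ⟨q, hqa, hqb, hqp⟩ := rest_other (a := a) (b := b) h4 p
    have h1 : fR a b p (e a) = e a := by
      funext i
      by_cases hi : i = p
      · subst hi
        simp only [fR, Function.update_self]
        rw [e_ne hp.1]
        exact Finset.sum_eq_zero fun j hj => e_ne (by
          simp only [Finset.mem_sdiff, Finset.mem_insert, not_or] at hj; exact hj.2.1)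
      · simp [fR, hi]
    have h2 : fR a b p (fun i => e q ((swap p q).symm i)) ≠
        fun i => fR a b p (e q) ((swap p q).symm i) := by
      have e1 : (fun i => e q ((swap p q).symm i)) = e p := by
        funext i
        have : swap p q i = q ↔ i = p := by
          constructor
          · intro h
            have := congrArg (swap p q) h
            rwa [swap_apply_self, swap_apply_right] at this
          · rintro rfl
            exact swap_apply_left i q
        simp [e_apply, this]
      rw [e1]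
      intro h
      have := congrFun h q
      rw [Equiv.symm_swap, swap_apply_right] at this
      simp [fR, hqp, e_ne hqp, Finset.sum_ite_eq', e_apply, hqa, hqb] at this
    exact centre_fixed hf hν2 hν (K := swapC a b hab) (x := e a) (c' := ind {p, q}) hfx
      (hσ.gam_fR hab hp.1 hp.2) h1 (fR_two p)
      (gam_perm hab (swap p q) (swap_apply_of_ne_of_ne (Ne.symm hp.1) hqa.symm)
        (swap_apply_of_ne_of_ne (Ne.symm hp.2) hqb.symm))
      (perm_fix_e hp.1 hqa) (fun v => by simpa using swap_two p q v) h2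

/-- Transvections from the two sides of `x` exclude middle weights. -/
theorem Aligned.not_T_mid (hσ : σ.Aligned) {v : ι → ZMod 2} (hva : v a = 1) (hvb : v b = 0)
    {p₁ p₂ q₁ q₂ : ι} (hp : p₁ ≠ p₂) (hq : q₁ ≠ q₂) (hp₁ : v p₁ = 1 ∧ p₁ ≠ a) (hp₂ : v p₂ = 1 ∧ p₂ ≠ a)
    (hq₁ : v q₁ = 0 ∧ q₁ ≠ b) (hq₂ : v q₂ = 0 ∧ q₂ ≠ b) : ¬ σ.T (swapC a b hab) v := by
  intro h
  obtain ⟨f, hf, hfx⟩ := h.fus
  obtain ⟨ν, hν2, hν⟩ := exists_image hf
  have hpb₁ : p₁ ≠ b := fun e => by rw [e, hvb] at hp₁; exact absurd hp₁.1 (by decide)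
  have hpb₂ : p₂ ≠ b := fun e => by rw [e, hvb] at hp₂; exact absurd hp₂.1 (by decide)
  have hqa₁ : q₁ ≠ a := fun e => by rw [e, hva] at hq₁; exact absurd hq₁.1 (by decide)
  have hqa₂ : q₂ ≠ a := fun e => by rw [e, hva] at hq₂; exact absurd hq₂.1 (by decide)
  have cen : ∀ p q : ι, p ≠ q → p ≠ a → p ≠ b → q ≠ a → q ≠ b → v p = v q →
      ∃ i j, i ≠ j ∧ f ((swapC a b hab).φ (ind {p, q})) = W.base (ind {i, j}) := by
    intro p q hpq hpa hpb hqa hqb hvpq
    have hfix : (fun i => v ((swap p q).symm i)) = v := by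
      funext i
      rw [Equiv.symm_swap]
      by_cases hi : i = p
      · subst hi; simp [hvpq]
      · by_cases hj : i = q
        · subst hj; simp [hvpq]
        · simp [swap_apply_of_ne_of_ne hi hj]
    have hmoved : (fun i => e p ((swap p q).symm i)) ≠ e p := fun he => by
      have := congrFun he p
      simp [e_apply, hpq.symm] at this
    obtain ⟨i, j, h1, h2, -⟩ := centre_pair hf hν2 hν (K := swapC a b hab) (x := v) (c := ind {p, q})
      hfx (gam_perm hab (swap p q) (swap_apply_of_ne_of_ne hpa.symm hqa.symm)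
        (swap_apply_of_ne_of_ne hpb.symm hqb.symm)) hfix (fun w => by simpa using swap_two p q w)
      ⟨e p, hmoved⟩
    exact ⟨i, j, h1, h2⟩
  obtain ⟨i₁, j₁, hij₁, hc₁⟩ := cen p₁ p₂ hp hp₁.2 hpb₁ hp₂.2 hpb₂ (hp₁.1.trans hp₂.1.symm)
  obtain ⟨i₂, j₂, hij₂, hc₂⟩ := cen q₁ q₂ hq hqa₁ hq₁.2 hqa₂ hq₂.2 (hq₁.1.trans hq₂.1.symm)
  set K := swapC a b hab
  set w : ι → ZMod 2 := ind {i₁, j₁} + ind {i₂, j₂}
  set u : ι → ZMod 2 := v + (ind {p₁, p₂} + ind {q₁, q₂})
  have hfu : f (K.φ u) = W.base (1 + w) := by
    rw [K.add, K.add, hf.map_mul (K.mem _) (mul_mem (K.mem _) (K.mem _)),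
      hf.map_mul (K.mem _) (K.mem _), hfx, hc₁, hc₂, W.base_add, W.base_add]
    rfl
  have hpq : ∀ p q : ι, v p = 1 → v q = 0 → p ≠ q := fun p q h h' e => by
    rw [e, h'] at h; exact absurd h (by decide)
  -- a permutation carrying `v` to `u`
  let π : Perm ι := swap p₁ q₁ * swap p₂ q₂
  have hπu : (fun i => v (π.symm i)) = u := by
    funext i
    simp only [π, Perm.mul_def, Equiv.symm_trans_apply, Equiv.symm_swap, u, Pi.add_apply, ind_apply,
      Finset.mem_insert, Finset.mem_singleton]
    have e1 := hpq p₁ q₁ hp₁.1 hq₁.1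
    have e2 := hpq p₁ q₂ hp₁.1 hq₂.1
    have e3 := hpq p₂ q₁ hp₂.1 hq₁.1
    have e4 := hpq p₂ q₂ hp₂.1 hq₂.1
    by_cases h1 : i = p₁
    · subst h1
      simp [hp, e1, e2, swap_apply_of_ne_of_ne e3.symm hq, hp₁.1, hq₁.1, CharTwo.add_self_eq_zero]
    by_cases h2 : i = p₂
    · subst h2
      simp [hp.symm, e3, e4, swap_apply_of_ne_of_ne hp.symm e3, hp₂.1, hq₂.1, CharTwo.add_self_eq_zero]
    by_cases h3 : i = q₁
    · subst h3
      simp [hq, e1.symm, e3.symm, swap_apply_of_ne_of_ne hp e2, hp₁.1, hq₁.1]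
    by_cases h4 : i = q₂
    · subst h4
      simp [hq.symm, e2.symm, e4.symm, swap_apply_of_ne_of_ne e2.symm hq.symm, hp₂.1, hq₂.1]
    simp [h1, h2, h3, h4, swap_apply_of_ne_of_ne h1 h3, swap_apply_of_ne_of_ne h2 h4]
  have hπa : π a = a := by
    simp [π, swap_apply_of_ne_of_ne hp₂.2.symm hqa₂.symm, swap_apply_of_ne_of_ne hp₁.2.symm hqa₁.symm]
  have hπb : π b = b := by
    simp [π, swap_apply_of_ne_of_ne hpb₂.symm hq₂.2.symm, swap_apply_of_ne_of_ne hpb₁.symm hq₁.2.symm]
  have hTu : σ.T K u := by
    rw [← hπu]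
    exact ((gam_perm hab π hπa hπb).T_iff v).mpr h
  have hT : σ.T (baseC ι) (1 + w) := by
    have := hf.rel (K.mem u) (K.sq u)
    rw [hfu] at this
    exact this.symm.trans hTu
  have hw0 : w ≠ 0 := by
    intro e0
    rw [e0, add_zero, show W.base 1 = W.cst from rfl, ← hfx] at hfu
    have := congrFun (K.inj (hf.inj (K.mem _) (K.mem _) hfu)) p₁
    simp [u, hp, hpq p₁ q₁ hp₁.1 hq₁.1, hpq p₁ q₂ hp₁.1 hq₂.1] at this
  have hw4 : wt w ≤ 4 :=
    (wt_add_le _ _).trans (by rw [wt_ind, wt_ind, Finset.card_pair hij₁, Finset.card_pair hij₂])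
  have hwe : (wt w : ZMod 2) = 0 := by
    rw [← sum_eq_wt]
    simp only [w, Pi.add_apply, Finset.sum_add_distrib, sum_eq_wt, wt_ind, Finset.card_pair hij₁,
      Finset.card_pair hij₂]
    rfl
  rcases hσ.normal.T_iff_base.mp hT with h1 | ⟨c, h1⟩
  · exact hw0 (by simpa using h1)
  · rw [add_left_cancel h1, wt_e] at hwe
    exact absurd hwe (by decide)

theorem Aligned.big_of_T (hσ : σ.Aligned) {v : ι → ZMod 2} (h : σ.T (swapC a b hab) v) :
    Big a b v := by
  have h4 := hσ.normal.four
  obtain ⟨m, hm⟩ := hσ.normal.even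
  by_cases hbase : v a = v b
  · rcases (hσ.T_base hab hbase).mp h with rfl | ⟨p, hpa, hpb, rfl⟩
    · exact ⟨Or.inl rfl, fun r s _ _ _ _ hr => absurd hr one_ne_zero⟩
    · refine ⟨Or.inl (by simp [e_ne hpa.symm]), fun r s _ _ _ _ hr hs => ?_⟩
      by_cases h1 : r = p <;> by_cases h2 : s = p
      · rw [h1, h2]
      · simp [e_ne h2] at hs
      · simp [e_ne h1] at hr
      · simp [e_ne h1] at hr
  suffices main : ∀ w : ι → ZMod 2, σ.T (swapC a b hab) w → w a = 1 → w b = 0 → Big a b w by
    rcases zmod2_cases (v a) with h1 | h1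
    · have hb1 : v b = 1 := (zmod2_cases (v b)).resolve_left fun e => hbase (h1.trans e.symm)
      have := main (fun i => v (swap a b i)) (((gam_flip hab).T_iff v).mpr h) (by simpa using hb1)
        (by simpa using h1)
      refine ⟨Or.inr hb1, fun r s hra hrb hsa hsb hr hs => ?_⟩
      exact this.2 r s hra hrb hsa hsb (by simpa [swap_apply_of_ne_of_ne hra hrb] using hr)
        (by simpa [swap_apply_of_ne_of_ne hsa hsb] using hs)
    · exact main v h h1 ((zmod2_cases (v b)).resolve_right fun e => hbase (h1.trans e.symm))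
  intro w hw hwa hwb
  refine ⟨Or.inl hwa, fun r s hra hrb hsa hsb hr hs => ?_⟩
  by_contra hrs
  -- at least two ones are impossible
  have two : ∀ u : ι → ZMod 2, σ.T (swapC a b hab) u → u a = 1 → u b = 0 → ∀ p₁ p₂ q₁ q₂, p₁ ≠ p₂ →
      q₁ ≠ q₂ → (u p₁ = 1 ∧ p₁ ≠ a) → (u p₂ = 1 ∧ p₂ ≠ a) → (u q₁ = 0 ∧ q₁ ≠ b) →
      (u q₂ = 0 ∧ q₂ ≠ b) → False :=
    fun u hu ha hb _ _ _ _ e1 e2 c1 c2 c3 c4 => hσ.not_T_mid hab ha hb e1 e2 c1 c2 c3 c4 hu
  by_cases hone : ∃ p₁, p₁ ≠ a ∧ w p₁ = 1
  · obtain ⟨p₁, hp₁a, hp₁⟩ := hone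
    have hp₁b : p₁ ≠ b := fun e => by rw [e, hwb] at hp₁; exact absurd hp₁ (by decide)
    by_cases htwo : ∃ p₂, p₂ ≠ a ∧ p₂ ≠ p₁ ∧ w p₂ = 1
    · obtain ⟨p₂, hp₂a, hp₂, hp₂1⟩ := htwo
      exact two w hw hwa hwb p₁ p₂ r s hp₂.symm hrs ⟨hp₁, hp₁a⟩ ⟨hp₂1, hp₂a⟩ ⟨hr, hrb⟩ ⟨hs, hsb⟩
    · push Not at htwo
      have hw' : ∀ i, i ≠ a → i ≠ p₁ → w i = 0 :=
        fun i h1 h2 => (zmod2_cases _).resolve_right (htwo i h1 h2)
      have hsum : ∑ i ∈ Finset.univ \ {a, b}, w i = 1 := by
        rw [Finset.sum_eq_single p₁ (fun i hi h2 => ?_) (fun h => absurd (by simp [hp₁a, hp₁b]) h), hp₁]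
        simp only [Finset.mem_sdiff, Finset.mem_insert, not_or] at hi
        exact hw' i hi.2.1 h2
      have hrp : r ≠ p₁ := fun e => by rw [e, hp₁] at hr; exact absurd hr (by decide)
      set u := fR a b r w
      have hu : σ.T (swapC a b hab) u := ((hσ.gam_fR hab hra hrb).T_iff w).mpr hw
      have hua : u a = 1 := by simp [u, fR, hra.symm, hwa]
      have hub : u b = 0 := by simp [u, fR, hrb.symm, hwb]
      have hur : u r = 1 := by simp [u, fR, hsum]
      have hup : u p₁ = 1 := by simp [u, fR, hrp.symm, hp₁]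
      have hsp : s ≠ p₁ := fun e => by rw [e, hp₁] at hs; exact absurd hs (by decide)
      have hus : u s = 0 := by simp [u, fR, Ne.symm hrs, hs]
      obtain ⟨o, -, ho⟩ := Finset.exists_mem_notMem_of_card_lt_card
        (s := ({a, b, p₁, r, s} : Finset ι)) (t := Finset.univ) (by
          rw [Finset.card_univ]
          refine Finset.card_le_five.trans_lt ?_
          have h5 : 5 ≤ Fintype.card ι := by
            have hc : ({a, b, p₁, r, s} : Finset ι).card = 5 := by
              simp [hab, hp₁a.symm, hra.symm, hsa.symm, hp₁b.symm, hrb.symm, hsb.symm, hrp.symm,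
                hsp.symm, hrs]
            rw [← hc]; exact Finset.card_le_univ _
          omega)
      simp only [Finset.mem_insert, Finset.mem_singleton, not_or] at ho
      exact two u hu hua hub r p₁ s o hrp (Ne.symm ho.2.2.2.2) ⟨hur, hra⟩ ⟨hup, hp₁a⟩ ⟨hus, hsb⟩
        ⟨by simp [u, fR, ho.2.2.2.1, hw' o ho.1 ho.2.2.1], ho.2.1⟩
  · push Not at hone
    refine hσ.not_T_e hab ?_
    have : w = e a := by
      funext i
      by_cases hi : i = a
      · subst hi; simp [hwa]
      · rw [e_ne hi]; exact (zmod2_cases _).resolve_right (hone i hi)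
    rwa [this] at hw

theorem Aligned.T_x (hσ : σ.Aligned) : σ.T (swapC a b hab) (1 + e b) := by
  obtain ⟨f, z, hf, hz, hchi⟩ := transfer_chart (σ := σ) (swapC a b hab) (e a) chiP (by
    rw [swapC_φ]
    exact chiP_swap hab _ (by simp [swapVal, e_apply, hab.symm]))
  have hzT := fus_T hf hz
  have hne : chiP ((swapC a b hab).φ (e a)) ≠ 1 := by
    rw [swapC_φ]
    exact chiP_swap hab _ (by simp [swapVal, e_apply, hab.symm])
  have htw : z a ≠ z b := by
    intro hbase
    rcases (hσ.T_base hab hbase).mp hzT with rfl | ⟨p, hpa, hpb, rfl⟩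
    · rw [(swapC a b hab).one] at hz
      obtain ⟨ω, hω⟩ := hf.eq_conj (swapC a b hab).cst_mem hz
      rw [hω _ ((swapC a b hab).mem _), chi_conj] at hchi
      exact hne hchi
    · obtain ⟨g, hg, hg'⟩ := hσ.gam_fR hab hpa hpb
      have hc := hg.comp hf fun w ⟨v, hv⟩ => by rw [← hv, hg']; exact (swapC a b hab).mem _
      obtain ⟨ω, hω⟩ := hc.eq_conj (swapC a b hab).cst_mem (by
        show f (g W.cst) = W.cst
        rw [← (swapC a b hab).one, hg', fR_one hσ.normal hpa hpb hab, hz, (swapC a b hab).one])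
      have he : fR a b p (e a) = e a := by
        funext i
        by_cases hi : i = p
        · subst hi
          simp only [fR, Function.update_self]
          rw [e_ne hpa]
          exact Finset.sum_eq_zero fun j hj => e_ne (by
            simp only [Finset.mem_sdiff, Finset.mem_insert, not_or] at hj; exact hj.2.1)
        · simp [fR, hi]
      have := hω _ ((swapC a b hab).mem (e a))
      simp only [Function.comp] at this
      rw [hg', he] at this
      rw [this, chi_conj] at hchi
      exact hne hchi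
  obtain ⟨y, hy, hya, hyb⟩ : ∃ y, σ.T (swapC a b hab) y ∧ y a = 1 ∧ y b = 0 := by
    rcases zmod2_cases (z a) with h1 | h1
    · refine ⟨fun i => z (swap a b i), ((gam_flip hab).T_iff z).mpr hzT, ?_, by simpa using h1⟩
      simpa using (zmod2_cases (z b)).resolve_left fun e => htw (h1.trans e.symm)
    · exact ⟨z, hzT, h1, (zmod2_cases (z b)).resolve_right fun e => htw (h1.trans e.symm)⟩
  have hbig := hσ.big_of_T hab hy
  by_cases hall : ∀ i, i ≠ b → y i = 1
  · have : y = 1 + e b := by
      funext i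
      by_cases hi : i = b
      · subst hi; simp [hyb, CharTwo.add_self_eq_zero]
      · simp [hall i hi, e_ne hi]
    rwa [this] at hy
  push Not at hall
  obtain ⟨p, hpb, hp⟩ := hall
  have hp0 : y p = 0 := (zmod2_cases _).resolve_right hp
  have hpa : p ≠ a := fun e => by rw [e, hya] at hp0; exact absurd hp0 (by decide)
  have hy' : y = 1 + e b + e p := by
    funext i
    by_cases hi : i = b
    · subst hi; simp [hyb, e_ne hpb.symm, CharTwo.add_self_eq_zero]
    · by_cases hip : i = p
      · subst hip; simp [hp0, e_ne hi, CharTwo.add_self_eq_zero]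
      · have : y i = 1 := (zmod2_cases _).resolve_left fun h0 => by
          by_cases hia : i = a
          · subst hia; rw [hya] at h0; exact absurd h0 (by decide)
          · exact hip (hbig.2 i p hia hi hpa hpb h0 hp0)
        simp [this, e_ne hi, e_ne hip]
  have hx : fR a b p y = 1 + e b := by
    rw [hy']
    funext i
    by_cases hi : i = p
    · subst hi
      have hs : ∀ j ∈ Finset.univ \ ({a, b} : Finset ι), (1 + e b + e i : ι → ZMod 2) j = 1 + e i j := by
        intro j hj
        simp only [Finset.mem_sdiff, Finset.mem_insert, Finset.mem_singleton, not_or] at hj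
        simp [e_ne hj.2.2]
      simp only [fR, Function.update_self]
      rw [Finset.sum_congr rfl hs, Finset.sum_add_distrib, Finset.sum_const, nsmul_eq_mul, mul_one,
        Finset.sum_eq_single i (fun j _ h => e_ne h) (fun h => absurd (by simp [hpa, hpb]) h), e_self]
      obtain ⟨m, hm⟩ := hσ.normal.even
      have h1 := card_rest hab
      have h4 := hσ.normal.four
      rw [ZMod.natCast_eq_zero_iff_even.mpr ⟨m - 1, by omega⟩]
      simp [e_ne hpb]
    · simp [fR, hi, e_ne hi]
  rw [← hx]
  exact ((hσ.gam_fR hab hpa hpb).T_iff y).mpr hy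

theorem Aligned.T_iff (hσ : σ.Aligned) {v : ι → ZMod 2} :
    σ.T (swapC a b hab) v ↔ Big a b v := by
  refine ⟨hσ.big_of_T hab, fun ⟨hor, huniq⟩ => ?_⟩
  obtain ⟨m, hm⟩ := hσ.normal.even
  have h4 := hσ.normal.four
  have hcard := card_rest hab
  by_cases hR : ∀ i, i ≠ a → i ≠ b → v i = 1
  · by_cases hbase : v a = v b
    · refine (hσ.T_base hab hbase).mpr (Or.inl (funext fun i => ?_))
      have : v a = 1 := hor.elim id fun h => hbase.trans h
      by_cases hia : i = a
      · subst hia; exact this
      · by_cases hib : i = b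
        · subst hib; exact hbase ▸ this
        · exact hR i hia hib
    · rcases zmod2_cases (v a) with h1 | h1
      · rw [← (gam_flip hab).T_iff]
        convert hσ.T_x hab using 1
        funext i
        by_cases hia : i = a
        · subst hia
          simp [e_ne hab, hor.resolve_left (by rw [h1]; decide)]
        · by_cases hib : i = b
          · subst hib; simp [h1, CharTwo.add_self_eq_zero]
          · simp [swap_apply_of_ne_of_ne hia hib, hR i hia hib, e_ne hib]
      · convert hσ.T_x hab using 1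
        funext i
        by_cases hia : i = a
        · subst hia; simp [h1, e_ne hab]
        · by_cases hib : i = b
          · subst hib
            simp [(zmod2_cases (v i)).resolve_right fun e => hbase (h1.trans e.symm),
              CharTwo.add_self_eq_zero]
          · simp [hR i hia hib, e_ne hib]
  push Not at hR
  obtain ⟨p, hpa, hpb, hp⟩ := hR
  have hp0 : v p = 0 := (zmod2_cases _).resolve_right hp
  have hR' : ∀ i, i ≠ a → i ≠ b → i ≠ p → v i = 1 := fun i h1 h2 h3 =>
    (zmod2_cases _).resolve_left fun h0 => h3 (huniq i p h1 h2 hpa hpb h0 hp0)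
  rw [← (hσ.gam_fR hab hpa hpb).T_iff]
  have hfull : fR a b p v = Function.update v p 1 := by
    rw [fR]
    congr 1
    rw [← Finset.add_sum_erase _ _ (show p ∈ Finset.univ \ {a, b} by simp [hpa, hpb]), hp0, zero_add,
      Finset.sum_congr rfl (g := fun _ => (1 : ZMod 2)) (fun i hi => by
        simp only [Finset.mem_erase, Finset.mem_sdiff, Finset.mem_insert, Finset.mem_singleton,
          not_or] at hi
        exact hR' i hi.2.2.1 hi.2.2.2 hi.1),
      Finset.sum_const, nsmul_eq_mul, mul_one, Finset.card_erase_of_mem (by simp [hpa, hpb])]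
    exact Odd.natCast_zmod_two ⟨m - 2, by omega⟩
  rw [hfull]
  by_cases hbase : v a = v b
  · refine (hσ.T_base hab (by simp [hpa.symm, hpb.symm, hbase])).mpr (Or.inl (funext fun i => ?_))
    by_cases hip : i = p
    · subst hip; simp
    · simp only [Function.update_of_ne hip, Pi.one_apply]
      by_cases hia : i = a
      · subst hia; exact hor.elim id fun h => hbase.trans h
      · by_cases hib : i = b
        · subst hib; exact hor.elim (fun h => hbase.symm.trans h) id
        · exact hR' i hia hib hip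
  · rcases zmod2_cases (v a) with h1 | h1
    · rw [← (gam_flip hab).T_iff]
      convert hσ.T_x hab using 1
      funext i
      by_cases hia : i = a
      · subst hia
        simp [e_ne hab, hpb.symm, hor.resolve_left (by rw [h1]; decide)]
      · by_cases hib : i = b
        · subst hib; simp [h1, hpa.symm, CharTwo.add_self_eq_zero]
        · rw [swap_apply_of_ne_of_ne hia hib]
          by_cases hip : i = p
          · subst hip; simp [e_ne hib]
          · simp [Function.update_of_ne hip, hR' i hia hib hip, e_ne hib]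
    · convert hσ.T_x hab using 1
      funext i
      by_cases hia : i = a
      · subst hia; simp [h1, e_ne hab, hpa.symm]
      · by_cases hib : i = b
        · subst hib
          simp [(zmod2_cases (v i)).resolve_right fun e => hbase (h1.trans e.symm), hpb.symm,
            CharTwo.add_self_eq_zero]
        · by_cases hip : i = p
          · subst hip; simp [e_ne hib]
          · simp [Function.update_of_ne hip, hR' i hia hib hip, e_ne hib]

end Setup

end Cfsg.Agent.H67.Kondo
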