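import Cfsg.Agent.H67.Kondo.Model
import Mathlib.Data.Finset.Sort
import Mathlib.GroupTheory.Perm.Cycle.Type

/-!
The map of the centralizer of an involution in a symmetric group onto signed permutations of its
transpositions.
-/

set_option autoImplicit false
set_option linter.unusedSectionVars false
set_option linter.unusedSimpArgs false

namespace Cfsg.Agent.H67.Kondo

open Equiv

variable {m : ℕ} (a : Perm (Fin m))

/-- The transpositions of `a`, by their smaller point. -/
abbrev Pairs : Type := {x : Fin m // x < a x}

variable {a}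

/-- The smaller point of the pair of `x`. -/
def rep (a : Perm (Fin m)) (x : Fin m) : Fin m := if x < a x then x else a x

/-- The position of `x` in its pair. -/
def bit (a : Perm (Fin m)) (x : Fin m) : ZMod 2 := if x < a x then 0 else 1

theorem apply_apply (ha : a * a = 1) (x : Fin m) : a (a x) = x :=
  congrArg (fun e : Perm (Fin m) => e x) ha

theorem rep_lt (ha : a * a = 1) {x : Fin m} (hx : a x ≠ x) : rep a x < a (rep a x) := by
  unfold rep
  split_ifs with h
  · exact h
  · rw [apply_apply ha]
    exact lt_of_le_of_ne (not_lt.mp h) hx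

theorem lt_flip (ha : a * a = 1) {x : Fin m} (hx : a x ≠ x) : a x < a (a x) ↔ ¬ x < a x := by
  rw [apply_apply ha]
  exact ⟨fun h => not_lt.mpr h.le, fun h => lt_of_le_of_ne (not_lt.mp h) hx⟩

theorem rep_a (ha : a * a = 1) {x : Fin m} (hx : a x ≠ x) : rep a (a x) = rep a x := by
  by_cases h : x < a x
  · rw [rep, rep, if_neg ((lt_flip ha hx).not.mpr (not_not.mpr h)), if_pos h, apply_apply ha]
  · simp [rep, h, (lt_flip ha hx).mpr h]

theorem bit_a (ha : a * a = 1) {x : Fin m} (hx : a x ≠ x) : bit a (a x) = bit a x + 1 := by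
  by_cases h : x < a x
  · simp [bit, h, (lt_flip ha hx).not.mpr (not_not.mpr h)]
  · simp [bit, h, (lt_flip ha hx).mpr h, CharTwo.add_self_eq_zero]

theorem eq_of_rep_bit (ha : a * a = 1) {x y : Fin m} (h1 : rep a x = rep a y)
    (h2 : bit a x = bit a y) : x = y := by
  unfold rep bit at *
  split_ifs at h1 h2 with hx hy hy
  · exact h1
  · exact absurd h2 (by decide)
  · exact absurd h2 (by decide)
  · exact a.injective h1

theorem moved_of_lt {x : Fin m} (h : x < a x) : a x ≠ x := h.ne'

theorem rep_of_lt {x : Fin m} (h : x < a x) : rep a x = x := if_pos h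

theorem bit_of_lt {x : Fin m} (h : x < a x) : bit a x = 0 := if_pos h

theorem moved_apply {g : Perm (Fin m)} (hg : g * a = a * g) {x : Fin m} (hx : a x ≠ x) :
    a (g x) ≠ g x := by
  rw [show a (g x) = g (a x) from (congrArg (fun e : Perm (Fin m) => e x) hg).symm]
  exact fun h => hx (g.injective h)

/-- The permutation of the pairs. -/
noncomputable def pairPerm (ha : a * a = 1) (g : Perm (Fin m)) (hg : g * a = a * g) :
    Perm (Pairs a) :=
  Equiv.ofBijective (fun i => ⟨rep a (g i.1), rep_lt ha (moved_apply hg (moved_of_lt i.2))⟩)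
    (Finite.injective_iff_bijective.mp fun i j h => by
      have h1 : rep a (g i.1) = rep a (g j.1) := congrArg Subtype.val h
      have hga : g (a i.1) = a (g i.1) := congrArg (fun e : Perm (Fin m) => e i.1) hg
      have hi := moved_apply hg (moved_of_lt i.2)
      by_cases h2 : bit a (g i.1) = bit a (g j.1)
      · exact Subtype.ext (g.injective (eq_of_rep_bit ha h1 h2))
      · exfalso
        have h3 : g (a i.1) = g j.1 := by
          refine eq_of_rep_bit ha (by rw [hga, rep_a ha hi, h1]) ?_
          rw [hga, bit_a ha hi]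
          revert h2
          generalize bit a (g i.1) = p, bit a (g j.1) = q
          decide +revert
        have h4 := g.injective h3
        have h5 := j.2
        rw [← h4, apply_apply ha] at h5
        exact lt_asymm i.2 h5)

theorem pairPerm_apply (ha : a * a = 1) (g : Perm (Fin m)) (hg : g * a = a * g) (i : Pairs a) :
    (pairPerm ha g hg i).1 = rep a (g i.1) := rfl

/-- The signed permutation of a permutation commuting with `a`. -/
noncomputable def signed (ha : a * a = 1) (g : Perm (Fin m)) (hg : g * a = a * g) : W (Pairs a) :=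
  ⟨fun j => bit a (g ((pairPerm ha g hg).symm j).1), pairPerm ha g hg⟩

theorem signed_mul (ha : a * a = 1) {g h : Perm (Fin m)} (hg : g * a = a * g) (hh : h * a = a * h)
    (hgh : g * h * a = a * (g * h)) :
    signed ha (g * h) hgh = signed ha g hg * signed ha h hh := by
  have key : ∀ x, a x ≠ x → rep a (g x) = rep a (g (rep a x)) ∧
      bit a (g x) = bit a x + bit a (g (rep a x)) := by
    intro x hx
    by_cases hlt : x < a x
    · simp [rep_of_lt hlt, bit_of_lt hlt]
    · have e1 : rep a x = a x := if_neg hlt
      have e2 : bit a x = 1 := if_neg hlt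
      have e3 : g (a x) = a (g x) := congrArg (fun e : Perm (Fin m) => e x) hg
      rw [e1, e2, e3, rep_a ha (moved_apply hg hx), bit_a ha (moved_apply hg hx)]
      refine ⟨rfl, ?_⟩
      generalize bit a (g x) = p
      decide +revert
  have hp : pairPerm ha (g * h) hgh = pairPerm ha g hg * pairPerm ha h hh := by
    ext i : 1
    refine Subtype.ext ?_
    rw [Perm.mul_apply, pairPerm_apply, pairPerm_apply, pairPerm_apply, Perm.mul_apply]
    exact (key _ (moved_apply hh (moved_of_lt i.2))).1
  refine W.ext (funext fun j => ?_) hp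
  obtain ⟨i, rfl⟩ := (pairPerm ha (g * h) hgh).surjective j
  simp only [signed, W.mul_v, Equiv.symm_apply_apply]
  rw [show (pairPerm ha g hg).symm (pairPerm ha (g * h) hgh i) = pairPerm ha h hh i by
      rw [hp, Perm.mul_apply, Equiv.symm_apply_apply],
    Equiv.symm_apply_apply, pairPerm_apply, Perm.mul_apply,
    (key _ (moved_apply hh (moved_of_lt i.2))).2, add_comm]

/-- The homomorphism. -/
noncomputable def toW (ha : a * a = 1) : ↥(Subgroup.centralizer ({a} : Set (Perm (Fin m)))) →* W (Pairs a) :=
  MonoidHom.mk' (fun g => signed ha g.1 (Subgroup.mem_centralizer_singleton_iff.mp g.2))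
    fun g h => signed_mul ha _ _ _

theorem fix_of_signed_eq_one (ha : a * a = 1) {g : Perm (Fin m)} (hg : g * a = a * g)
    (h : signed ha g hg = 1) {x : Fin m} (hx : a x ≠ x) : g x = x := by
  have key : ∀ i : Pairs a, g i.1 = i.1 := by
    intro i
    have hp : pairPerm ha g hg = 1 := congrArg W.p h
    have h1 : rep a (g i.1) = i.1 := by
      rw [← pairPerm_apply ha g hg, hp]; rfl
    have h2 := congrFun (congrArg W.v h) i
    simp only [signed, W.one_v, Pi.zero_apply, hp, perm_one_symm_apply] at h2
    exact eq_of_rep_bit ha (h1.trans (rep_of_lt i.2).symm) (h2.trans (bit_of_lt i.2).symm)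
  by_cases hlt : x < a x
  · exact key ⟨x, hlt⟩
  · have := key ⟨a x, (lt_flip ha hx).mpr hlt⟩
    simp only at this
    rw [show g (a x) = a (g x) from congrArg (fun e : Perm (Fin m) => e x) hg] at this
    exact a.injective this

theorem card_fixed (_ha : a * a = 1) :
    (Finset.univ.filter fun x => a x = x).card + a.support.card = m := by
  have h : a.support = (Finset.univ.filter fun x => a x = x)ᶜ := by ext x; simp
  rw [h, Finset.card_add_card_compl, Fintype.card_fin]

theorem card_pairs (ha : a * a = 1) : 2 * Fintype.card (Pairs a) = a.support.card := by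
  have h1 : a.support = (Finset.univ.filter fun x => x < a x) ∪ Finset.univ.filter fun x => a x < x := by
    ext x
    simp only [Perm.mem_support, Finset.mem_union, Finset.mem_filter, Finset.mem_univ, true_and]
    exact ⟨fun h => (lt_or_gt_of_ne h).symm, fun h => h.elim (fun h => h.ne') fun h => h.ne⟩
  have h2 : (Finset.univ.filter fun x => a x < x).card = (Finset.univ.filter fun x => x < a x).card := by
    refine Finset.card_bij (fun x _ => a x) (fun x hx => ?_) (fun x _ y _ h => a.injective h) fun x hx => ?_
    · simp only [Finset.mem_filter, Finset.mem_univ, true_and] at hx ⊢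
      rwa [apply_apply ha]
    · refine ⟨a x, ?_, apply_apply ha x⟩
      simp only [Finset.mem_filter, Finset.mem_univ, true_and] at hx ⊢
      rwa [apply_apply ha]
  rw [h1, Finset.card_union_of_disjoint, h2, Fintype.card_subtype]
  · omega
  · rw [Finset.disjoint_filter]
    exact fun x _ h => h.not_gt

theorem signed_ker (ha : a * a = 1) (hfix : (Finset.univ.filter fun x => a x = x).card ≤ 3)
    {g : Perm (Fin m)} (hg : g * a = a * g) (hs : Perm.sign g = 1) (hg2 : g * g = 1)
    (h : signed ha g hg = 1) : g = 1 := by
  by_contra hne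
  have hsub : g.support ⊆ Finset.univ.filter fun x => a x = x := by
    intro x hx
    rw [Perm.mem_support] at hx
    simp only [Finset.mem_filter, Finset.mem_univ, true_and]
    by_contra hax
    exact hx (fix_of_signed_eq_one ha hg h hax)
  have hord : orderOf g = 2 := orderOf_eq_prime (by rw [pow_two, hg2]) hne
  obtain ⟨k, hk⟩ := Perm.cycleType_prime_order (σ := g) (by rw [hord]; exact Nat.prime_two)
  have hc : g.support.card = (k + 1) * 2 := by
    rw [← Perm.sum_cycleType, hk, hord, Multiset.sum_replicate, smul_eq_mul]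
  have := (Finset.card_le_card hsub).trans hfix
  have h2 : g.support.card = 2 := by omega
  have hswap : g.IsSwap := Perm.card_support_eq_two.mp h2
  rw [hswap.sign_eq] at hs
  exact absurd hs (by decide)

/-- The permutation of a signed permutation. -/
def unsigned (ha : a * a = 1) (w : W (Pairs a)) (x : Fin m) : Fin m :=
  if hx : a x ≠ x then
    (if bit a x + w.v (w.p ⟨rep a x, rep_lt ha hx⟩) = 0 then (w.p ⟨rep a x, rep_lt ha hx⟩).1
      else a (w.p ⟨rep a x, rep_lt ha hx⟩).1)
  else x

theorem unsigned_moved (ha : a * a = 1) (w : W (Pairs a)) {x : Fin m} (hx : a x ≠ x) :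
    rep a (unsigned ha w x) = (w.p ⟨rep a x, rep_lt ha hx⟩).1 ∧
      bit a (unsigned ha w x) = bit a x + w.v (w.p ⟨rep a x, rep_lt ha hx⟩) ∧
      a (unsigned ha w x) ≠ unsigned ha w x := by
  have hlt := (w.p ⟨rep a x, rep_lt ha hx⟩).2
  simp only [unsigned, dif_pos hx]
  split_ifs with h
  · exact ⟨rep_of_lt hlt, (bit_of_lt hlt).trans h.symm, moved_of_lt hlt⟩
  · refine ⟨(rep_a ha (moved_of_lt hlt)).trans (rep_of_lt hlt), ?_,
      fun e => moved_of_lt hlt (a.injective e)⟩
    rw [bit_a ha (moved_of_lt hlt), bit_of_lt hlt, zero_add]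
    exact ((zmod2_cases _).resolve_left h).symm

theorem unsigned_fixed (ha : a * a = 1) (w : W (Pairs a)) {x : Fin m} (hx : a x = x) :
    unsigned ha w x = x := dif_neg (not_not.mpr hx)

theorem exists_signed (ha : a * a = 1) (hfix : 2 ≤ (Finset.univ.filter fun x => a x = x).card)
    (w : W (Pairs a)) :
    ∃ g, ∃ hg : g * a = a * g, Perm.sign g = 1 ∧ signed ha g hg = w := by
  have hinj : Function.Injective (unsigned ha w) := by
    intro x y h
    by_cases hx : a x = x <;> by_cases hy : a y = y
    · rwa [unsigned_fixed ha w hx, unsigned_fixed ha w hy] at h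
    · have := (unsigned_moved ha w hy).2.2
      rw [← h, unsigned_fixed ha w hx] at this
      exact absurd hx this
    · have := (unsigned_moved ha w hx).2.2
      rw [h, unsigned_fixed ha w hy] at this
      exact absurd hy this
    · obtain ⟨r1, b1, -⟩ := unsigned_moved ha w hx
      obtain ⟨r2, b2, -⟩ := unsigned_moved ha w hy
      rw [h] at r1 b1
      have h1 : (⟨rep a x, rep_lt ha hx⟩ : Pairs a) = ⟨rep a y, rep_lt ha hy⟩ :=
        w.p.injective (Subtype.ext (r1.symm.trans r2))
      rw [h1] at b1
      exact eq_of_rep_bit ha (congrArg Subtype.val h1) (add_right_cancel (b1.symm.trans b2))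
  let g : Perm (Fin m) := Equiv.ofBijective _ (Finite.injective_iff_bijective.mp hinj)
  have hg : g * a = a * g := by
    ext x : 1
    show unsigned ha w (a x) = a (unsigned ha w x)
    by_cases hx : a x = x
    · rw [hx, unsigned_fixed ha w hx, hx]
    · have hax : a (a x) ≠ a x := fun e => hx (a.injective e)
      obtain ⟨r1, b1, -⟩ := unsigned_moved ha w hax
      obtain ⟨r2, b2, n2⟩ := unsigned_moved ha w hx
      have e : (⟨rep a (a x), rep_lt ha hax⟩ : Pairs a) = ⟨rep a x, rep_lt ha hx⟩ :=
        Subtype.ext (rep_a ha hx)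
      refine eq_of_rep_bit ha ?_ ?_
      · rw [r1, rep_a ha n2, r2, e]
      · rw [b1, bit_a ha n2, b2, bit_a ha hx, e]
        ring
  have hval : ∀ g' : Perm (Fin m), ∀ hg' : g' * a = a * g', (∀ x, a x ≠ x → g' x = g x) →
      signed ha g' hg' = w := by
    intro g' hg' hagree
    have hp : ∀ i : Pairs a, pairPerm ha g' hg' i = w.p i := fun i => by
      refine Subtype.ext ?_
      rw [pairPerm_apply, hagree _ (moved_of_lt i.2)]
      have := (unsigned_moved ha w (moved_of_lt i.2)).1
      simp only [rep_of_lt i.2] at this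
      exact this
    refine W.ext (funext fun j => ?_) (Equiv.ext hp)
    obtain ⟨i, rfl⟩ := (pairPerm ha g' hg').surjective j
    simp only [signed, Equiv.symm_apply_apply]
    rw [hagree _ (moved_of_lt i.2), hp]
    have := (unsigned_moved ha w (moved_of_lt i.2)).2.1
    simp only [bit_of_lt i.2, zero_add, rep_of_lt i.2] at this
    exact this
  rcases Int.units_eq_one_or (Perm.sign g) with hs | hs
  · exact ⟨g, hg, hs, hval g hg fun _ _ => rfl⟩
  · obtain ⟨f₁, hf₁, f₂, hf₂, hne⟩ := Finset.one_lt_card.mp hfix
    simp only [Finset.mem_filter, Finset.mem_univ, true_and] at hf₁ hf₂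
    have hcomm : swap f₁ f₂ * a = a * swap f₁ f₂ := by
      have := swap_apply_apply a f₁ f₂
      rw [hf₁, hf₂] at this
      rwa [eq_mul_inv_iff_mul_eq] at this
    refine ⟨g * swap f₁ f₂, by rw [mul_assoc, hcomm, ← mul_assoc, hg, mul_assoc], ?_,
      hval _ _ fun x hx => ?_⟩
    · rw [map_mul, hs, Perm.sign_swap hne]; rfl
    · rw [Perm.mul_apply, swap_apply_of_ne_of_ne (fun e => hx (by rw [e, hf₁]))
        fun e => hx (by rw [e, hf₂])]

/-- The centre of the signed permutation group. -/
theorem eq_cst_of_central {ι : Type*} [Fintype ι] [DecidableEq ι] {w : W ι}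
    (h : ∀ x, Commute w x) (hne : w ≠ 1) : w = W.cst := by
  have hp : w.p = 1 := by
    ext i
    have h1 : w * W.base (ind {i}) * w⁻¹ = W.base (ind {i}) := by
      rw [(h _).eq, mul_inv_cancel_right]
    rw [W.conj_base] at h1
    have h2 := congrFun (W.base_injective h1) (w.p i)
    simp at h2
    simpa using h2
  have hconst : ∀ i j, w.v i = w.v j := by
    intro i j
    have h1 := ((W.commute_iff _ _).mp (h (W.perm (swap i j)))).2 i
    simpa [hp] using h1
  refine W.ext (funext fun i => (zmod2_cases _).resolve_left fun h0 => hne ?_) hp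
  exact W.ext (funext fun j => (hconst j i).trans h0) hp

end Cfsg.Agent.H67.Kondo
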