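import Cfsg.Agent.H67.Kondo.Elementary
import Mathlib.Tactic.Abel
import Mathlib.Tactic.Group

/-!
Transvections induced on the subgroup of a matching by signed permutations.
-/

set_option autoImplicit false
set_option linter.unusedSectionVars false
set_option linter.unusedSimpArgs false

namespace Cfsg.Agent.H67.Kondo

open Equiv

variable {ι : Type*} [Fintype ι] [DecidableEq ι]

/-- `ω` induces a transvection with centre `c` on the subgroup of `μ`. -/
structure Transv (μ : Perm ι) (ω c : W ι) : Prop where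
  norm : ∀ a, MemM μ a → MemM μ (ω * a * ω⁻¹)
  mem : MemM μ c
  ne : c ≠ 1
  two : ∀ a, MemM μ a → ω * a * ω⁻¹ = a ∨ ω * a * ω⁻¹ = a * c
  moved : ∃ a, MemM μ a ∧ ω * a * ω⁻¹ ≠ a

/-- A permutation moving each point inside its `μ`-block commutes with `μ`. -/
theorem matched_mu {μ p : Perm ι} (hμ : μ * μ = 1) (hp : ∀ k, p k = k ∨ p k = μ k) (k : ι) :
    p (μ k) = μ (p k) := by
  have hμ' : μ (μ k) = k := congrArg (fun e : Perm ι => e k) hμ
  rcases hp k with e | e <;> rcases hp (μ k) with f | f <;> rw [e, f]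
  · rw [hμ'] at f ⊢
    have h5 := p.injective (f.trans e.symm)
    exact h5.symm
  · rw [hμ']
    have h5 := p.injective (f.trans e.symm)
    exact h5

/-- Two such permutations commute. -/
theorem matched_comm {μ p q : Perm ι} (hμ : μ * μ = 1) (hp : ∀ k, p k = k ∨ p k = μ k)
    (hq : ∀ k, q k = k ∨ q k = μ k) (k : ι) : p (q k) = q (p k) := by
  rcases hp k with e | e <;> rcases hq k with f | f <;> rw [e, f]
  · exact e
  · rw [matched_mu hμ hp, e]
  · rw [matched_mu hμ hq, f, e]
  · rw [matched_mu hμ hp, matched_mu hμ hq, e, f]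

namespace Transv

variable {μ : Perm ι} {ω c : W ι}

theorem apply_mu (hμ : μ * μ = 1) (i : ι) : μ (μ i) = i := congrArg (fun e : Perm ι => e i) hμ

theorem centre_eq (h : Transv μ ω c) (hμ : μ * μ = 1) :
    ∃ i j, i ≠ j ∧ c = W.base (ind {i, j}) ∧
      ((μ i = i ∧ μ j = j ∧ ω.p i = j) ∨
        (μ i = j ∧ ∀ v : ι → ZMod 2, (∀ k, v (μ k) = v k) → ω * W.base v * ω⁻¹ = W.base v)) := by
  by_cases hout : ∃ i, ω.p i ≠ i ∧ ω.p i ≠ μ i
  · obtain ⟨i, hi1, hi2⟩ := hout
    have hfix : μ i = i := by
      by_contra hne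
      have hcb : c.p = 1 := by
        obtain ⟨b, hb, hb'⟩ : ∃ b, MemM μ b ∧ b = W.base (ind {i, μ i}) := by
          refine ⟨_, MemM.base fun k => ?_, rfl⟩
          by_cases h1 : k = i
          · subst h1; simp
          · by_cases h2 : k = μ i
            · subst h2; simp [apply_mu hμ]
            · have h3 : μ k ≠ i := fun e => h2 (by rw [← e, apply_mu hμ])
              have h4 : μ k ≠ μ i := fun e => h1 (μ.injective e)
              simp [h1, h2, h3, h4]
        rcases h.two b hb with h1 | h1
        · exfalso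
          rw [hb', W.conj_base] at h1
          have h2 := congrFun (W.base_injective h1) (ω.p i)
          simp [hi1, hi2] at h2
        · rw [hb', W.conj_base] at h1
          simpa using (congrArg W.p h1).symm
      have h1 := h.two _ (MemM.perm_swap hμ i)
      have h2 : (ω * W.perm (swap i (μ i)) * ω⁻¹).p = swap i (μ i) := by
        rcases h1 with h1 | h1 <;> rw [h1] <;> simp [hcb]
      have h3 := congrArg (fun e : Perm ι => e (ω.p i)) h2
      simp [Perm.mul_def, swap_apply_of_ne_of_ne hi1 hi2] at h3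
      exact hne h3
    have hb : MemM μ (W.base (ind {i})) := MemM.base fun k => by
      by_cases h1 : k = i
      · subst h1; rw [hfix]
      · have : μ k ≠ i := fun e => h1 (μ.injective (e.trans hfix.symm))
        simp [h1, this]
    have himg : ω * W.base (ind {i}) * ω⁻¹ = W.base (ind {ω.p i}) := by
      rw [W.conj_base, ind_comp]; simp
    have hjfix : μ (ω.p i) = ω.p i := by
      have := (h.norm _ hb).1 (ω.p i)
      rw [himg] at this
      simpa using this
    refine ⟨i, ω.p i, hi1.symm, ?_, Or.inl ⟨hfix, hjfix, rfl⟩⟩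
    rcases h.two _ hb with h1 | h1
    · rw [himg] at h1
      exact absurd (ind_injective (W.base_injective h1)) (by simp [hi1])
    · rw [himg] at h1
      have : c = (W.base (ind {i}))⁻¹ * W.base (ind {ω.p i}) := by rw [h1, inv_mul_cancel_left]
      rw [this, ind_pair hi1.symm]
      ext k <;> simp
  · push Not at hout
    have hπ : ∀ k, ω.p k = k ∨ ω.p k = μ k := fun k =>
      (em (ω.p k = k)).imp id (hout k)
    have hfixb : ∀ v : ι → ZMod 2, (∀ k, v (μ k) = v k) → ω * W.base v * ω⁻¹ = W.base v := by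
      intro v hv
      rw [W.conj_base]
      congr 1
      funext k
      obtain ⟨l, rfl⟩ := ω.p.surjective k
      rw [Equiv.symm_apply_apply]
      rcases hπ l with e | e <;> rw [e]
      exact (hv l).symm
    have hval : ∀ a, MemM μ a → ∀ k,
        (ω * a * ω⁻¹).v k = a.v k + (ω.v k + ω.v (a.p k)) := by
      intro a ha k
      have hcom : ω.p (a.p (ω.p.symm k)) = a.p k := by
        rw [matched_comm hμ hπ ha.2, Equiv.apply_symm_apply]
      have hinv : a.p.symm (ω.p.symm k) = a.p (ω.p.symm k) := by
        rw [Equiv.symm_apply_eq]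
        rcases ha.2 (ω.p.symm k) with e | e
        · rw [e, e]
        · rw [e, matched_mu hμ ha.2, e, apply_mu hμ]
      rw [← hinv] at hcom
      have hvv : a.v (ω.p.symm k) = a.v k := by
        obtain ⟨l, rfl⟩ := ω.p.surjective k
        rw [Equiv.symm_apply_apply]
        rcases hπ l with e | e <;> rw [e]
        exact (ha.1 l).symm
      rw [W.conj_v, hcom, hvv]
      abel
    have hpp : ∀ a, MemM μ a → ∀ k, ω.v (a.p k) ≠ ω.v k → a.p k = μ k ∧ μ k ≠ k := by
      intro a ha k hk
      rcases ha.2 k with e | e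
      · exact absurd (by rw [e]) hk
      · exact ⟨e, fun e' => hk (by rw [e, e'])⟩
    obtain ⟨a, ha, hmov⟩ := h.moved
    obtain ⟨i, hi⟩ : ∃ i, ω.v (μ i) ≠ ω.v i := by
      by_contra hall
      push Not at hall
      refine hmov (W.ext (funext fun k => ?_) ?_)
      · rw [hval a ha k]
        rcases ha.2 k with e | e <;> rw [e]
        · rw [CharTwo.add_self_eq_zero, add_zero]
        · rw [hall k, CharTwo.add_self_eq_zero, add_zero]
      · rw [W.conj_p]
        ext k
        rcases h.two a ha with h1 | h1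
        · exact congrArg (fun w : W ι => w.p k) h1
        · have h2 := (h.norm a ha).2
          have key : ∀ l, ω.p (a.p l) = a.p (ω.p l) := matched_comm hμ hπ ha.2
          simp only [Perm.mul_apply]
          rw [key]
          simp
    have hne : μ i ≠ i := fun e => hi (by rw [e])
    refine ⟨i, μ i, hne.symm, ?_, Or.inr ⟨rfl, hfixb⟩⟩
    have hs := MemM.perm_swap (μ := μ) hμ i
    have hv : (ω * W.perm (swap i (μ i)) * ω⁻¹).v = ind {i, μ i} := by
      funext k
      rw [hval _ hs k]
      by_cases h1 : k = i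
      · subst h1
        simp
        rcases zmod2_cases (ω.v k) with e | e <;> rcases zmod2_cases (ω.v (μ k)) with f | f <;>
          simp_all [CharTwo.add_self_eq_zero]
      · by_cases h2 : k = μ i
        · subst h2
          simp
          rcases zmod2_cases (ω.v i) with e | e <;> rcases zmod2_cases (ω.v (μ i)) with f | f <;>
            simp_all [CharTwo.add_self_eq_zero]
        · simp [swap_apply_of_ne_of_ne h1 h2, h1, h2, CharTwo.add_self_eq_zero]
    rcases h.two _ hs with h1 | h1
    · rw [h1] at hv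
      have := congrFun hv i
      simp at this
    · rw [h1] at hv
      have hp := congrArg W.p h1
      simp only [W.conj_p, W.perm_p, W.mul_p, W.inv_p] at hp
      have hcp : c.p = 1 := by
        have h6 : ω.p * swap i (μ i) * ω.p⁻¹ = swap i (μ i) := by
          rw [← swap_apply_apply]
          rcases hπ i with e | e <;> rcases hπ (μ i) with f | f <;> rw [e, f]
          · rw [apply_mu hμ] at f
            exact absurd (ω.p.injective (f.trans e.symm)) hne
          · exact absurd (ω.p.injective (f.trans e.symm)) hne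
          · rw [apply_mu hμ, swap_comm]
        rw [h6] at hp
        exact mul_left_cancel (hp.symm.trans (mul_one _).symm)
      refine W.ext (funext fun k => ?_) hcp
      have := congrFun hv (swap i (μ i) k)
      simp only [W.mul_v, W.perm_v, W.perm_p, W.base_v, Pi.zero_apply, zero_add, swap_apply_self,
        Equiv.symm_swap] at this ⊢
      rw [this]
      by_cases h1 : k = i
      · subst h1; simp [hne.symm]
      · by_cases h2 : k = μ i
        · subst h2; simp
        · simp [swap_apply_of_ne_of_ne h1 h2, h1, h2]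

/-- A conjugate of a base element has the same weight. -/
theorem wt_conj (ω : W ι) (v : ι → ZMod 2) :
    ∃ w, ω * W.base v * ω⁻¹ = W.base w ∧ wt w = wt v :=
  ⟨_, W.conj_base ω v, wt_comp v ω.p.symm⟩

/-- A transvection of fixed type fixes every block. -/
theorem fix_base (h : Transv μ ω c) {i j : ι} (hij : i ≠ j) (hc : c = W.base (ind {i, j}))
    (s : Finset ι) (hs : MemM μ (W.base (ind s))) (hd : Disjoint s {i, j}) :
    ω * W.base (ind s) * ω⁻¹ = W.base (ind s) := by
  refine (h.two _ hs).resolve_right fun h1 => ?_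
  obtain ⟨w, hw, hwt⟩ := wt_conj ω (ind s)
  rw [hw, hc, ← W.base_add, ← ind_union hd] at h1
  rw [W.base_injective h1, wt_ind, wt_ind, Finset.card_union_of_disjoint hd,
    Finset.card_pair hij] at hwt
  omega

theorem mem_pair {hμ : μ * μ = 1} {i : ι} : MemM μ (W.base (ind {i, μ i})) :=
  MemM.base fun k => by
    by_cases h1 : k = i
    · subst h1; simp
    · by_cases h2 : k = μ i
      · subst h2; simp [apply_mu hμ]
      · have h3 : μ k ≠ i := fun e => h2 (by rw [← e, apply_mu hμ])
        have h4 : μ k ≠ μ i := fun e => h1 (μ.injective e)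
        simp [h1, h2, h3, h4]

variable {ω' c' : W ι}

/-- Two transvections fixing each other's centres commute on the subgroup. -/
theorem comm_of_fix (h : Transv μ ω c) (h' : Transv μ ω' c') (e : ω * c' * ω⁻¹ = c')
    (e' : ω' * c * ω'⁻¹ = c) (hcc : Commute c c') {a : W ι} (ha : MemM μ a) :
    ω * ω' * a * (ω * ω')⁻¹ = ω' * ω * a * (ω' * ω)⁻¹ := by
  have l : ∀ x y : W ι, x * y * a * (x * y)⁻¹ = x * (y * a * y⁻¹) * x⁻¹ := fun x y => by group
  have r : ∀ x u v : W ι, x * (u * v) * x⁻¹ = (x * u * x⁻¹) * (x * v * x⁻¹) := fun x u v => by group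
  rw [l, l]
  rcases h.two a ha with p | p <;> rcases h'.two a ha with q | q
  · rw [q, p, q]
  · rw [q, r, p, e, q]
  · rw [q, p, r, q, e']
  · rw [q, p, r, p, e, r, q, e', mul_assoc, hcc.eq, ← mul_assoc]

theorem fixes_block (h : Transv μ ω c) (hμ : μ * μ = 1) {i : ι} (hi : μ i ≠ i) :
    ω * W.base (ind {i, μ i}) * ω⁻¹ = W.base (ind {i, μ i}) := by
  obtain ⟨a, b, hab, hc, ⟨ha, hb, -⟩ | ⟨-, hf⟩⟩ := h.centre_eq hμ
  · refine h.fix_base hab hc _ (mem_pair (hμ := hμ)) ?_
    have h1 : ∀ x, μ x = x → x ≠ i ∧ x ≠ μ i := fun x hx =>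
      ⟨fun e => hi (e ▸ hx), fun e => hi (by have := e ▸ hx; rw [apply_mu hμ] at this; exact this.symm)⟩
    simp only [Finset.disjoint_insert_left, Finset.mem_insert, Finset.mem_singleton,
      Finset.disjoint_singleton_left]
    exact ⟨not_or.mpr ⟨(h1 a ha).1.symm, (h1 b hb).1.symm⟩, not_or.mpr ⟨(h1 a ha).2.symm, (h1 b hb).2.symm⟩⟩
  · exact hf _ (mem_pair (hμ := hμ) (i := i)).1

/-- If two transvections do not commute on the subgroup, their centres consist of fixed points. -/
theorem fixed_of_not_comm (h : Transv μ ω c) (h' : Transv μ ω' c') (hμ : μ * μ = 1)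
    {a : W ι} (ha : MemM μ a) (hne : ω * ω' * a * (ω * ω')⁻¹ ≠ ω' * ω * a * (ω' * ω)⁻¹) :
    ∃ i j, i ≠ j ∧ μ i = i ∧ μ j = j ∧ ω.p i = j ∧ c = W.base (ind {i, j}) := by
  obtain ⟨i, j, hij, hc, ⟨hi, hj, hπ⟩ | ⟨hi, hf⟩⟩ := h.centre_eq hμ
  · exact ⟨i, j, hij, hi, hj, hπ, hc⟩
  · exfalso
    obtain ⟨i', j', -, hc', -⟩ := h'.centre_eq hμ
    subst hi
    refine hne (h.comm_of_fix h' ?_ ?_ ?_ ha)
    · rw [hc']
      refine hf _ fun k => ?_
      have := h'.mem.1 k
      rwa [hc'] at this
    · rw [hc]; exact h'.fixes_block hμ (Ne.symm hij)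
    · rw [hc, hc']
      show W.base _ * W.base _ = W.base _ * W.base _
      rw [← W.base_add, ← W.base_add, add_comm]

end Transv

end Cfsg.Agent.H67.Kondo
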