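import Cfsg.Agent.H67.Kondo.Setup
import Cfsg.Agent.H67.Kondo.Transvection

/-!
Coordinates on elementary abelian subgroups of the signed permutation group, and fusion read in
these coordinates.
-/

set_option autoImplicit false
set_option linter.unusedSectionVars false
set_option linter.unusedSimpArgs false

namespace Cfsg.Agent.H67.Kondo

open Equiv

variable {ι : Type*}

/-- Coordinates on an elementary abelian subgroup containing the central element. -/
structure Chart (ι : Type*) where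
  /-- the parametrization -/
  φ : (ι → ZMod 2) → W ι
  add : ∀ v w, φ (v + w) = φ v * φ w
  inj : Function.Injective φ
  one : φ 1 = W.cst

namespace Chart

variable (K : Chart ι)

theorem vec_add_self (v : ι → ZMod 2) : v + v = 0 := funext fun i => CharTwo.add_self_eq_zero (v i)

theorem zero : K.φ 0 = 1 := by simpa using K.add 0 0

theorem sq (v : ι → ZMod 2) : K.φ v * K.φ v = 1 := by rw [← K.add, vec_add_self, K.zero]

theorem comm (v w : ι → ZMod 2) : Commute (K.φ v) (K.φ w) := by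
  show K.φ v * K.φ w = K.φ w * K.φ v
  rw [← K.add, ← K.add, add_comm]

/-- The subgroup with these coordinates. -/
def grp : Subgroup (W ι) where
  carrier := Set.range K.φ
  one_mem' := ⟨0, K.zero⟩
  mul_mem' := by
    rintro _ _ ⟨v, rfl⟩ ⟨w, rfl⟩
    exact ⟨v + w, K.add v w⟩
  inv_mem' := by
    rintro _ ⟨v, rfl⟩
    exact ⟨v, eq_inv_of_mul_eq_one_left (K.sq v)⟩

theorem mem (v : ι → ZMod 2) : K.φ v ∈ K.grp := ⟨v, rfl⟩

theorem mem_grp {w : W ι} : w ∈ K.grp ↔ ∃ v, K.φ v = w := Iff.rfl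

theorem cst_mem : W.cst ∈ K.grp := ⟨1, K.one⟩

theorem isPGroup : IsPGroup 2 ↥K.grp := by
  refine isPGroup_iff_pow_pow_eq_one.mpr fun ⟨w, v, hv⟩ => ⟨1, Subtype.ext ?_⟩
  subst hv
  show K.φ v ^ 2 ^ 1 = 1
  rw [pow_one, pow_two, K.sq]

theorem grp_comm {p q : W ι} (hp : p ∈ K.grp) (hq : q ∈ K.grp) : Commute p q := by
  obtain ⟨v, rfl⟩ := hp
  obtain ⟨w, rfl⟩ := hq
  exact K.comm v w

end Chart

/-- The base subgroup. -/
def baseC (ι : Type*) : Chart ι := ⟨W.base, W.base_add, W.base_injective, rfl⟩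

@[simp] theorem baseC_φ (v : ι → ZMod 2) : (baseC ι).φ v = W.base v := rfl

theorem mem_baseC {w : W ι} : w ∈ (baseC ι).grp ↔ w.p = 1 :=
  ⟨fun ⟨_, h⟩ => h ▸ rfl, fun h => ⟨w.v, (W.eq_base_of_p h).symm⟩⟩

section
variable [DecidableEq ι]

/-- The coordinates on the subgroup of the transposition `(a b)`. -/
def swapVal (a b : ι) (v : ι → ZMod 2) : W ι :=
  ⟨fun i => if i = a then v b else v i, if v a = v b then 1 else swap a b⟩

theorem swapVal_eq {a b : ι} {v : ι → ZMod 2} (h : v a = v b) : swapVal a b v = W.base v := by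
  ext i
  · simp only [swapVal, W.base_v]
    split_ifs with e
    · rw [e, h]
    · rfl
  · simp [swapVal, h]

theorem swapVal_add (a b : ι) (hab : a ≠ b) (v w : ι → ZMod 2) :
    swapVal a b (v + w) = swapVal a b v * swapVal a b w := by
  refine W.ext (funext fun i => ?_) ?_
  · simp only [swapVal, W.mul_v, Pi.add_apply]
    by_cases hv : v a = v b
    · simp only [hv, if_true, perm_one_symm_apply]
      split_ifs <;> rfl
    · simp only [hv, if_false, Equiv.symm_swap]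
      by_cases hi : i = a
      · subst hi; simp [hab.symm]
      · by_cases hj : i = b
        · subst hj; simp [hi]
        · simp [hi, swap_apply_of_ne_of_ne hi hj]
  · simp only [swapVal, W.mul_p, Pi.add_apply]
    rcases zmod2_cases (v a) with p | p <;> rcases zmod2_cases (v b) with q | q <;>
      rcases zmod2_cases (w a) with r | r <;> rcases zmod2_cases (w b) with s | s <;>
      simp [p, q, r, s, CharTwo.add_self_eq_zero]

theorem swapVal_injective (a b : ι) (hab : a ≠ b) : Function.Injective (swapVal a b) := by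
  intro v w h
  have hv : ∀ i, i ≠ a → v i = w i := fun i hi => by
    simpa [swapVal, hi] using congrFun (congrArg W.v h) i
  funext i
  by_cases hi : i = a
  · subst hi
    have hp := congrArg (fun x : W ι => x.p i) h
    have hb := hv b hab.symm
    simp only [swapVal] at hp
    rcases zmod2_cases (v i) with p | p <;> rcases zmod2_cases (w i) with r | r <;>
      rcases zmod2_cases (w b) with s | s <;> simp_all
  · exact hv i hi

/-- The subgroup of the transposition `(a b)`. -/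
def swapC (a b : ι) (hab : a ≠ b) : Chart ι :=
  ⟨swapVal a b, swapVal_add a b hab, swapVal_injective a b hab, swapVal_eq rfl⟩

@[simp] theorem swapC_φ (a b : ι) (hab : a ≠ b) (v : ι → ZMod 2) :
    (swapC a b hab).φ v = swapVal a b v := rfl

end

namespace Setup

variable {G : Type*} [Group G] (σ : Setup ι G)

/-- `x` is conjugate to the central involution. -/
def T (K : Chart ι) (v : ι → ZMod 2) : Prop := σ.R (K.φ v) W.cst

/-- Fusion inside the subgroup with coordinates `K`. -/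
def Gam (K : Chart ι) (F : (ι → ZMod 2) → (ι → ZMod 2)) : Prop :=
  ∃ f, σ.Fus K.grp f ∧ ∀ v, f (K.φ v) = K.φ (F v)

variable {σ} [Finite G] [Finite ι] {K : Chart ι} {F F' : (ι → ZMod 2) → (ι → ZMod 2)}

theorem Gam.map_add (h : σ.Gam K F) (v w : ι → ZMod 2) : F (v + w) = F v + F w := by
  obtain ⟨f, hf, e⟩ := h
  apply K.inj
  rw [← e, K.add, hf.map_mul (K.mem v) (K.mem w), e, e, K.add]

theorem Gam.injective (h : σ.Gam K F) : Function.Injective F := by
  obtain ⟨f, hf, e⟩ := h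
  intro v w hvw
  exact K.inj (hf.inj (K.mem v) (K.mem w) (by rw [e, e, hvw]))

theorem Gam.map_zero (h : σ.Gam K F) : F 0 = 0 := by simpa using h.map_add 0 0

theorem Gam.map_sum (h : σ.Gam K F) {κ : Type*} (s : Finset κ) (g : κ → ι → ZMod 2) :
    F (∑ i ∈ s, g i) = ∑ i ∈ s, F (g i) := by
  classical
  induction s using Finset.induction with
  | empty => simpa using h.map_zero
  | insert a s ha ih => rw [Finset.sum_insert ha, Finset.sum_insert ha, h.map_add, ih]

theorem Gam.comp (h : σ.Gam K F) (h' : σ.Gam K F') : σ.Gam K (F' ∘ F) := by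
  obtain ⟨f, hf, e⟩ := h
  obtain ⟨f', hf', e'⟩ := h'
  exact ⟨f' ∘ f, hf.comp hf' (fun w ⟨v, hv⟩ => by rw [← hv, e]; exact K.mem _),
    fun v => by simp [e, e']⟩

theorem gam_of_fus {f : W ι → W ι} (hf : σ.Fus K.grp f) (h : ∀ v, f (K.φ v) ∈ K.grp) :
    ∃ F, σ.Gam K F ∧ ∀ v, K.φ (F v) = f (K.φ v) := by
  choose F hF using fun v => K.mem_grp.mp (h v)
  exact ⟨F, ⟨f, hf, fun v => (hF v).symm⟩, hF⟩

theorem Gam.symm (h : σ.Gam K F) :
    ∃ F', σ.Gam K F' ∧ (∀ v, F' (F v) = v) ∧ ∀ v, F (F' v) = v := by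
  have hbij : Function.Bijective F := Finite.injective_iff_bijective.mp h.injective
  obtain ⟨f, hf, e⟩ := h
  obtain ⟨f', hf', e'⟩ := hf.symm
  have him : hf.image = K.grp := by
    ext w
    refine ⟨?_, ?_⟩
    · rintro ⟨_, ⟨v, rfl⟩, rfl⟩
      rw [e]
      exact K.mem _
    · rintro ⟨v, rfl⟩
      obtain ⟨u, rfl⟩ := hbij.2 v
      exact ⟨K.φ u, K.mem u, e u⟩
  let e₀ := Equiv.ofBijective F hbij
  refine ⟨e₀.symm, ⟨f', him ▸ hf', fun v => ?_⟩, fun v => e₀.symm_apply_apply v,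
    fun v => e₀.apply_symm_apply v⟩
  conv_lhs => rw [show v = F (e₀.symm v) from (e₀.apply_symm_apply v).symm, ← e]
  exact e' _ (K.mem _)

theorem gam_conj (ω : W ι) (h : ∀ v, ω * K.φ v * ω⁻¹ = K.φ (F v)) : σ.Gam K F :=
  ⟨_, fus_conj K.isPGroup ω, h⟩

theorem Gam.eq_conj (h : σ.Gam K F) (e : F 1 = 1) :
    ∃ ω, ∀ v, K.φ (F v) = ω * K.φ v * ω⁻¹ := by
  obtain ⟨f, hf, hF⟩ := h
  obtain ⟨ω, hω⟩ := hf.eq_conj K.cst_mem (by rw [← K.one, hF, e])
  exact ⟨ω, fun v => by rw [← hF, hω _ (K.mem v)]⟩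

theorem Gam.rel (h : σ.Gam K F) (v : ι → ZMod 2) : σ.R (K.φ v) (K.φ (F v)) := by
  obtain ⟨f, hf, hF⟩ := h
  rw [← hF]
  exact hf.rel (K.mem v) (K.sq v)

theorem Gam.T_iff (h : σ.Gam K F) (v : ι → ZMod 2) : σ.T K (F v) ↔ σ.T K v :=
  ⟨fun e => (h.rel v).trans e, fun e => (h.rel v).symm.trans e⟩

theorem T_one : σ.T K 1 := by
  unfold T
  rw [K.one]
  exact R.refl (by rw [← K.one, K.sq])

theorem T_ne_zero {v : ι → ZMod 2} (h : σ.T K v) (hne : (1 : ι → ZMod 2) ≠ 0) : v ≠ 0 := by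
  rintro rfl
  obtain ⟨X, hX, Y, hY, a, b, hx, hy, hc⟩ := h
  rw [K.zero] at hx
  obtain rfl : X = 1 := σ.th_ker X hX hx a
  obtain rfl : Y = 1 := isConj_one_right.mp hc
  rw [σ.th_one, ← K.one, ← K.zero] at hy
  exact hne (K.inj hy).symm

theorem T.fus {x : ι → ZMod 2} (h : σ.T K x) : ∃ f, σ.Fus K.grp f ∧ f (K.φ x) = W.cst :=
  R.fus h K.isPGroup (K.mem x) fun _ hp => K.grp_comm hp (K.mem x)

variable [Fintype ι] [DecidableEq ι]

theorem exists_image {f : W ι → W ι} (hf : σ.Fus K.grp f) :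
    ∃ ν : Perm ι, ν * ν = 1 ∧ ∀ w, MemM ν w ↔ ∃ v, f (K.φ v) = w := by
  obtain ⟨ν, hν, hν'⟩ := exists_matching hf.image
    (by
      rintro _ ⟨p, hp, rfl⟩ _ ⟨q, hq, rfl⟩
      show f p * f q = f q * f p
      rw [← hf.map_mul hp hq, (K.grp_comm hp hq).eq, hf.map_mul hq hp])
    (by
      rintro _ ⟨_, ⟨v, rfl⟩, rfl⟩
      rw [← hf.map_mul (K.mem v) (K.mem v), K.sq, hf.map_one])
    (by
      let g : (ι → ZMod 2) → ↥hf.image := fun v => ⟨f (K.φ v), K.φ v, K.mem v, rfl⟩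
      have hg : Function.Bijective g := ⟨fun v w e =>
        K.inj (hf.inj (K.mem v) (K.mem w) (congrArg Subtype.val e)),
        fun ⟨_, _, ⟨v, rfl⟩, hw⟩ => ⟨v, Subtype.ext hw⟩⟩
      rw [← Nat.card_congr (Equiv.ofBijective g hg)]
      simp)
  refine ⟨ν, hν, fun w => (hν' w).symm.trans ⟨?_, ?_⟩⟩
  · rintro ⟨_, ⟨v, rfl⟩, rfl⟩; exact ⟨v, rfl⟩
  · rintro ⟨v, rfl⟩; exact ⟨K.φ v, K.mem v, rfl⟩

theorem memM_cst {ν : Perm ι} : MemM ν W.cst := MemM.base fun _ => rfl

/-- Transfer in coordinates. -/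
theorem transfer_chart (K : Chart ι) (v : ι → ZMod 2) (χ : W ι →* Multiplicative (ZMod 2))
    (hχ : χ (K.φ v) ≠ 1) :
    ∃ f z, σ.Fus K.grp f ∧ f (K.φ z) = W.cst ∧ χ (f (K.φ v)) = 1 := by
  obtain ⟨f, hf, h⟩ :=
    transfer (σ := σ) K.isPGroup (K.mem v) (K.sq v) (fun _ hp => K.grp_comm hp (K.mem v)) χ hχ
  obtain ⟨ν, -, hν⟩ := exists_image hf
  obtain ⟨z, hz⟩ := (hν W.cst).mp memM_cst
  exact ⟨f, z, hf, hz, h⟩

theorem fus_T {f : W ι → W ι} (hf : σ.Fus K.grp f) {z : ι → ZMod 2} (hz : f (K.φ z) = W.cst) :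
    σ.T K z := by
  have := hf.rel (K.mem z) (K.sq z)
  rwa [hz] at this

/-- An element fixing `x` and inducing a transvection becomes a transvection over `f`. -/
theorem transvection {f : W ι → W ι} (hf : σ.Fus K.grp f) {ν : Perm ι}
    (hν : ∀ w, MemM ν w ↔ ∃ v, f (K.φ v) = w) {x c : ι → ZMod 2} (hx : f (K.φ x) = W.cst)
    (hF : σ.Gam K F) (hFx : F x = x) (two : ∀ v, F v = v ∨ F v = v + c) (moved : ∃ v, F v ≠ v) :
    ∃ ω, Transv ν ω (f (K.φ c)) ∧ ∀ v, ω * f (K.φ v) * ω⁻¹ = f (K.φ (F v)) := by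
  obtain ⟨fF, hfF, eF⟩ := hF
  obtain ⟨f', hf', e'⟩ := hf.symm
  have h1 : σ.Fus K.grp (f ∘ fF) :=
    hfF.comp hf fun w ⟨v, hv⟩ => by rw [← hv, eF]; exact K.mem _
  have h2 : σ.Fus hf.image ((f ∘ fF) ∘ f') := by
    refine hf'.comp h1 ?_
    rintro _ ⟨p, hp, rfl⟩
    rw [e' p hp]
    exact hp
  obtain ⟨ω, hω⟩ := h2.eq_conj ⟨_, K.mem x, hx⟩ (by
    show f (fF (f' W.cst)) = W.cst
    rw [← hx, e' _ (K.mem x), eF, hFx])
  have key : ∀ v, ω * f (K.φ v) * ω⁻¹ = f (K.φ (F v)) := fun v => by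
    rw [← hω _ ⟨_, K.mem v, rfl⟩]
    show f (fF (f' (f (K.φ v)))) = _
    rw [e' _ (K.mem v), eF]
  obtain ⟨v₀, hv₀⟩ := moved
  have hc0 : c ≠ 0 := by
    rintro rfl
    exact hv₀ ((two v₀).elim id fun e => by simpa using e)
  refine ⟨ω, ⟨?_, (hν _).mpr ⟨c, rfl⟩, fun e => hc0 ?_, ?_, ⟨_, (hν _).mpr ⟨v₀, rfl⟩, ?_⟩⟩, key⟩
  · intro a ha
    obtain ⟨v, rfl⟩ := (hν a).mp ha
    exact (hν _).mpr ⟨F v, (key v).symm⟩
  · exact K.inj (hf.inj (K.mem c) (K.mem 0) (by rw [e, K.zero, hf.map_one]))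
  · intro a ha
    obtain ⟨v, rfl⟩ := (hν a).mp ha
    rw [key]
    rcases two v with e | e <;> rw [e]
    · exact Or.inl rfl
    · rw [K.add, hf.map_mul (K.mem v) (K.mem c)]
      exact Or.inr rfl
  · rw [key]
    exact fun e => hv₀ (K.inj (hf.inj (K.mem _) (K.mem _) e))

/-- The centre of a transvection fixing `x` becomes a pair. -/
theorem centre_pair {f : W ι → W ι} (hf : σ.Fus K.grp f) {ν : Perm ι} (hν2 : ν * ν = 1)
    (hν : ∀ w, MemM ν w ↔ ∃ v, f (K.φ v) = w) {x c : ι → ZMod 2} (hx : f (K.φ x) = W.cst)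
    (hF : σ.Gam K F) (hFx : F x = x) (two : ∀ v, F v = v ∨ F v = v + c) (moved : ∃ v, F v ≠ v) :
    ∃ i j, i ≠ j ∧ f (K.φ c) = W.base (ind {i, j}) ∧ ((ν i = i ∧ ν j = j) ∨ ν i = j) := by
  obtain ⟨ω, hω, -⟩ := transvection hf hν hx hF hFx two moved
  obtain ⟨i, j, hij, hc, h⟩ := hω.centre_eq hν2
  exact ⟨i, j, hij, hc, h.imp (fun h => ⟨h.1, h.2.1⟩) fun h => h.1⟩

/-- The centre of a transvection not commuting with another is a pair of fixed points. -/
theorem centre_fixed {f : W ι → W ι} (hf : σ.Fus K.grp f) {ν : Perm ι} (hν2 : ν * ν = 1)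
    (hν : ∀ w, MemM ν w ↔ ∃ v, f (K.φ v) = w) {x c c' : ι → ZMod 2} (hx : f (K.φ x) = W.cst)
    (hF : σ.Gam K F) (hFx : F x = x) (two : ∀ v, F v = v ∨ F v = v + c)
    (hF' : σ.Gam K F') (hF'x : F' x = x) (two' : ∀ v, F' v = v ∨ F' v = v + c')
    {v : ι → ZMod 2} (hne : F (F' v) ≠ F' (F v)) :
    ∃ i j, i ≠ j ∧ f (K.φ c) = W.base (ind {i, j}) ∧ ν i = i ∧ ν j = j := by
  have moved : ∃ v, F v ≠ v := by
    by_contra h
    push Not at h
    exact hne (by rw [h, h])
  have moved' : ∃ v, F' v ≠ v := by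
    by_contra h
    push Not at h
    exact hne (by rw [h, h])
  obtain ⟨ω, hω, hωF⟩ := transvection hf hν hx hF hFx two moved
  obtain ⟨ω', hω', hωF'⟩ := transvection hf hν hx hF' hF'x two' moved'
  obtain ⟨i, j, hij, hi, hj, -, hc⟩ := hω.fixed_of_not_comm hω' hν2 ((hν _).mpr ⟨v, rfl⟩) (by
    have e1 : ω * ω' * f (K.φ v) * (ω * ω')⁻¹ = ω * (ω' * f (K.φ v) * ω'⁻¹) * ω⁻¹ := by group
    have e2 : ω' * ω * f (K.φ v) * (ω' * ω)⁻¹ = ω' * (ω * f (K.φ v) * ω⁻¹) * ω'⁻¹ := by group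
    rw [e1, e2, hωF', hωF, hωF, hωF']
    exact fun e => hne (K.inj (hf.inj (K.mem _) (K.mem _) e)))
  exact ⟨i, j, hij, hc, hi, hj⟩

/-- Independent vectors sent to pairs of fixed points. -/
theorem fix_big {f : W ι → W ι} (hf : σ.Fus K.grp f) (ν : Perm ι) {κ : Type*} (D : Finset κ)
    (hD : D.Nonempty) (c : κ → ι → ZMod 2)
    (hind : Set.InjOn (fun s => ∑ p ∈ s, c p) (↑D.powerset : Set (Finset κ)))
    (hc : ∀ p ∈ D, ∃ i j, i ≠ j ∧ f (K.φ (c p)) = W.base (ind {i, j}) ∧ ν i = i ∧ ν j = j) :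
    D.card < (Finset.univ.filter fun i => ν i = i).card := by
  classical
  set Fx := Finset.univ.filter fun i => ν i = i
  let Good : (ι → ZMod 2) → Prop := fun w => (∀ i, ν i ≠ i → w i = 0) ∧ ∑ i, w i = 0
  have hall : ∀ s ⊆ D, ∃ w, f (K.φ (∑ p ∈ s, c p)) = W.base w ∧ Good w := by
    intro s
    induction s using Finset.induction with
    | empty => exact fun _ => ⟨0, by simp [K.zero, hf.map_one, W.base_zero], by simp [Good]⟩
    | insert p s hp ih =>
      intro hs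
      obtain ⟨w, hw, hw1, hw2⟩ := ih ((Finset.subset_insert p s).trans hs)
      obtain ⟨i, j, hij, he, hi, hj⟩ := hc p (hs (Finset.mem_insert_self p s))
      refine ⟨ind {i, j} + w, ?_, fun k hk => ?_, ?_⟩
      · rw [Finset.sum_insert hp, K.add, hf.map_mul (K.mem _) (K.mem _), he, hw, W.base_add]
      · have h1 : k ≠ i := fun e => hk (e ▸ hi)
        have h2 : k ≠ j := fun e => hk (e ▸ hj)
        simp [h1, h2, hw1 k hk]
      · simp only [Pi.add_apply, Finset.sum_add_distrib, hw2, sum_eq_wt, wt_ind,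
          Finset.card_pair hij, add_zero]
        rfl
  choose g hg hgood using hall
  let q : ↥D.powerset → Finset ι := fun s => supp (g s.1 (Finset.mem_powerset.mp s.2))
  have hq : Function.Injective q := by
    intro s s' e
    have e' := congrArg ind e
    simp only [q, ind_supp] at e'
    refine Subtype.ext (hind s.2 s'.2 (K.inj (hf.inj (K.mem _) (K.mem _) ?_)))
    rw [hg _ (Finset.mem_powerset.mp s.2), hg _ (Finset.mem_powerset.mp s'.2), e']
  have hqsub : ∀ s, q s ∈ Fx.powerset := by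
    intro s
    rw [Finset.mem_powerset]
    intro i hi
    simp only [Fx, Finset.mem_filter, Finset.mem_univ, true_and]
    by_contra hne
    have := (hgood s.1 (Finset.mem_powerset.mp s.2)).1 i hne
    simp [q, supp, this] at hi
  have hqev : ∀ s, ((q s).card : ZMod 2) = 0 := fun s => by
    have := (hgood s.1 (Finset.mem_powerset.mp s.2)).2
    rwa [sum_eq_wt, wt_eq_card_supp] at this
  obtain ⟨i₀, hi₀⟩ : Fx.Nonempty := by
    obtain ⟨p, hp⟩ := hD
    obtain ⟨i, -, -, -, hi, -⟩ := hc p hp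
    exact ⟨i, by simp [Fx, hi]⟩
  have hlt : (Finset.univ.image q).card < Fx.powerset.card := by
    refine Finset.card_lt_card ⟨fun x hx => ?_, fun hsub => ?_⟩
    · obtain ⟨s, -, rfl⟩ := Finset.mem_image.mp hx
      exact hqsub s
    · obtain ⟨s, -, hs⟩ := Finset.mem_image.mp
        (hsub (Finset.mem_powerset.mpr (Finset.singleton_subset_iff.mpr hi₀)))
      have := hqev s
      rw [hs] at this
      simp at this
  rw [Finset.card_image_of_injective _ hq, Finset.card_univ, Fintype.card_coe,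
    Finset.card_powerset, Finset.card_powerset] at hlt
  exact (Nat.pow_lt_pow_iff_right (by norm_num)).mp hlt

end Setup

theorem eq_one_of_fix [Fintype ι] [DecidableEq ι] (ν : Perm ι)
    (h : Fintype.card ι ≤ (Finset.univ.filter fun i => ν i = i).card + 1) : ν = 1 := by
  ext i
  by_contra hi
  simp only [Perm.one_apply] at hi
  have h1 : ν (ν i) ≠ ν i := fun e => hi (ν.injective e)
  have hsub : (Finset.univ.filter fun j => ν j = j) ⊆ Finset.univ \ {i, ν i} := by
    intro j hj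
    simp only [Finset.mem_filter, Finset.mem_univ, true_and] at hj
    simp only [Finset.mem_sdiff, Finset.mem_univ, Finset.mem_insert, Finset.mem_singleton, true_and]
    rintro (rfl | rfl)
    exacts [hi hj, h1 hj]
  have h2 := Finset.card_le_card hsub
  rw [Finset.card_sdiff_of_subset (Finset.subset_univ _), Finset.card_univ,
    Finset.card_pair (fun e => hi e.symm)] at h2
  have h3 : 2 ≤ Fintype.card ι := by
    rw [← Finset.card_pair (fun e => hi e.symm : i ≠ ν i)]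
    exact Finset.card_le_univ _
  omega

theorem swap_of_fix [Fintype ι] [DecidableEq ι] (ν : Perm ι)
    (h : Fintype.card ι ≤ (Finset.univ.filter fun i => ν i = i).card + 2) :
    ν = 1 ∨ ∃ i j, i ≠ j ∧ ν = swap i j := by
  by_cases hν : ν = 1
  · exact Or.inl hν
  refine Or.inr ?_
  have hc : ν.support = (Finset.univ.filter fun i => ν i = i)ᶜ := by ext i; simp
  have h2 := Perm.two_le_card_support_of_ne_one hν
  have h3 : ν.support.card ≤ 2 := by rw [hc, Finset.card_compl]; omega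
  obtain ⟨i, j, hij, e⟩ := Perm.card_support_eq_two.mp (le_antisymm h3 h2)
  exact ⟨i, j, hij, e⟩

end Cfsg.Agent.H67.Kondo
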