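import Cfsg.Agent.H67.Kondo.Main

/-!
The number of classes of involutions.
-/

set_option autoImplicit false
set_option linter.unusedSectionVars false
set_option linter.unusedSimpArgs false

namespace Cfsg.Agent.H67.Kondo

open Equiv

variable {ι : Type*} [Fintype ι] [DecidableEq ι]

/-- Permutations moving points inside the blocks of `π`, with equal signs at `a` and `b`. -/
def nearSwap (π : Perm ι) (hπ : π * π = 1) (a b : ι) (hπa : π a = b) : Subgroup (W ι) where
  carrier := {w | (∀ i, w.p i = i ∨ w.p i = π i) ∧ w.v a = w.v b}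
  one_mem' := ⟨fun _ => Or.inl rfl, rfl⟩
  mul_mem' := by
    rintro x y ⟨hx, hx'⟩ ⟨hy, hy'⟩
    have hb : π b = a := by rw [← hπa]; exact congrArg (fun e : Perm ι => e a) hπ
    refine ⟨fun i => ?_, ?_⟩
    · show x.p (y.p i) = i ∨ x.p (y.p i) = π i
      rcases hy i with e | e <;> rw [e]
      · exact hx i
      · rw [matched_mu hπ hx]
        rcases hx i with e' | e' <;> rw [e']
        · exact Or.inr rfl
        · exact Or.inl (congrArg (fun e : Perm ι => e i) hπ)
    · simp only [W.mul_v, hx']
      have key : y.v (x.p.symm a) = y.v (x.p.symm b) := by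
        have hs : ∀ i, x.p.symm i = i ∨ x.p.symm i = π i := by
          intro i
          rcases hx (x.p.symm i) with e | e <;> rw [Equiv.apply_symm_apply] at e
          · exact Or.inl e.symm
          · refine Or.inr ?_
            conv_rhs => rw [e]
            exact (congrArg (fun e : Perm ι => e (x.p.symm i)) hπ).symm
        rcases hs a with e | e <;> rcases hs b with e' | e' <;> simp [e, e', hπa, hb, hy']
      rw [key]
  inv_mem' := by
    rintro x ⟨hx, hx'⟩
    have hb : π b = a := by rw [← hπa]; exact congrArg (fun e : Perm ι => e a) hπ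
    refine ⟨fun i => ?_, ?_⟩
    · show x.p.symm i = i ∨ x.p.symm i = π i
      rcases hx (x.p.symm i) with e | e <;> rw [Equiv.apply_symm_apply] at e
      · exact Or.inl e.symm
      · refine Or.inr ?_
        conv_rhs => rw [e]
        exact (congrArg (fun e : Perm ι => e (x.p.symm i)) hπ).symm
    · simp only [W.inv_v]
      rcases hx a with e | e <;> rcases hx b with e' | e' <;> simp [e, e', hπa, hb, hx']

theorem mem_nearSwap {π : Perm ι} {hπ : π * π = 1} {a b : ι} {hπa : π a = b} {w : W ι} :
    w ∈ nearSwap π hπ a b hπa ↔ (∀ i, w.p i = i ∨ w.p i = π i) ∧ w.v a = w.v b := Iff.rfl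

namespace Setup

variable {G : Type*} [Group G] [Finite G] {σ : Setup ι G}

theorem R.ne_one {x y : W ι} (h : σ.R x y) (hx : x ≠ 1) : y ≠ 1 := by
  obtain ⟨X, hX, Y, hY, a, b, rfl, rfl, hc⟩ := h
  intro hy
  obtain rfl : Y = 1 := σ.th_ker Y hY hy b
  obtain rfl : X = 1 := isConj_one_left.mp hc
  exact hx σ.th_one

/-- Every involution is fused to a base element. -/
theorem Aligned.exists_base (hσ : σ.Aligned) :
    ∀ (k : ℕ) (X : W ι), X.p.support.card = k → X * X = 1 → ∃ v, σ.R X (W.base v) := by
  intro k
  induction k using Nat.strong_induction_on with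
  | _ k ih =>
    intro X hk hX
    by_cases hp : X.p = 1
    · exact ⟨X.v, by rw [← W.eq_base_of_p hp]; exact R.refl hX⟩
    obtain ⟨a, ha⟩ : ∃ a, X.p a ≠ a := by
      by_contra h
      push Not at h
      exact hp (Equiv.ext h)
    obtain ⟨hπ, hvinv⟩ := (W.mul_self_eq_one_iff X).mp hX
    set π := X.p with hπdef
    have hππ : ∀ i, π (π i) = i := fun i => congrArg (fun e : Perm ι => e i) hπ
    set b := π a with hb
    have hab : a ≠ b := Ne.symm ha
    have hba : π b = a := hππ a
    set P := nearSwap π hπ a b rfl
    have hP2 : IsPGroup 2 ↥P := by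
      refine isPGroup_of_sq fun w hw => Equiv.ext fun i => ?_
      rw [Perm.mul_apply, Perm.one_apply]
      rcases (mem_nearSwap.mp hw).1 i with e | e
      · rw [e, e]
      · rw [e, matched_mu hπ (mem_nearSwap.mp hw).1, e, hππ]
    set K := swapC a b hab
    have hKP : K.grp ≤ P := by
      rintro _ ⟨v, rfl⟩
      refine ⟨fun i => ?_, by simp [K, swapVal, hab.symm]⟩
      by_cases h : v a = v b
      · left; simp [K, swapVal, h]
      · by_cases hia : i = a
        · subst hia; right; simp [K, swapVal, h, ← hb]
        · by_cases hib : i = b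
          · subst hib; right; simp [K, swapVal, h, hba]
          · left; simp [K, swapVal, h, swap_apply_of_ne_of_ne hia hib]
    obtain ⟨f₀, hf₀, hf₀'⟩ := hσ.gam_sMap hab
    have hsx : sMap a b (1 + e b) = 1 := by
      funext i
      by_cases hib : i = b
      · subst hib; simp [sMap, e_ne hab, CharTwo.add_self_eq_zero]
      · simp [sMap, hib, e_ne hib]
    obtain ⟨f, hf, hff⟩ := hf₀.extend hP2 hKP (z := K.φ (1 + e b)) (K.mem _)
      (by rw [hf₀', hsx, K.one]) (by
      intro w hw
      obtain ⟨hwp, hwv⟩ := mem_nearSwap.mp hw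
      have hz : K.φ (1 + e b) = ⟨fun i => if i = a ∨ i = b then 0 else 1, swap a b⟩ := by
        refine W.ext (funext fun i => ?_) ?_
        · by_cases hia : i = a
          · subst hia; simp [K, swapVal, CharTwo.add_self_eq_zero]
          · by_cases hib : i = b
            · subst hib; simp [K, swapVal, hia, CharTwo.add_self_eq_zero]
            · simp [K, swapVal, hia, hib, e_ne hib]
        · simp [K, swapVal, e_ne hab, CharTwo.add_self_eq_zero]
      rw [hz, W.commute_iff]
      have hbij : ∀ i, (w.p i = a ∨ w.p i = b) ↔ (i = a ∨ i = b) := by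
        intro i
        rcases hwp i with e | e <;> rw [e]
        rw [show (π i = a) ↔ i = b from ⟨fun h => π.injective (h.trans hba.symm), fun h => h ▸ hba⟩,
          show (π i = b) ↔ i = a from ⟨fun h => π.injective h, fun h => h ▸ rfl⟩]
        exact or_comm
      refine ⟨Equiv.ext fun i => ?_, fun i => ?_⟩
      · have hτ : ∀ j, swap a b j = if j = a ∨ j = b then π j else j := fun j => by
          by_cases hja : j = a
          · subst hja; simp [← hb]
          · by_cases hjb : j = b
            · subst hjb; simp [hba]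
            · simp [swap_apply_of_ne_of_ne hja hjb, hja, hjb]
        simp only [Perm.mul_apply]
        rw [hτ, hτ]
        by_cases hi : i = a ∨ i = b
        · rw [if_pos hi, if_pos ((hbij i).mpr hi), matched_mu hπ hwp]
        · rw [if_neg hi, if_neg (mt (hbij i).mp hi)]
      · have h1 := hbij (w.p.symm i)
        rw [Equiv.apply_symm_apply] at h1
        dsimp only
        rw [if_congr h1.symm rfl rfl, Equiv.symm_swap]
        by_cases hia : i = a
        · subst hia; simp [hwv]
        · by_cases hib : i = b
          · subst hib; simp [hia, hwv]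
          · simp [hia, hib, swap_apply_of_ne_of_ne hia hib, add_comm])
    -- normalise the signs at the pair
    set d : ι → ZMod 2 := fun i => X.v a * e a i
    set X₀ := W.base d * X * (W.base d)⁻¹ with hX₀
    have hX₀p : X₀.p = π := by rw [hX₀, W.conj_by_base_p]
    have hs : π.symm a = b ∧ π.symm b = a := by
      exact ⟨(Equiv.symm_apply_eq _).mpr hba.symm, (Equiv.symm_apply_eq _).mpr rfl⟩
    have hX₀a : X₀.v a = 0 := by
      rw [hX₀, W.conj_by_base, ← hπdef, hs.1]
      simp [d, e_ne hab.symm, CharTwo.add_self_eq_zero]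
    have hX₀b : X₀.v b = 0 := by
      rw [hX₀, W.conj_by_base, ← hπdef, hs.2]
      have : X.v b = X.v a := hvinv a
      simp [d, e_ne hab.symm, this, CharTwo.add_self_eq_zero]
    have hXmem : X ∈ P := ⟨fun i => Or.inr rfl, (hvinv a).symm⟩
    have hR₀ : σ.R X X₀ := (fus_conj (σ := σ) hP2 (W.base d)).rel hXmem hX
    have hX₀sq : X₀ * X₀ = 1 := hR₀.sq.2
    set τ := swap a b with hτdef
    set u := W.perm τ
    set Y := u * X₀ with hY
    have hτ : τ * τ = 1 := swap_mul_self a b
    have hYp : Y.p = τ * π := by rw [hY, W.mul_p, hX₀p]; rfl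
    have hu2 : u * u = 1 := by rw [← map_mul, hτ, map_one]
    have hX₀Y : X₀ = u * Y := by rw [hY, ← mul_assoc, hu2, one_mul]
    have hYv : Y.v a = 0 ∧ Y.v b = 0 := by
      constructor <;> simp [hY, u, hτdef, hX₀a, hX₀b]
    have hYa : Y.p a = a := by rw [hYp, Perm.mul_apply, ← hb, hτdef, swap_apply_right]
    have hYb : Y.p b = b := by rw [hYp, Perm.mul_apply, hba, hτdef, swap_apply_left]
    have humem : u ∈ P := ⟨fun i => by
      by_cases hia : i = a
      · subst hia; right; simp [u, hτdef, ← hb]
      · by_cases hib : i = b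
        · subst hib; right; simp [u, hτdef, hba]
        · left; simp [u, hτdef, swap_apply_of_ne_of_ne hia hib], rfl⟩
    have hX₀mem : X₀ ∈ P := ⟨fun i => Or.inr (by rw [hX₀p]), hX₀a.trans hX₀b.symm⟩
    have hYmem : Y ∈ P := mul_mem humem hX₀mem
    have hconjY : ∀ v : ι → ZMod 2, Y * K.φ v * Y⁻¹ = K.φ fun i => v (Y.p.symm i) := by
      intro v
      have hbase : W.base Y.v = K.φ Y.v := (swapVal_eq (hYv.1.trans hYv.2.symm)).symm
      have hperm : W.perm Y.p * K.φ v * (W.perm Y.p)⁻¹ = K.φ fun i => v (Y.p.symm i) := by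
        simp only [K, swapC_φ]
        have ha' : Y.p.symm a = a := by rw [Equiv.symm_apply_eq, hYa]
        have hb' : Y.p.symm b = b := by rw [Equiv.symm_apply_eq, hYb]
        have hh : ∀ i, Y.p.symm i = a ↔ i = a := fun i => by rw [Equiv.symm_apply_eq, hYa]
        refine W.ext (funext fun i => ?_) ?_
        · rw [W.conj_v]
          simp [swapVal, hh, hb', ha']
        · simp only [swapVal, W.conj_p, W.perm_p, ha', hb']
          split_ifs
          · simp
          · rw [← swap_apply_apply, hYa, hYb]
      conv_lhs => rw [W.eq_base_mul_perm Y]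
      rw [show W.base Y.v * W.perm Y.p * K.φ v * (W.base Y.v * W.perm Y.p)⁻¹ =
          W.base Y.v * (W.perm Y.p * K.φ v * (W.perm Y.p)⁻¹) * (W.base Y.v)⁻¹ by group, hperm, hbase,
        (K.comm _ _).eq, mul_inv_cancel_right]
    set Y' := f Y
    set ω := Y⁻¹ * Y'
    have hfK : ∀ v, f (K.φ v) = K.φ (sMap a b v) := fun v => by rw [hff _ (K.mem v), hf₀']
    have hω : ∀ v, ω * K.φ v * ω⁻¹ = K.φ v := by
      intro v
      have hsv : sMap a b (sMap a b v) = v := by
        funext i
        by_cases hib : i = b
        · subst hib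
          simp [sMap, hab]
          generalize v a = x, v b = y
          decide +revert
        · simp [sMap, hib]
      have hcomm : ∀ w : ι → ZMod 2, sMap a b (fun i => w (Y.p.symm i)) =
          fun i => sMap a b w (Y.p.symm i) := by
        intro w
        have ha' : Y.p.symm a = a := by rw [Equiv.symm_apply_eq, hYa]
        have hb' : Y.p.symm b = b := by rw [Equiv.symm_apply_eq, hYb]
        funext i
        by_cases hib : i = b
        · subst hib; simp [sMap, ha', hb']
        · have : Y.p.symm i ≠ b := fun e => hib (by rw [← hYb, ← e, Equiv.apply_symm_apply])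
          simp [sMap, hib, this]
      have h1 := congrArg f (hconjY (sMap a b v))
      rw [hf.map_mul (mul_mem hYmem (hKP (K.mem _))) (inv_mem hYmem), hf.map_mul hYmem (hKP (K.mem _)),
        hf.map_inv hYmem, hfK, hfK, hcomm, hsv] at h1
      calc ω * K.φ v * ω⁻¹ = Y⁻¹ * (Y' * K.φ v * Y'⁻¹) * Y := by simp only [ω]; group
        _ = Y⁻¹ * (Y * K.φ v * Y⁻¹) * Y := by rw [h1, hconjY]
        _ = K.φ v := by group
    have hωfix : ∀ i, i ≠ a → i ≠ b → ω.p i = i := by
      intro i hia hib
      have h1 := hω (e i)
      simp only [K, swapC_φ] at h1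
      rw [swapVal_eq (by rw [e_ne hia.symm, e_ne hib.symm]), W.conj_base] at h1
      have h2 := congrFun (W.base_injective h1) (ω.p i)
      simp [e_apply] at h2
      exact h2
    have hωp : ω.p = 1 ∨ ω.p = τ := by
      have hmaps : ∀ i, (i = a ∨ i = b) → (ω.p i = a ∨ ω.p i = b) := by
        intro i hi
        by_contra h
        push Not at h
        have := ω.p.injective (hωfix _ h.1 h.2)
        rw [this] at h
        exact hi.elim h.1 h.2
      rcases hmaps a (Or.inl rfl) with h1 | h1
      · left
        ext i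
        rw [Perm.one_apply]
        by_cases hia : i = a
        · subst hia; exact h1
        by_cases hib : i = b
        · subst hib
          exact (hmaps b (Or.inr rfl)).resolve_left fun e => hia (ω.p.injective (e.trans h1.symm))
        exact hωfix i hia hib
      · right
        ext i
        by_cases hia : i = a
        · subst hia; rw [h1, hτdef, swap_apply_left]
        by_cases hib : i = b
        · subst hib
          rw [hτdef, swap_apply_right]
          exact (hmaps b (Or.inr rfl)).resolve_right fun e => hia (ω.p.injective (e.trans h1.symm))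
        rw [hτdef, swap_apply_of_ne_of_ne hia hib]
        exact hωfix i hia hib
    have hY'p : Y'.p = Y.p * ω.p := by
      rw [show Y' = Y * ω by simp only [ω]; group]; rfl
    have hsmall : (τ * π).support.card < k := by
      rw [← hk]
      refine Finset.card_lt_card ⟨?_, ?_⟩
      · intro i hi
        rw [Perm.mem_support] at hi ⊢
        intro hfix
        refine hi ?_
        have hia : i ≠ a := fun e => ha (by rw [hb, ← e]; exact hfix)
        have hib : i ≠ b := fun e => by
          rw [e] at hfix; exact hab (hba.symm.trans hfix)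
        rw [Perm.mul_apply, hfix, hτdef, swap_apply_of_ne_of_ne hia hib]
      · intro h
        have h1 := h (Perm.mem_support.mpr ha)
        rw [Perm.mem_support, Perm.mul_apply, ← hb, hτdef, swap_apply_right] at h1
        exact h1 rfl
    have hfu : f u = W.base (ind {a, b}) := by
      have hu : u = K.φ (e a) := W.ext
        (funext fun o => by by_cases ho : o = a <;> simp [u, K, swapVal, ho, e_apply, hab.symm])
        (by simp [u, K, swapVal, e_apply, hab.symm, hτdef])
      rw [hu, hfK]
      have : sMap a b (e a) = ind {a, b} := by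
        funext i
        by_cases hib : i = b
        · subst hib; simp [sMap, e_ne hab.symm]
        · by_cases hia : i = a
          · subst hia; simp [sMap, hib]
          · simp [sMap, hib, hia, e_ne hia]
      rw [this]
      exact swapVal_eq (by simp)
    have hu' : f (W.base (ind {a, b}) * u) = W.base (ind {a, b}) * u := by
      have hu : W.base (ind {a, b}) * u = K.φ (e b) := W.ext
        (funext fun o => by
          by_cases ho : o = a
          · subst ho; simp [u, K, swapVal, e_ne hab]
          · by_cases ho' : o = b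
            · subst ho'; simp [u, K, swapVal, ho]
            · simp [u, K, swapVal, ho, ho', e_ne ho'])
        (by simp [u, K, swapVal, e_apply, hab, hτdef])
      rw [hu, hfK]
      congr 1
      funext i
      by_cases hib : i = b
      · subst hib; simp [sMap, e_ne hab]
      · simp [sMap, hib, e_ne hib]
    rcases hωp with hω1 | hω1
    · have hr := hR₀.trans (hf.rel hX₀mem hX₀sq)
      have hp' : (f X₀).p = τ * π := by
        rw [hX₀Y, hf.map_mul humem hYmem, hfu, W.mul_p, W.base_p, one_mul, hY'p, hω1, mul_one, hYp]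
      obtain ⟨v, hv⟩ := ih _ (by rw [← hp'] at hsmall; exact hsmall) (f X₀) rfl hr.sq.2
      exact ⟨v, hr.trans hv⟩
    · set X₁ := W.base (ind {a, b}) * X₀ with hX₁
      have hflip : W.base (e a) * X₀ * (W.base (e a))⁻¹ = X₁ := by
        refine W.ext (funext fun i => ?_) (by simp [hX₁])
        rw [W.conj_by_base, hX₀p]
        simp only [hX₁, W.mul_v, W.base_v, W.base_p, perm_one_symm_apply, ind_apply,
          Finset.mem_insert, Finset.mem_singleton]
        have hsymm : π.symm i = a ↔ i = b := by rw [Equiv.symm_apply_eq, ← hb]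
        by_cases hia : i = a
        · subst hia; simp [e_apply, hsymm, hab, add_comm]
        · by_cases hib : i = b
          · subst hib; simp [e_apply, hsymm, hia, add_comm]
          · simp [e_apply, hsymm, hia, hib]
      have hX₁mem : X₁ ∈ P := by
        rw [hX₁]
        exact mul_mem ⟨fun i => Or.inl rfl, by simp⟩ hX₀mem
      have hR₁ := hR₀.trans ((fus_conj (σ := σ) hP2 (W.base (e a))).rel hX₀mem hX₀sq)
      simp only [hflip] at hR₁
      have hr := hR₁.trans (hf.rel hX₁mem hR₁.sq.2)
      have hp' : (f X₁).p = τ * π := by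
        rw [hX₁, hX₀Y, ← mul_assoc,
          hf.map_mul (mul_mem ⟨fun i => Or.inl rfl, by simp⟩ humem) hYmem, hu', W.mul_p, W.mul_p,
          W.base_p, one_mul, hY'p, hω1, hYp]
        show τ * (τ * π * τ) = τ * π
        have hc : π * τ = τ * π := by
          have := swap_apply_apply π a b
          rw [← hb, hba, swap_comm, ← hτdef] at this
          rw [eq_mul_inv_iff_mul_eq] at this
          exact this.symm
        rw [mul_assoc τ π τ, hc, ← mul_assoc τ τ π, hτ, one_mul]
      obtain ⟨v, hv⟩ := ih _ (by rw [← hp'] at hsmall; exact hsmall) (f X₁) rfl hr.sq.2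
      exact ⟨v, hr.trans hv⟩

theorem Aligned.exists_even (hσ : σ.Aligned) {X : W ι} (hX : X * X = 1) (hne : X ≠ 1) :
    ∃ v, Even (wt v) ∧ 0 < wt v ∧ σ.R X (W.base v) := by
  obtain ⟨v, hv⟩ := hσ.exists_base _ X rfl hX
  have h0 : wt v ≠ 0 := fun e => hv.ne_one hne (by rw [wt_eq_zero.mp e, W.base_zero])
  by_cases hev : Even (wt v)
  · exact ⟨v, hev, Nat.pos_of_ne_zero h0, hv⟩
  obtain ⟨a, ha⟩ : ∃ a, v a = 0 := by
    by_contra hall
    push Not at hall
    apply hev
    rw [show v = 1 from funext fun i => (zmod2_cases _).resolve_left (hall i), wt_one]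
    exact hσ.normal.even
  have hsum : ∑ i, v i = 1 := by
    rw [sum_eq_wt]
    exact (Nat.not_even_iff_odd.mp hev).natCast_zmod_two
  have hw : hA a v = ind (insert a (supp v)) := by
    funext i
    by_cases hia : i = a
    · subst hia; simp [hA, hsum]
    · rcases zmod2_cases (v i) with h | h <;> simp [hA, hia, h, supp]
  refine ⟨hA a v, ?_, ?_, hv.trans ((hσ.normal.gam_hA a).rel v)⟩
  · rw [hw, wt_ind, Finset.card_insert_of_notMem (by simp [supp, ha]), ← wt_eq_card_supp]
    exact (Nat.not_even_iff_odd.mp hev).add_one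
  · rw [hw, wt_ind, Finset.card_insert_of_notMem (by simp [supp, ha])]
    omega

/-- The single class when there are two points. -/
theorem all_T_of_card_two (hcard : Fintype.card ι = 2) {X : W ι} (hX : X * X = 1) (hne : X ≠ 1) :
    σ.R X W.cst := by
  obtain ⟨a, b, hab, huniv⟩ := Finset.card_eq_two.mp (Finset.card_univ.trans hcard)
  have hall : ∀ i, i = a ∨ i = b := fun i => by
    have := Finset.mem_univ i
    rw [huniv] at this
    simpa using this
  have hvec : ∀ v : ι → ZMod 2, v = 0 ∨ v = 1 ∨ v = e a ∨ v = e b := by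
    intro v
    rcases zmod2_cases (v a) with ha | ha <;> rcases zmod2_cases (v b) with hb | hb
    · exact Or.inl (funext fun i => by rcases hall i with rfl | rfl <;> assumption)
    · refine Or.inr (Or.inr (Or.inr (funext fun i => ?_)))
      rcases hall i with rfl | rfl <;> simp [ha, hb, e_ne hab]
    · refine Or.inr (Or.inr (Or.inl (funext fun i => ?_)))
      rcases hall i with rfl | rfl <;> simp [ha, hb, e_ne hab.symm]
    · exact Or.inr (Or.inl (funext fun i => by rcases hall i with rfl | rfl <;> assumption))
  have h01 : (1 : ι → ZMod 2) ≠ 0 := one_ne_zero_of (by omega)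
  have key : ∀ (K : Chart ι) (χ : W ι →* Multiplicative (ZMod 2)), χ (K.φ (e a)) ≠ 1 →
      σ.T K (e a) ∨ σ.T K (e b) := by
    intro K χ hχ
    obtain ⟨f, z, hf, hz, hchi⟩ := transfer_chart (σ := σ) K (e a) χ hχ
    have hzT := fus_T hf hz
    rcases hvec z with rfl | rfl | rfl | rfl
    · exact absurd rfl (T_ne_zero hzT h01)
    · rw [K.one] at hz
      obtain ⟨ω, hω⟩ := hf.eq_conj K.cst_mem hz
      rw [hω _ (K.mem _), chi_conj] at hchi
      exact absurd hchi hχ
    · exact Or.inl hzT
    · exact Or.inr hzT
  have hbase : ∀ v : ι → ZMod 2, v ≠ 0 → σ.T (baseC ι) v := by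
    intro v hv
    have h1 : σ.T (baseC ι) (e a) := (key (baseC ι) chiV
      (by rw [baseC_φ, chiV_base, sum_e]; decide)).elim id fun h => T_wt h (by rw [wt_e, wt_e])
    rcases hvec v with rfl | rfl | rfl | rfl
    · exact absurd rfl hv
    · exact T_one
    · exact h1
    · exact T_wt h1 (by rw [wt_e, wt_e])
  have hswap : ∀ v, v ≠ 0 → σ.T (swapC a b hab) v := by
    intro v hv
    have h1 := key (swapC a b hab) chiP
      (by rw [swapC_φ]; exact chiP_swap hab _ (by simp [swapVal, e_apply, hab.symm]))
    have hflip : (fun i => e a (swap a b i)) = e b := funext fun i => by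
      rcases hall i with rfl | rfl <;> simp [e_ne hab, e_ne hab.symm]
    have h2 := (gam_flip (σ := σ) hab).T_iff (e a)
    rw [hflip] at h2
    rcases hvec v with rfl | rfl | rfl | rfl
    · exact absurd rfl hv
    · exact T_one
    · exact h1.elim id fun h => h2.mp h
    · exact h1.elim (fun h => h2.mpr h) id
  obtain ⟨hp2, hv⟩ := (W.mul_self_eq_one_iff X).mp hX
  have hmem : MemM (swap a b) X ∨ X.p = 1 := by
    rcases hall (X.p a) with h | h
    · right
      ext i
      rcases hall i with rfl | rfl
      · exact h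
      · rcases hall (X.p i) with e | e
        · exact absurd (X.p.injective (e.trans h.symm)) hab.symm
        · exact e
    · left
      have hb : X.p b = a := by rw [← h]; exact congrArg (fun e : Perm ι => e a) hp2
      refine ⟨fun i => ?_, fun i => Or.inr ?_⟩
      · rcases hall i with rfl | rfl
        · rw [swap_apply_left, ← h]; exact hv i
        · rw [swap_apply_right, ← hb]; exact hv i
      · rcases hall i with rfl | rfl
        · rw [h, swap_apply_left]
        · rw [hb, swap_apply_right]
  rcases hmem with h | h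
  · obtain ⟨v, rfl⟩ := mem_swapC hab h
    exact hswap v fun e => hne (by rw [e]; exact (swapC a b hab).zero)
  · have := hbase X.v fun e => hne (by rw [W.eq_base_of_p h, e, W.base_zero])
    rw [W.eq_base_of_p h]
    exact this

/-- The count, given a parametrization of the classes by the even weights. -/
theorem card_of_classes {n : ℕ} (hcard : Fintype.card ι = 2 * n)
    (hdist : ∀ v w : ι → ZMod 2, Even (wt v) → Even (wt w) → 0 < wt v → 0 < wt w →
      σ.R (W.base v) (W.base w) → wt v = wt w)
    (hex : ∀ X : W ι, X * X = 1 → X ≠ 1 → ∃ v, Even (wt v) ∧ 0 < wt v ∧ σ.R X (W.base v)) :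
    Nat.card {c : ConjClasses G // ∃ x ∈ c.carrier, orderOf x = 2} = n := by
  haveI : Fact (Nat.Prime 2) := ⟨Nat.prime_two⟩
  have hb : ∀ v : ι → ZMod 2, W.base v * W.base v = 1 := (baseC ι).sq
  have hset : ∀ i : Fin n, ∃ s : Finset ι, s.card = 2 * (i.1 + 1) := fun i => by
    obtain ⟨s, -, hs⟩ := Finset.exists_subset_card_eq (s := (Finset.univ : Finset ι))
      (n := 2 * (i.1 + 1)) (by rw [Finset.card_univ]; omega)
    exact ⟨s, hs⟩
  choose s hs using hset
  choose X hXH hX2 hXth using fun i : Fin n => exists_invol (σ := σ) (hb (ind (s i)))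
  have hord : ∀ i, orderOf (X i) = 2 := by
    intro i
    refine orderOf_eq_prime (by rw [pow_two, hX2]) fun e => ?_
    have h2 := hXth i
    rw [e, σ.th_one, ← W.base_zero] at h2
    have h3 := congrArg wt (W.base_injective h2)
    rw [wt_zero, wt_ind, hs i] at h3
    omega
  let m : Fin n → {c : ConjClasses G // ∃ x ∈ c.carrier, orderOf x = 2} :=
    fun i => ⟨ConjClasses.mk (X i), X i, ConjClasses.mem_carrier_mk, hord i⟩
  have hinj : Function.Injective m := by
    intro i j hij
    have hc : IsConj (X i) (X j) := ConjClasses.mk_eq_mk_iff_isConj.mp (congrArg Subtype.val hij)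
    have := hdist _ _ (by rw [wt_ind, hs i]; exact even_two_mul _)
      (by rw [wt_ind, hs j]; exact even_two_mul _) (by rw [wt_ind, hs i]; omega)
      (by rw [wt_ind, hs j]; omega) ⟨X i, hXH i, X j, hXH j, hX2 i, hX2 j, hXth i, hXth j, hc⟩
    rw [wt_ind, wt_ind, hs i, hs j] at this
    exact Fin.ext (by omega)
  have hsurj : Function.Surjective m := by
    rintro ⟨c, x, hxc, hx⟩
    obtain ⟨U, hU⟩ := (IsPGroup.of_card (G := ↥(Subgroup.zpowers x)) (n := 1)
      (by rw [Nat.card_zpowers, hx, pow_one])).exists_le_sylow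
    obtain ⟨g, hg⟩ := MulAction.exists_smul_eq G U σ.S
    have hy : g * x * g⁻¹ ∈ σ.H := by
      apply σ.S_le
      rw [← hg]
      exact ⟨x, hU (Subgroup.mem_zpowers x), rfl⟩
    set y := g * x * g⁻¹
    have hy2 : y * y = 1 := by
      rw [show y * y = g * (x * x) * g⁻¹ by simp only [y]; group,
        show x * x = 1 by rw [← pow_two, ← hx, pow_orderOf_eq_one]]
      group
    have hyne : σ.th y ≠ 1 := fun e => by
      have h1 := σ.th_ker y hy e hy2
      have : x = 1 := by simpa [y] using h1
      rw [this, orderOf_one] at hx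
      exact absurd hx (by decide)
    have hth2 : σ.th y * σ.th y = 1 := by rw [← σ.th_mul _ hy _ hy, hy2, σ.th_one]
    obtain ⟨v, hev, hpos, Z, hZ, V, hV, hZ2, hV2, hZth, hVth, hZV⟩ := hex _ hth2 hyne
    have hle : wt v ≤ 2 * n := hcard ▸ wt_le_card v
    obtain ⟨k, hk⟩ := hev
    have hkn : k - 1 < n := by omega
    obtain ⟨π, hπ⟩ := exists_perm_of_wt (v := v) (w := ind (s ⟨k - 1, hkn⟩))
      (by rw [wt_ind, hs]; dsimp only; omega)
    obtain ⟨Xi, hXi, Xj, hXj, e1, e2, t1, t2, hc⟩ :=
      (fus_conj (σ := σ) (baseC ι).isPGroup (W.perm π)).rel (base_mem v) (hb v)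
    refine ⟨⟨k - 1, hkn⟩, Subtype.ext ?_⟩
    show ConjClasses.mk (X _) = c
    rw [← ConjClasses.mem_carrier_iff_mk_eq.mp hxc, ConjClasses.mk_eq_mk_iff_isConj]
    have h1 : IsConj x y := isConj_iff.mpr ⟨g, rfl⟩
    have h2 : IsConj y Z := isConj_of_th hy hZ hy2 hZ2 hZth.symm
    have h3 : IsConj V Xi := isConj_of_th hV hXi hV2 e1 (hVth.trans t1.symm)
    have h4 : IsConj Xj (X ⟨k - 1, hkn⟩) := isConj_of_th hXj (hXH _) e2 (hX2 _) (by
      rw [t2, hXth]
      show W.perm π * W.base v * (W.perm π)⁻¹ = _
      rw [W.conj_base]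
      exact congrArg W.base (funext hπ))
    exact ((((h1.trans h2).trans hZV).trans h3).trans (hc.trans h4)).symm
  rw [← Nat.card_eq_of_bijective m ⟨hinj, hsurj⟩, Nat.card_fin]

theorem card_classes_of_aligned {n : ℕ} (hcard : Fintype.card ι = 2 * n) (hσ : σ.Aligned) :
    Nat.card {c : ConjClasses G // ∃ x ∈ c.carrier, orderOf x = 2} = n :=
  card_of_classes hcard (fun _ _ hv hw _ _ h => hσ.normal.classes_distinct hv hw h)
    fun _ h1 h2 => hσ.exists_even h1 h2

theorem card_classes {n : ℕ} (hn : 1 ≤ n) (hcard : Fintype.card ι = 2 * n) (σ : Setup ι G) :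
    Nat.card {c : ConjClasses G // ∃ x ∈ c.carrier, orderOf x = 2} = n := by
  rcases Nat.lt_or_ge n 2 with h | h
  · obtain rfl : n = 1 := by omega
    refine card_of_classes (σ := σ) hcard (fun v w hv hw h1 h2 _ => ?_) fun X h1 h2 => ?_
    · have := wt_le_card v
      have := wt_le_card w
      obtain ⟨i, hi⟩ := hv
      obtain ⟨j, hj⟩ := hw
      omega
    · exact ⟨1, by rw [wt_one, hcard]; exact even_two, by rw [wt_one]; omega,
        all_T_of_card_two hcard h1 h2⟩
  · have hN : Even (Fintype.card ι) := ⟨n, by omega⟩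
    have h4 : 4 ≤ Fintype.card ι := by omega
    have key : ∀ σ : Setup ι G, σ.Normal →
        Nat.card {c : ConjClasses G // ∃ x ∈ c.carrier, orderOf x = 2} = n := fun σ hσ => by
      rcases hσ.exists_aligned with hA | hA
      · exact card_classes_of_aligned hcard hA
      · exact card_classes_of_aligned hcard hA
    rcases exists_twist (σ := σ) hN h4 with hy | hy
    · exact key σ ⟨hN, h4, hy⟩
    · exact key _ ⟨hN, h4, hy⟩

end Setup

end Cfsg.Agent.H67.Kondo
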