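import Cfsg.Agent.H67.Kondo.Model
import Mathlib.GroupTheory.Index
import Mathlib.Algebra.Order.BigOperators.Ring.Finset

/-!
Elementary abelian subgroups of maximal order of the signed permutation group, and the
automorphisms they induce that are transvections.
-/

set_option autoImplicit false
set_option linter.unusedSectionVars false

namespace Cfsg.Agent.H67.Kondo

open Equiv

variable {ι : Type*}

theorem two_mul_le_two_pow : ∀ a : ℕ, 2 * a ≤ 2 ^ a
  | 0 => by norm_num
  | a + 1 => by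
    have := two_mul_le_two_pow a
    have : 1 ≤ 2 ^ a := Nat.one_le_two_pow
    rcases a with - | a
    · norm_num
    · have : 2 ≤ 2 ^ (a + 1) := by
        calc 2 = 2 ^ 1 := rfl
          _ ≤ _ := Nat.pow_le_pow_right (by norm_num) (by omega)
      rw [pow_succ 2 (a + 1)]; omega

theorem two_mul_lt_two_pow : ∀ a : ℕ, 3 ≤ a → 2 * a < 2 ^ a
  | 0, h => by omega
  | a + 1, h => by
    rcases Nat.lt_or_ge a 3 with h' | h'
    · obtain rfl : a = 2 := by omega
      norm_num
    · have := two_mul_lt_two_pow a h'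
      rw [pow_succ]; omega

/-- The elements belonging to the subgroup of the matching `μ`. -/
def MemM (μ : Perm ι) (w : W ι) : Prop :=
  (∀ i, w.v (μ i) = w.v i) ∧ ∀ i, w.p i = i ∨ w.p i = μ i

theorem MemM.base {μ : Perm ι} {v : ι → ZMod 2} (h : ∀ i, v (μ i) = v i) : MemM μ (W.base v) :=
  ⟨h, fun _ => Or.inl rfl⟩

theorem MemM.perm_swap [DecidableEq ι] {μ : Perm ι} (hμ : μ * μ = 1) (i : ι) :
    MemM μ (W.perm (swap i (μ i))) := by
  refine ⟨fun _ => rfl, fun j => ?_⟩
  have hi : μ (μ i) = i := congrArg (· i) hμ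
  by_cases h1 : j = i
  · subst h1; simp
  · by_cases h2 : j = μ i
    · subst h2; right; simp [hi]
    · left; simp [swap_apply_of_ne_of_ne h1 h2]

variable [Fintype ι] [DecidableEq ι]

/-- An elementary abelian subgroup of order `2 ^ #ι` is the subgroup of a matching. -/
theorem exists_matching (A : Subgroup (W ι)) (hcomm : ∀ a ∈ A, ∀ b ∈ A, Commute a b)
    (hsq : ∀ a ∈ A, a * a = 1) (hcard : Nat.card A = 2 ^ Fintype.card ι) :
    ∃ μ : Perm ι, μ * μ = 1 ∧ ∀ w, w ∈ A ↔ MemM μ w := by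
  classical
  -- the orbits of the permutation parts
  let P : Finset (Perm ι) := Finset.univ.filter fun p => ∃ w ∈ A, w.p = p
  have hmemP : ∀ p, p ∈ P ↔ ∃ w ∈ A, w.p = p := fun p => by simp [P]
  have hone : (1 : Perm ι) ∈ P := (hmemP 1).mpr ⟨1, A.one_mem, rfl⟩
  have hmul : ∀ p ∈ P, ∀ q ∈ P, p * q ∈ P := by
    intro p hp q hq
    obtain ⟨a, ha, rfl⟩ := (hmemP p).mp hp
    obtain ⟨b, hb, rfl⟩ := (hmemP q).mp hq
    exact (hmemP _).mpr ⟨a * b, A.mul_mem ha hb, rfl⟩
  have hsqP : ∀ p ∈ P, ∀ i, p (p i) = i := by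
    intro p hp i
    obtain ⟨a, ha, rfl⟩ := (hmemP p).mp hp
    exact congrArg (fun w : W ι => w.p i) (hsq a ha)
  have hcP : ∀ p ∈ P, ∀ q ∈ P, ∀ i, p (q i) = q (p i) := by
    intro p hp q hq i
    obtain ⟨a, ha, rfl⟩ := (hmemP p).mp hp
    obtain ⟨b, hb, rfl⟩ := (hmemP q).mp hq
    exact congrArg (fun w : W ι => w.p i) (hcomm a ha b hb)
  let O : ι → Finset ι := fun i => P.image fun p => p i
  have hself : ∀ i, i ∈ O i := fun i => Finset.mem_image.mpr ⟨1, hone, rfl⟩
  have hO : ∀ i j, j ∈ O i → O j = O i := by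
    intro i j hj
    obtain ⟨p, hp, rfl⟩ := Finset.mem_image.mp hj
    ext k
    simp only [O, Finset.mem_image]
    constructor
    · rintro ⟨q, hq, rfl⟩; exact ⟨q * p, hmul q hq p hp, rfl⟩
    · rintro ⟨q, hq, rfl⟩
      exact ⟨q * p, hmul q hq p hp, by simp [hsqP p hp]⟩
  let Orb : Finset (Finset ι) := Finset.univ.image O
  have hne : ∀ o ∈ Orb, o.Nonempty := by
    intro o ho
    obtain ⟨i, -, rfl⟩ := Finset.mem_image.mp ho
    exact ⟨i, hself i⟩
  let r : Finset ι → ι → ι := fun o d => if h : o.Nonempty then h.choose else d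
  have hOr : ∀ (o) (ho : o ∈ Orb) (d : ι), r o d ∈ o ∧ O (r o d) = o := by
    intro o ho d
    have h1 : r o d ∈ o := by
      simp only [r, dif_pos (hne o ho)]
      exact (hne o ho).choose_spec
    obtain ⟨i, -, hi⟩ := Finset.mem_image.mp ho
    subst hi
    exact ⟨h1, hO i _ h1⟩
  have hsum : ∑ o ∈ Orb, o.card = Fintype.card ι := by
    rw [← Finset.card_univ, Finset.card_eq_sum_card_fiberwise
      (fun i (_ : i ∈ (Finset.univ : Finset ι)) => Finset.mem_image_of_mem O (Finset.mem_univ i))]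
    refine Finset.sum_congr rfl fun o ho => ?_
    refine congrArg Finset.card ?_
    obtain ⟨i, -, rfl⟩ := Finset.mem_image.mp ho
    ext j
    simp only [Finset.mem_filter, Finset.mem_univ, true_and]
    exact ⟨fun h => hO i j h, fun h => h ▸ hself j⟩
  -- the base part of `A`
  let V : Finset (ι → ZMod 2) := Finset.univ.filter fun v => W.base v ∈ A
  have hVinv : ∀ v ∈ V, ∀ p ∈ P, ∀ i, v (p i) = v i := by
    intro v hv p hp i
    obtain ⟨a, ha, rfl⟩ := (hmemP p).mp hp
    have h := ((W.commute_iff _ _).mp (hcomm a ha _ (Finset.mem_filter.mp hv).2)).2 (a.p i)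
    simp only [W.base_v, W.base_p, Equiv.symm_apply_apply, perm_one_symm_apply] at h
    rw [add_comm (v (a.p i))] at h
    exact (add_left_cancel h).symm
  have hAcard : Nat.card A = P.card * V.card := by
    rw [← Finset.card_product, ← Nat.card_eq_finsetCard]
    choose f hf hfp using fun p : ↥P => (hmemP p.1).mp p.2
    refine Nat.card_congr (Equiv.ofBijective
      (fun a : A => (⟨(a.1.p, ((f ⟨a.1.p, (hmemP _).mpr ⟨a.1, a.2, rfl⟩⟩)⁻¹ * a.1).v), ?_⟩ : ↥(P ×ˢ V)))
      ⟨?_, ?_⟩)
    · refine Finset.mem_product.mpr ⟨(hmemP _).mpr ⟨a.1, a.2, rfl⟩, Finset.mem_filter.mpr ⟨Finset.mem_univ _, ?_⟩⟩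
      rw [← W.eq_base_of_p]
      · exact A.mul_mem (A.inv_mem (hf _)) a.2
      · simp [hfp]
    · intro a b hab
      simp only [Subtype.mk.injEq, Prod.mk.injEq] at hab
      obtain ⟨h1, h2⟩ := hab
      have h3 : (⟨a.1.p, (hmemP _).mpr ⟨a.1, a.2, rfl⟩⟩ : ↥P) = ⟨b.1.p, (hmemP _).mpr ⟨b.1, b.2, rfl⟩⟩ :=
        Subtype.ext h1
      rw [h3] at h2
      refine Subtype.ext (mul_left_cancel (a := (f ⟨b.1.p, (hmemP _).mpr ⟨b.1, b.2, rfl⟩⟩)⁻¹) ?_)
      exact W.ext h2 (by simp [h1])
    · rintro ⟨⟨p, v⟩, hpv⟩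
      obtain ⟨hp, hv⟩ := Finset.mem_product.mp hpv
      refine ⟨⟨f ⟨p, hp⟩ * W.base v, A.mul_mem (hf _) (Finset.mem_filter.mp hv).2⟩, ?_⟩
      have h1 : (f ⟨p, hp⟩ * W.base v).p = p := by simp [hfp]
      apply Subtype.ext
      simp only [h1]
      refine Prod.ext rfl ?_
      show (((f ⟨p, _⟩)⁻¹ * (f ⟨p, hp⟩ * W.base v) : W ι)).v = v
      rw [inv_mul_cancel_left]
      rfl
  have hrp : ∀ (o : ↥Orb) (p : Perm ι), p ((hne o.1 o.2).choose) ∈ O ((hne o.1 o.2).choose) →
      p ((hne o.1 o.2).choose) ∈ o.1 := by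
    intro o p hp
    obtain ⟨i, -, hi⟩ := Finset.mem_image.mp o.2
    have h1 : (hne o.1 o.2).choose ∈ o.1 := (hne o.1 o.2).choose_spec
    have h2 : O i = o.1 := hi
    have h3 : (hne o.1 o.2).choose ∈ O i := by rw [h2]; exact h1
    rw [hO i _ h3] at hp
    rwa [h2] at hp
  let FP : ↥P → (∀ o : ↥Orb, ↥o.1) := fun p o => ⟨p.1 ((hne o.1 o.2).choose),
    hrp o p.1 (Finset.mem_image_of_mem (fun q : Perm ι => q _) p.2)⟩
  have hrepO : ∀ i, O i ∈ Orb := fun i => Finset.mem_image_of_mem O (Finset.mem_univ i)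
  have hrep : ∀ i, ∃ q ∈ P, q ((hne _ (hrepO i)).choose) = i := by
    intro i
    have h1 := (hne _ (hrepO i)).choose_spec
    have h2 := hself i
    rw [← hO i _ h1] at h2
    exact Finset.mem_image.mp h2
  have hFP : Function.Injective FP := by
    intro p q h
    refine Subtype.ext (Equiv.ext fun i => ?_)
    obtain ⟨s, hs, hsi⟩ := hrep i
    have h1 : p.1 ((hne _ (hrepO i)).choose) = q.1 ((hne _ (hrepO i)).choose) :=
      congrArg Subtype.val (congrFun h ⟨O i, hrepO i⟩)
    rw [← hsi, hcP _ p.2 _ hs, hcP _ q.2 _ hs, h1]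
  let FV : ↥V → (↥Orb → ZMod 2) := fun v o => v.1 ((hne o.1 o.2).choose)
  have hFV : Function.Injective FV := by
    intro v w h
    refine Subtype.ext (funext fun i => ?_)
    obtain ⟨s, hs, hsi⟩ := hrep i
    rw [← hsi, hVinv _ v.2 _ hs, hVinv _ w.2 _ hs]
    exact congrFun h ⟨O i, hrepO i⟩
  have hcP' : P.card ≤ ∏ o : ↥Orb, o.1.card := by
    simpa [Fintype.card_pi] using Fintype.card_le_of_injective FP hFP
  have hcV : V.card ≤ 2 ^ Orb.card := by
    simpa [ZMod.card] using Fintype.card_le_of_injective FV hFV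
  have hprod2 : ∏ o ∈ Orb, 2 ^ o.card = 2 ^ Fintype.card ι := by
    rw [Finset.prod_pow_eq_pow_sum, hsum]
  rw [Finset.prod_coe_sort Orb Finset.card] at hcP'
  have htot : 2 ^ Fintype.card ι ≤ ∏ o ∈ Orb, 2 * o.card := by
    rw [Finset.prod_mul_distrib, Finset.prod_const, mul_comm, ← hcard, hAcard]
    exact Nat.mul_le_mul hcP' hcV
  have hsmall : ∀ o ∈ Orb, o.card ≤ 2 := by
    intro o ho
    by_contra hlt
    have := Finset.prod_lt_prod (s := Orb) (f := fun o => 2 * o.card) (g := fun o => 2 ^ o.card)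
      (fun o ho => by have := (hne o ho).card_pos; omega)
      (fun o _ => two_mul_le_two_pow _) ⟨o, ho, two_mul_lt_two_pow _ (by omega)⟩
    rw [hprod2] at this
    omega
  have heq : ∏ o ∈ Orb, o.card * 1 = P.card ∧ 2 ^ Orb.card = V.card := by
    have h1 : (∏ o ∈ Orb, o.card) * 2 ^ Orb.card ≤ P.card * V.card := by
      rw [← hAcard, hcard, ← hprod2, ← Finset.prod_const (s := Orb) (2 : ℕ), ← Finset.prod_mul_distrib]
      exact Finset.prod_le_prod' fun o _ => (Nat.mul_comm _ _).trans_le (two_mul_le_two_pow _)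
    have hP0 : 0 < P.card := Finset.card_pos.mpr ⟨1, hone⟩
    have hV0 : 0 < 2 ^ Orb.card := Nat.two_pow_pos _
    simp only [mul_one]
    constructor
    · refine le_antisymm ?_ hcP'
      exact Nat.le_of_mul_le_mul_right (h1.trans (Nat.mul_le_mul_left _ hcV)) hV0
    · refine le_antisymm ?_ hcV
      exact Nat.le_of_mul_le_mul_left ((Nat.mul_le_mul_right _ hcP').trans h1) hP0
  simp only [mul_one] at heq
  -- the matching
  have hmu : ∀ i, ∃ j, j ∈ O i ∧ ∀ k ∈ O i, k = i ∨ k = j := by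
    intro i
    by_cases h : ∃ k ∈ O i, k ≠ i
    · obtain ⟨k, hk, hki⟩ := h
      refine ⟨k, hk, fun l hl => ?_⟩
      by_contra hl2
      push Not at hl2
      have h3 : ({i, k, l} : Finset ι) ⊆ O i := by
        intro x hx
        simp only [Finset.mem_insert, Finset.mem_singleton] at hx
        rcases hx with rfl | rfl | rfl
        exacts [hself _, hk, hl]
      have h4 := (Finset.card_le_card h3).trans (hsmall _ (hrepO i))
      rw [Finset.card_insert_of_notMem (by simp [hki.symm, hl2.1.symm]),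
        Finset.card_pair hl2.2.symm] at h4
      omega
    · push Not at h
      exact ⟨i, hself i, fun k hk => Or.inl (h k hk)⟩
  choose μ₀ hμmem hμall using hmu
  have hμ2 : ∀ i, μ₀ (μ₀ i) = i := by
    intro i
    have hOe := hO i _ (hμmem i)
    rcases hμall i (μ₀ (μ₀ i)) (hOe ▸ hμmem (μ₀ i)) with h | h
    · exact h
    · have hi : i ∈ O (μ₀ i) := hOe ▸ hself i
      rcases hμall (μ₀ i) i hi with h' | h'
      · exact (congrArg μ₀ (congrArg μ₀ h')).trans (by rw [h, h]; exact h'.symm)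
      · exact h'.symm
  let μ : Perm ι := Function.Involutive.toPerm μ₀ hμ2
  have hp_mu : ∀ p ∈ P, ∀ i, p i = i ∨ p i = μ i :=
    fun p hp i => hμall i (p i) (Finset.mem_image_of_mem (fun q : Perm ι => q i) hp)
  have hsym : ∀ w ∈ A, ∀ i, w.v (μ i) = w.v i := by
    intro w hw i
    by_cases hi : μ i = i
    · rw [hi]
    · obtain ⟨p, hp, hpi⟩ := Finset.mem_image.mp (hμmem i)
      have hpi' : p i = μ i := hpi
      obtain ⟨b, hb, hbp⟩ := (hmemP p).mp hp
      rcases hp_mu w.p ((hmemP _).mpr ⟨w, hw, rfl⟩) i with h | h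
      · have h1 := ((W.commute_iff _ _).mp (hcomm w hw b hb)).2 (μ i)
        have hwmu : w.p.symm (μ i) = μ i := by
          rw [Equiv.symm_apply_eq, ← hpi', hcP _ ((hmemP _).mpr ⟨w, hw, rfl⟩) _ hp, h]
        have hbs : b.p.symm (μ i) = i := by rw [Equiv.symm_apply_eq, hbp, hpi']
        rw [hwmu, hbs, add_comm] at h1
        exact add_left_cancel h1
      · rw [← h]
        exact ((W.mul_self_eq_one_iff w).mp (hsq w hw)).2 i
  refine ⟨μ, Equiv.ext hμ2, fun w => ⟨fun hw => ⟨hsym w hw, hp_mu _ ((hmemP _).mpr ⟨w, hw, rfl⟩)⟩, ?_⟩⟩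
  rintro ⟨hv, hp⟩
  have hwO : ∀ i, w.p i ∈ O i := by
    intro i
    rcases hp i with h | h <;> rw [h]
    exacts [hself i, hμmem i]
  have hpP : w.p ∈ P := by
    have hbij : Function.Bijective FP := (Fintype.bijective_iff_injective_and_card FP).mpr
      ⟨hFP, by simp [Fintype.card_pi, ← heq.1, Finset.prod_attach Orb Finset.card]⟩
    obtain ⟨⟨q, hq⟩, hqq⟩ := hbij.2 fun o => ⟨w.p ((hne o.1 o.2).choose), hrp o w.p (hwO _)⟩
    have hqw : ∀ i, q i = w.p i := by
      intro i
      have hr : q ((hne _ (hrepO i)).choose) = w.p ((hne _ (hrepO i)).choose) :=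
        congrArg Subtype.val (congrFun hqq ⟨O i, hrepO i⟩)
      have hro : (hne _ (hrepO i)).choose ∈ O i := (hne _ (hrepO i)).choose_spec
      set a := (hne _ (hrepO i)).choose
      rcases hμall i a hro with h | h
      · rwa [h] at hr
      · rw [h] at hr
        by_cases hia : μ₀ i = i
        · rwa [hia] at hr
        · -- both act inside the orbit `{i, μ i}`
          rcases hp_mu q hq i with hqi | hqi <;> rcases hp i with hwi | hwi <;> rw [hqi, hwi]
          · exfalso
            rcases hp_mu q hq (μ₀ i) with h1 | h1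
            · have h2 : w.p (μ₀ i) = w.p i := by rw [← hr, h1, hwi]; rfl
              exact hia (w.p.injective h2)
            · have h2 : q (μ₀ i) = q i := by rw [h1, hqi]; exact hμ2 i
              exact hia (q.injective h2)
          · exfalso
            rcases hp (μ₀ i) with h1 | h1
            · have h2 : q (μ₀ i) = q i := by rw [hr, h1, hqi]; rfl
              exact hia (q.injective h2)
            · have h2 : w.p (μ₀ i) = w.p i := by rw [h1, hwi]; exact hμ2 i
              exact hia (w.p.injective h2)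
    rw [← Equiv.ext hqw]
    exact hq
  obtain ⟨b, hb, hbp⟩ := (hmemP _).mp hpP
  have hmem : W.base (b⁻¹ * w).v ∈ A := by
    have hVall : ∀ u : ι → ZMod 2, (∀ i, u (μ i) = u i) → W.base u ∈ A := by
      intro u hu
      obtain ⟨⟨v, hvV⟩, hvu⟩ := ((Fintype.bijective_iff_injective_and_card FV).mpr
        ⟨hFV, by simp [ZMod.card, heq.2]⟩).2 fun o => u ((hne o.1 o.2).choose)
      have : v = u := by
        funext i
        obtain ⟨s, hs, hsi⟩ := hrep i
        have h1 : v ((hne _ (hrepO i)).choose) = u ((hne _ (hrepO i)).choose) :=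
          congrFun hvu ⟨O i, hrepO i⟩
        conv_lhs => rw [← hsi]
        rw [hVinv v hvV s hs, h1]
        rcases hp_mu s hs ((hne _ (hrepO i)).choose) with h2 | h2
        · rw [← h2, hsi]
        · rw [hsi] at h2
          conv_rhs => rw [h2]
          exact (hu _).symm
      rw [← this]
      exact (Finset.mem_filter.mp hvV).2
    refine hVall _ fun i => ?_
    have hbμ : ∀ i, b.p (μ i) = μ (b.p i) := by
      intro i
      rcases hp_mu _ hpP i with h | h <;> rw [← hbp] at h
      · rcases hp_mu _ hpP (μ i) with h' | h' <;> rw [← hbp] at h'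
        · rw [h', h]
        · rw [h, h']
          have h3 : b.p (μ i) = b.p i := by rw [h', h]; exact hμ2 i
          have h4 := b.p.injective h3
          rw [h4]; exact h4
      · rcases hp_mu _ hpP (μ i) with h' | h' <;> rw [← hbp] at h'
        · have h3 : b.p i = b.p (μ i) := by rw [h, h']
          have h4 := b.p.injective h3
          rw [← h4, h]; exact (congrArg μ h4.symm).symm.trans rfl
        · rw [h', h]
    simp only [W.mul_v, W.inv_v, W.inv_p, perm_inv_symm_apply]
    rw [hbμ, hsym b hb, hv]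
  have : b * W.base (b⁻¹ * w).v = w := by
    rw [← W.eq_base_of_p (by simp [hbp]), mul_inv_cancel_left]
  rw [← this]
  exact A.mul_mem hb hmem

end Cfsg.Agent.H67.Kondo
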