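import Cfsg.Agent.H67.Kondo.Block

/-!
An element exchanging `ind {a, b}` with the transposition `(a b)`.
-/

set_option autoImplicit false
set_option linter.unusedSectionVars false
set_option linter.unusedSimpArgs false

namespace Cfsg.Agent.H67.Kondo

open Equiv

variable {ι : Type*} [Fintype ι] [DecidableEq ι] {a b : ι}

theorem mem_swapC (hab : a ≠ b) {w : W ι} (hw : MemM (swap a b) w) : w ∈ (swapC a b hab).grp := by
  have hp : w.p = 1 ∨ w.p = swap a b := by
    rcases hw.2 a with h | h
    · left
      ext i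
      rcases hw.2 i with e | e
      · exact e
      · rw [e]
        by_cases hia : i = a
        · subst hia; exact (e.symm.trans h)
        · by_cases hib : i = b
          · subst hib
            rw [swap_apply_right] at e
            exact absurd (w.p.injective (e.trans h.symm)) hia
          · exact swap_apply_of_ne_of_ne hia hib
    · right
      ext i
      rcases hw.2 i with e | e
      · rw [e]
        by_cases hia : i = a
        · subst hia; exact (e.symm.trans h)
        · by_cases hib : i = b
          · subst hib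
            rw [swap_apply_left] at h
            exact absurd (w.p.injective (e.trans h.symm)) hia
          · exact (swap_apply_of_ne_of_ne hia hib).symm
      · exact e
  have hv : w.v b = w.v a := by simpa using hw.1 a
  rcases hp with hp | hp
  · exact ⟨w.v, (swapVal_eq hv.symm).trans (W.eq_base_of_p hp).symm⟩
  · refine ⟨fun i => if i = a then w.v b + 1 else w.v i, W.ext (funext fun i => ?_) ?_⟩
    · simp only [swapC_φ, swapVal]
      by_cases hia : i = a
      · subst hia; simp [hab.symm, hv]
      · simp [hia]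
    · simp [swapVal, hab.symm, hp]

namespace Setup

variable {G : Type*} [Group G] [Finite G] {σ : Setup ι G} (hab : a ≠ b)

theorem x_fixed {p q : ι} (hpb : p ≠ b) (hqb : q ≠ b) :
    (fun i => (1 + e b : ι → ZMod 2) ((swap p q).symm i)) = 1 + e b := by
  funext i
  have : swap p q i = b ↔ i = b := by
    constructor
    · intro h
      have := congrArg (swap p q) h
      rwa [swap_apply_self, swap_apply_of_ne_of_ne hpb.symm hqb.symm] at this
    · rintro rfl
      exact swap_apply_of_ne_of_ne hpb.symm hqb.symm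
  simp [e_apply, this]

theorem pair_moved {p q : ι} (hpq : p ≠ q) : (fun i => e p ((swap p q).symm i)) ≠ e p := fun he => by
  have := congrFun he p
  simp [e_apply, hpq.symm] at this

/-- Transpositions of the rest go to pairs. -/
theorem centre_rest {f : W ι → W ι} (hf : σ.Fus (swapC a b hab).grp f) {ν : Perm ι} (hν2 : ν * ν = 1)
    (hν : ∀ w, MemM ν w ↔ ∃ v, f ((swapC a b hab).φ v) = w)
    (hx : f ((swapC a b hab).φ (1 + e b)) = W.cst) {p q : ι} (hpq : p ≠ q) (hpa : p ≠ a) (hpb : p ≠ b)
    (hqa : q ≠ a) (hqb : q ≠ b) :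
    ∃ i j, i ≠ j ∧ f ((swapC a b hab).φ (ind {p, q})) = W.base (ind {i, j}) ∧
      ((ν i = i ∧ ν j = j) ∨ ν i = j) :=
  centre_pair hf hν2 hν hx
    (gam_perm hab (swap p q) (swap_apply_of_ne_of_ne hpa.symm hqa.symm)
      (swap_apply_of_ne_of_ne hpb.symm hqb.symm))
    (x_fixed hpb hqb) (fun v => by simpa using swap_two p q v) ⟨e p, pair_moved hpq⟩

theorem centre_rest_fixed {f : W ι → W ι} (hf : σ.Fus (swapC a b hab).grp f) {ν : Perm ι}
    (hν2 : ν * ν = 1) (hν : ∀ w, MemM ν w ↔ ∃ v, f ((swapC a b hab).φ v) = w)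
    (hx : f ((swapC a b hab).φ (1 + e b)) = W.cst) {p q l : ι} (hpq : p ≠ q) (hql : q ≠ l)
    (hpl : p ≠ l) (hpa : p ≠ a) (hpb : p ≠ b) (hqa : q ≠ a) (hqb : q ≠ b) (hla : l ≠ a)
    (hlb : l ≠ b) :
    ∃ i j, i ≠ j ∧ f ((swapC a b hab).φ (ind {p, q})) = W.base (ind {i, j}) ∧ ν i = i ∧ ν j = j := by
  refine centre_fixed hf hν2 hν (c' := ind {q, l}) (v := e p) hx
    (gam_perm hab (swap p q) (swap_apply_of_ne_of_ne hpa.symm hqa.symm)
      (swap_apply_of_ne_of_ne hpb.symm hqb.symm))
    (x_fixed hpb hqb) (fun v => by simpa using swap_two p q v)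
    (gam_perm hab (swap q l) (swap_apply_of_ne_of_ne hqa.symm hla.symm)
      (swap_apply_of_ne_of_ne hqb.symm hlb.symm))
    (x_fixed hqb hlb) (fun v => by simpa using swap_two q l v) ?_
  intro h
  have := congrFun h l
  simp [e_apply, swap_apply_def, hpl.symm, hql.symm, hpq.symm] at this
  try tauto

/-- The image is the subgroup of a transposition or, in degree four, of a fixed point free one. -/
theorem Aligned.image_shape (hσ : σ.Aligned) {f : W ι → W ι}
    (hf : σ.Fus (swapC a b hab).grp f) {ν : Perm ι} (hν2 : ν * ν = 1)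
    (hν : ∀ w, MemM ν w ↔ ∃ v, f ((swapC a b hab).φ v) = w)
    (hx : f ((swapC a b hab).φ (1 + e b)) = W.cst) :
    (∃ i j, i ≠ j ∧ ν = swap i j) ∨ (Fintype.card ι = 4 ∧ ∀ i, ν i ≠ i) := by
  have h4 := hσ.normal.four
  obtain ⟨m, hm⟩ := hσ.normal.even
  have h1 := hσ.image_ne_one hab hf hν
  by_cases h6 : Fintype.card ι = 4
  · by_cases hfree : ∀ i, ν i ≠ i
    · exact Or.inr ⟨h6, hfree⟩
    · push Not at hfree
      obtain ⟨i, hi⟩ := hfree
      refine Or.inl ((swap_of_fix ν ?_).resolve_left h1)
      by_contra hlt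
      have hc : ν.support = (Finset.univ.filter fun i => ν i = i)ᶜ := by ext j; simp
      have hcard : ν.support.card = 3 := by
        have hpos : 0 < (Finset.univ.filter fun i => ν i = i).card :=
          Finset.card_pos.mpr ⟨i, by simp [hi]⟩
        rw [hc, Finset.card_compl]
        omega
      have hd : Even ν.support.card := by
        by_cases hν1 : ν = 1
        · simp [hν1]
        · have h3 : orderOf ν = 2 := orderOf_eq_prime (by rw [pow_two, hν2]) hν1
          rcases Perm.cycleType_prime_order (σ := ν) (by rw [h3]; exact Nat.prime_two) with ⟨k, hk⟩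
          rw [← Perm.sum_cycleType, hk, h3]
          exact ⟨k + 1, by simp; omega⟩
      rw [hcard] at hd
      exact absurd hd (by decide)
  · left
    refine (swap_of_fix ν ?_).resolve_left h1
    obtain ⟨p₀, hp₀a, hp₀b, -⟩ := rest_other (a := a) (b := b) h4 a
    have hR := card_rest hab
    have hbig := fix_big hf ν ((Finset.univ \ {a, b} : Finset ι).erase p₀)
      (Finset.card_pos.mp (by rw [Finset.card_erase_of_mem (by simp [hp₀a, hp₀b])]; omega))
      (fun p => ind {p, p₀}) ?_ ?_
    · rw [Finset.card_erase_of_mem (by simp [hp₀a, hp₀b])] at hbig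
      omega
    · intro s hs s' hs' h
      simp only [Finset.mem_coe, Finset.mem_powerset] at hs hs'
      ext i
      by_cases hi : i ∈ (Finset.univ \ {a, b} : Finset ι).erase p₀
      · have hne : i ≠ p₀ := (Finset.mem_erase.mp hi).1
        have := congrFun h i
        simp only [Finset.sum_apply, ind_apply, Finset.mem_insert, Finset.mem_singleton, hne,
          or_false, Finset.sum_ite_eq] at this
        by_cases h1 : i ∈ s <;> by_cases h2 : i ∈ s' <;> simp_all
      · exact iff_of_false (fun h1 => hi (hs h1)) fun h1 => hi (hs' h1)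
    · intro p hp
      simp only [Finset.mem_erase, Finset.mem_sdiff, Finset.mem_univ, Finset.mem_insert,
        Finset.mem_singleton, true_and, not_or] at hp
      obtain ⟨l, -, hl⟩ := Finset.exists_mem_notMem_of_card_lt_card
        (s := ({a, b, p, p₀} : Finset ι)) (t := Finset.univ)
        (by rw [Finset.card_univ]; exact Finset.card_le_four.trans_lt (by omega))
      simp only [Finset.mem_insert, Finset.mem_singleton, not_or] at hl
      exact centre_rest_fixed hab hf hν2 hν hx hp.1 (Ne.symm hl.2.2.2) (Ne.symm hl.2.2.1) hp.2.1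
        hp.2.2 hp₀a hp₀b hl.1 hl.2.1

/-- The fixed point free case does not occur. -/
theorem Aligned.not_free (hσ : σ.Aligned) {f : W ι → W ι}
    (hf : σ.Fus (swapC a b hab).grp f) {ν : Perm ι} (hν2 : ν * ν = 1)
    (hν : ∀ w, MemM ν w ↔ ∃ v, f ((swapC a b hab).φ v) = w)
    (hx : f ((swapC a b hab).φ (1 + e b)) = W.cst) (hcard : Fintype.card ι = 4)
    (hfree : ∀ i, ν i ≠ i) : False := by
  set K := swapC a b hab
  have h4 := hσ.normal.four
  have hνν : ∀ k, ν (ν k) = k := fun k => congrArg (fun e : Perm ι => e k) hν2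
  obtain ⟨c, hca, hcb, -⟩ := rest_other (a := a) (b := b) h4 a
  obtain ⟨d, hda, hdb, hdc⟩ := rest_other (a := a) (b := b) h4 c
  have hall : ∀ k, k = a ∨ k = b ∨ k = c ∨ k = d := by
    intro k
    by_contra hk
    push Not at hk
    have hc : ({k, a, b, c, d} : Finset ι).card = 5 := by
      simp [hk.1, hk.2.1, hk.2.2.1, hk.2.2.2, hab, hca.symm, hda.symm, hcb.symm, hdb.symm, hdc.symm]
    have := Finset.card_le_univ ({k, a, b, c, d} : Finset ι)
    omega
  -- the two blocks
  obtain ⟨i, hi⟩ : ∃ i : ι, i = a := ⟨a, rfl⟩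
  set i' := ν i with hi'
  obtain ⟨j, -, hj⟩ := Finset.exists_mem_notMem_of_card_lt_card
    (s := ({i, i'} : Finset ι)) (t := Finset.univ)
    (by rw [Finset.card_univ]; exact Finset.card_le_two.trans_lt (by omega))
  simp only [Finset.mem_insert, Finset.mem_singleton, not_or] at hj
  set j' := ν j with hj'
  have hii' : i ≠ i' := (hfree i).symm
  have hjj' : j ≠ j' := (hfree j).symm
  have hji : j' ≠ i := fun e => hj.2 (by rw [hi', ← e, hj', hνν])
  have hji' : j' ≠ i' := fun e => hj.1 (ν.injective e)
  have hν_i' : ν i' = i := hνν i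
  have hν_j' : ν j' = j := hνν j
  have hblocks : ∀ k, k = i ∨ k = i' ∨ k = j ∨ k = j' := by
    intro k
    by_contra hk
    push Not at hk
    have hc : ({k, i, i', j, j'} : Finset ι).card = 5 := by
      simp [hk.1, hk.2.1, hk.2.2.1, hk.2.2.2, hii', Ne.symm hj.1, hji.symm, Ne.symm hj.2, hji'.symm, hjj']
    have := Finset.card_le_univ ({k, i, i', j, j'} : Finset ι)
    omega
  let η : Perm ι := swap i j * swap i' j'
  have hη_i : η i = j := by
    simp [η, swap_apply_of_ne_of_ne hii' hji.symm]
  have hη_i' : η i' = j' := by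
    simp [η, swap_apply_of_ne_of_ne hji hjj'.symm]
  have hη_j : η j = i := by
    simp [η, swap_apply_of_ne_of_ne hj.2 hjj']
  have hη_j' : η j' = i' := by
    simp [η, swap_apply_of_ne_of_ne hii'.symm (Ne.symm hj.2)]
  have hην : ∀ k, η (ν k) = ν (η k) := by
    intro k
    rcases hblocks k with rfl | rfl | rfl | rfl
    · rw [← hi', hη_i', hη_i]
    · rw [hν_i', hη_i, hη_i', hν_j']
    · rw [← hj', hη_j', hη_j]
    · rw [hν_j', hη_j, hη_j', hν_i']
  have hnorm : ∀ w, MemM ν w → MemM ν (W.perm η * w * (W.perm η)⁻¹) := by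
    intro w hw
    have hs : ∀ k, η.symm (ν k) = ν (η.symm k) := fun k => by
      rw [Equiv.symm_apply_eq, hην, Equiv.apply_symm_apply]
    refine ⟨fun k => ?_, fun k => ?_⟩
    · simp only [W.conj_v, W.perm_v, W.perm_p, Pi.zero_apply, zero_add, add_zero]
      rw [hs, hw.1]
    · simp only [W.conj_p, W.perm_p, Perm.mul_apply, Perm.inv_def]
      rcases hw.2 (η.symm k) with e | e <;> rw [e]
      · left; rw [Equiv.apply_symm_apply]
      · right; rw [hην, Equiv.apply_symm_apply]
  -- the induced map
  have hsq : ∀ w, MemM ν w → w.p * w.p = 1 := by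
    intro w hw
    ext k
    rw [Perm.mul_apply, Perm.one_apply]
    rcases hw.2 k with e | e
    · rw [e, e]
    · rw [e]
      rcases hw.2 (ν k) with e' | e'
      · exact absurd (w.p.injective (e'.trans e.symm)) (hfree k)
      · rw [e', hνν]
  obtain ⟨f', hf', e'⟩ := hf.symm
  have himg : ∀ {w : W ι}, w ∈ hf.image → MemM ν w := by
    rintro _ ⟨_, ⟨v, rfl⟩, rfl⟩
    exact (hν _).mpr ⟨v, rfl⟩
  have himg' : ∀ {w : W ι}, MemM ν w → w ∈ hf.image := by
    intro w hw
    obtain ⟨v, rfl⟩ := (hν w).mp hw
    exact ⟨_, K.mem v, rfl⟩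
  have hc1 := (hf.comp (fus_conj (σ := σ) (P := hf.image)
    (isPGroup_of_sq fun w hw => hsq w (himg hw)) (W.perm η)) fun w hw => ⟨w, hw, rfl⟩).comp hf'
    (fun w hw => himg' (hnorm _ (himg ⟨w, hw, rfl⟩)))
  obtain ⟨k₁, hk₁, hk₁'⟩ := gam_of_fus hc1 fun v => by
    obtain ⟨u, hu⟩ := (hν _).mp (hnorm _ ((hν _).mpr ⟨v, rfl⟩))
    show f' (W.perm η * f (K.φ v) * (W.perm η)⁻¹) ∈ K.grp
    rw [← hu, e' _ (K.mem u)]
    exact K.mem u
  have hk : ∀ v, f (K.φ (k₁ v)) = W.perm η * f (K.φ v) * (W.perm η)⁻¹ := by
    intro v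
    obtain ⟨u, hu⟩ := (hν _).mp (hnorm _ ((hν _).mpr ⟨v, rfl⟩))
    rw [hk₁' v]
    show f (f' (W.perm η * f (K.φ v) * (W.perm η)⁻¹)) = _
    rw [← hu, e' _ (K.mem u)]
  have hxk : k₁ (1 + e b) = 1 + e b := by
    refine K.inj (hf.inj (K.mem _) (K.mem _) ?_)
    rw [hk, hx, ← (W.cst_comm _).eq, mul_inv_cancel_right]
  -- the double transpositions are fused to the centre
  have hdbl : ∀ u : ι → ZMod 2, (∀ k, u (ν k) = u k) → σ.R ⟨u, ν⟩ (W.perm ν) := by
    intro u hu
    have h1 : MemM ν (⟨u, ν⟩ : W ι) := ⟨hu, fun k => Or.inr rfl⟩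
    have h2 := (fus_conj (σ := σ) (P := hf.image) (isPGroup_of_sq fun w hw => hsq w (himg hw))
      (W.base fun k => if k = i ∨ k = j then u k else 0)).rel (himg' h1)
      ((W.mul_self_eq_one_iff _).mpr ⟨hν2, hu⟩)
    convert h2 using 1
    refine W.ext (funext fun k => ?_) (by simp)
    rw [W.conj_by_base]
    have hs : ν.symm k = ν k := by rw [Equiv.symm_apply_eq, hνν]
    simp only [W.perm_v, Pi.zero_apply, hs]
    rcases hblocks k with rfl | rfl | rfl | rfl
    · simp [← hi', hii'.symm, Ne.symm hj.2, CharTwo.add_self_eq_zero]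
    · simp [hν_i', hii'.symm, Ne.symm hj.2, show u i' = u i from hu i, CharTwo.add_self_eq_zero]
    · simp [← hj', hjj'.symm, hji, CharTwo.add_self_eq_zero]
    · simp [hν_j', hjj'.symm, hji, show u j' = u j from hu j, CharTwo.add_self_eq_zero]
  have hTν : σ.R (W.perm ν) W.cst := by
    set y : ι → ZMod 2 := 1 + e c
    have hy : σ.T K y := (hσ.T_iff hab).mpr ⟨Or.inl (by simp [y, e_ne hca.symm]), fun r s _ _ _ _ hr hs => by
      have hr' : r = c := by by_contra h; simp [y, e_ne h] at hr
      have hs' : s = c := by by_contra h; simp [y, e_ne h] at hs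
      rw [hr', hs']⟩
    have hy' : σ.T K (1 + e b + y) := by
      refine (hσ.T_iff hab).mpr ⟨Or.inr ?_, fun r s hra hrb hsa hsb hr hs => ?_⟩
      · simp [y, e_ne hcb.symm, CharTwo.add_self_eq_zero]
      · have : ∀ k, k ≠ a → k ≠ b → (1 + e b + y) k = 0 → k = d := by
          intro k hka hkb hk
          rcases hall k with rfl | rfl | rfl | rfl
          · exact absurd rfl hka
          · exact absurd rfl hkb
          · simp [y, e_ne hkb, CharTwo.add_self_eq_zero] at hk
          · rfl
        rw [this r hra hrb hr, this s hsa hsb hs]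
    set q := f (K.φ y)
    have hqM : MemM ν q := (hν _).mpr ⟨y, rfl⟩
    have hqT : σ.R q W.cst := (hf.rel (K.mem y) (K.sq y)).symm.trans hy
    have hqT' : σ.R (W.cst * q) W.cst := by
      have := (hf.rel (K.mem (1 + e b + y)) (K.sq _)).symm.trans hy'
      rwa [K.add, hf.map_mul (K.mem _) (K.mem _), hx] at this
    have hqp : q.p = ν := by
      have single : ∀ k l, k ≠ l → q.p = swap k (ν k) → (∀ o, o = k ∨ o = ν k ∨ o = l ∨ o = ν l) →
          False := by
        intro k l hkl hp hcover
        have hT : ∀ u : ι → ZMod 2, (∀ o, u (ν o) = u o) → u l = 0 →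
            σ.R ⟨u, swap k (ν k)⟩ W.cst → False := by
          intro u hu hul hR
          have h1 : MemM ν (W.perm (swap k (ν k))) := MemM.perm_swap hν2 k
          have h2 := (fus_conj (σ := σ) (P := hf.image) (isPGroup_of_sq fun w hw => hsq w (himg hw))
            (W.base fun o => if o = k then u k else 0)).rel (himg' h1)
            ((W.mul_self_eq_one_iff _).mpr ⟨swap_mul_self _ _, fun _ => rfl⟩)
          have e1 : W.base (fun o => if o = k then u k else 0) * W.perm (swap k (ν k)) *
              (W.base fun o => if o = k then u k else 0)⁻¹ = ⟨u, swap k (ν k)⟩ := by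
            refine W.ext (funext fun o => ?_) (by simp)
            rw [W.conj_by_base]
            simp only [W.perm_v, W.perm_p, Pi.zero_apply, Equiv.symm_swap]
            rcases hcover o with rfl | rfl | rfl | rfl
            · simp [hfree o]
            · simp [hfree k, hu]
            · by_cases h3 : o = ν k
              · subst h3; simp [hfree k, hu]
              · simp [hkl.symm, swap_apply_of_ne_of_ne hkl.symm h3, hul]
            · by_cases h3 : ν l = k
              · simp [h3, hfree k]
              · simp [h3, swap_apply_of_ne_of_ne h3 (fun e => hkl (ν.injective e).symm), hu, hul]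
          simp only [e1] at h2
          -- carry `(k ν k)` to `(a b)`
          obtain ⟨π, hπk, hπν⟩ : ∃ π : Perm ι, π k = a ∧ π (ν k) = b := by
            refine ⟨swap (swap k a (ν k)) b * swap k a, ?_, by simp⟩
            have h5 : swap k a (ν k) ≠ a := fun e => hfree k ((swap k a).injective
              (e.trans (swap_apply_left k a).symm))
            simp [swap_apply_of_ne_of_ne h5.symm hab]
          have h3 := (fus_conj (σ := σ) (P := hf.image) (isPGroup_of_sq fun w hw => hsq w (himg hw))
            (W.perm π)).rel (himg' h1) ((W.mul_self_eq_one_iff _).mpr ⟨swap_mul_self _ _, fun _ => rfl⟩)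
          rw [conj_perm_perm, ← swap_apply_apply, hπk, hπν] at h3
          refine hσ.not_T_e hab ?_
          show σ.R (swapVal a b (e a)) W.cst
          rw [show swapVal a b (e a) = W.perm (swap a b) from W.ext
            (funext fun o => by by_cases ho : o = a <;> simp [swapVal, ho, e_apply, hab.symm])
            (by simp [swapVal, e_apply, hab.symm])]
          exact h3.symm.trans (h2.trans hR)
        rcases zmod2_cases (q.v l) with hl | hl
        · refine hT q.v hqM.1 hl ?_
          rwa [show (⟨q.v, swap k (ν k)⟩ : W ι) = q from W.ext rfl hp.symm]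
        · refine hT (1 + q.v) (fun o => by simp [hqM.1 o]) (by simp [hl, CharTwo.add_self_eq_zero]) ?_
          rwa [show (⟨1 + q.v, swap k (ν k)⟩ : W ι) = W.cst * q from W.ext
            (funext fun o => by simp [W.cst]) (by simp [W.cst, hp])]
      rcases hqM.2 i with h1 | h1 <;> rcases hqM.2 j with h2 | h2
      · exfalso
        have hp1 : q.p = 1 := by
          ext o
          rw [Perm.one_apply]
          rcases hblocks o with rfl | rfl | rfl | rfl
          · exact h1
          · rcases hqM.2 i' with e | e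
            · exact e
            · rw [hν_i'] at e; exact absurd (q.p.injective (e.trans h1.symm)) hii'.symm
          · exact h2
          · rcases hqM.2 j' with e | e
            · exact e
            · rw [hν_j'] at e; exact absurd (q.p.injective (e.trans h2.symm)) hjj'.symm
        rw [W.eq_base_of_p hp1] at hqT
        rcases hσ.normal.T_iff_base.mp hqT with h | ⟨o, h⟩
        · have : K.φ y = K.φ (1 + e b) := hf.inj (K.mem _) (K.mem _) (by
            show q = f _
            rw [hx, W.eq_base_of_p hp1, h]; rfl)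
          exact hcb (e_injective (add_left_cancel (K.inj this)))
        · have h3 := hqM.1 o
          rw [h] at h3
          simp [e_apply, hfree o] at h3
      · refine (single j i hj.1 ?_ fun o => ?_).elim
        · ext o
          rcases hblocks o with rfl | rfl | rfl | rfl
          · rw [h1, swap_apply_of_ne_of_ne (Ne.symm hj.1) hji.symm]
          · rw [swap_apply_of_ne_of_ne (Ne.symm hj.2) hji'.symm]
            rcases hqM.2 i' with e | e
            · exact e
            · rw [hν_i'] at e; exact absurd (q.p.injective (e.trans h1.symm)) hii'.symm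
          · rw [h2, swap_apply_left]
          · rw [← hj', swap_apply_right]
            rcases hqM.2 j' with e | e
            · exact absurd (q.p.injective (e.trans h2.symm)) hjj'.symm
            · rw [e, hν_j']
        · rcases hblocks o with h | h | h | h <;> simp [h, ← hi', ← hj']
      · refine (single i j (Ne.symm hj.1) ?_ fun o => ?_).elim
        · ext o
          rcases hblocks o with rfl | rfl | rfl | rfl
          · rw [h1, swap_apply_left]
          · rw [← hi', swap_apply_right]
            rcases hqM.2 i' with e | e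
            · exact absurd (q.p.injective (e.trans h1.symm)) hii'.symm
            · rw [e, hν_i']
          · rw [h2, swap_apply_of_ne_of_ne hj.1 hj.2]
          · rw [swap_apply_of_ne_of_ne hji hji']
            rcases hqM.2 j' with e | e
            · exact e
            · rw [hν_j'] at e; exact absurd (q.p.injective (e.trans h2.symm)) hjj'.symm
        · rcases hblocks o with h | h | h | h <;> simp [h, ← hi', ← hj']
      · ext o
        rcases hblocks o with rfl | rfl | rfl | rfl
        · exact h1
        · rcases hqM.2 i' with e | e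
          · exact absurd (q.p.injective (e.trans (by rw [h1]))) hii'.symm
          · exact e
        · exact h2
        · rcases hqM.2 j' with e | e
          · exact absurd (q.p.injective (e.trans (by rw [h2]))) hjj'.symm
          · exact e
    have := hdbl q.v hqM.1
    rw [show (⟨q.v, ν⟩ : W ι) = q from W.ext rfl hqp.symm] at this
    exact this.symm.trans hqT
  have hfixed : ∀ v, k₁ v = v → v = 0 ∨ σ.T K v := by
    intro v hv
    have h := hk v
    rw [hv] at h
    set w := f (K.φ v)
    have hwM : MemM ν w := (hν _).mpr ⟨v, rfl⟩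
    have hcom : Commute (W.perm η) w := mul_inv_eq_iff_eq_mul.mp h.symm
    obtain ⟨hp, hvv⟩ := (W.commute_iff _ _).mp hcom
    have hconst : ∀ o, w.v o = w.v i := by
      intro o
      have hji_v : w.v j = w.v i := by
        have := hvv j
        simp only [W.perm_v, W.perm_p, Pi.zero_apply, zero_add, add_zero] at this
        rw [show η.symm j = i by rw [Equiv.symm_apply_eq, hη_i]] at this
        exact this.symm
      rcases hblocks o with rfl | rfl | rfl | rfl
      · rfl
      · exact hwM.1 i
      · exact hji_v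
      · exact (hwM.1 j).trans hji_v
    have hwp : w.p = 1 ∨ w.p = ν := by
      have hpc : ∀ o, η (w.p o) = w.p (η o) := fun o => congrArg (fun e : Perm ι => e o) hp
      have hself : ∀ o, w.p o = o → w.p (ν o) = ν o := fun o ho => by
        rcases hwM.2 (ν o) with e | e
        · exact e
        · rw [hνν] at e; exact absurd (w.p.injective (e.trans ho.symm)) (hfree o)
      have hmove : ∀ o, w.p o = ν o → w.p (ν o) = o := fun o ho => by
        rcases hwM.2 (ν o) with e | e
        · exact absurd (w.p.injective (e.trans ho.symm)) (hfree o)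
        · rw [hνν] at e; exact e
      have := hpc i
      rw [hη_i] at this
      rcases hwM.2 i with h1 | h1 <;> rw [h1] at this
      · rw [hη_i] at this
        left
        ext o
        rw [Perm.one_apply]
        rcases hblocks o with rfl | rfl | rfl | rfl
        exacts [h1, hself i h1, this.symm, hself j this.symm]
      · rw [← hi', hη_i'] at this
        right
        ext o
        rcases hblocks o with rfl | rfl | rfl | rfl
        exacts [h1, by rw [hmove i h1, hν_i'], this.symm, by rw [hmove j this.symm, hν_j']]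
    rcases hwp with hp1 | hp1
    · rcases zmod2_cases (w.v i) with h0 | h0
      · left
        refine K.inj (hf.inj (K.mem v) (K.mem 0) ?_)
        rw [K.zero, hf.map_one]
        show w = 1
        rw [W.eq_base_of_p hp1, show w.v = 0 from funext fun o => (hconst o).trans h0, W.base_zero]
      · refine Or.inr (fus_T hf ?_)
        show w = W.cst
        rw [W.eq_base_of_p hp1, show w.v = 1 from funext fun o => (hconst o).trans h0]
        rfl
    · refine Or.inr ?_
      have := hdbl w.v hwM.1
      rw [show (⟨w.v, ν⟩ : W ι) = w from W.ext rfl hp1.symm] at this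
      exact (hf.rel (K.mem v) (K.sq v)).trans (this.trans hTν)
  have final : ∀ γ, σ.Gam K γ → γ 1 = 1 → (∀ v, γ v = v → v = 0 ∨ σ.T K v) → False := by
    intro γ hγ h1 hfix
    have him : ∀ p, p ≠ a → p ≠ b → γ (e p) = e c ∨ γ (e p) = e d := by
      intro p hpa hpb
      obtain ⟨hb, hw⟩ := hγ.base_iff hab h1 (e p)
      have hpe : e p a = e p b := by rw [e_ne hpa.symm, e_ne hpb.symm]
      obtain ⟨o, ho⟩ := eq_e_of_wt ((hw hpe).trans (wt_e p))
      have h2 := hb.mpr hpe
      rw [ho] at h2 ⊢
      rcases hall o with rfl | rfl | rfl | rfl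
      · simp [e_ne hab.symm] at h2
      · simp [e_ne hab] at h2
      · exact Or.inl rfl
      · exact Or.inr rfl
    have notT : ∀ v : ι → ZMod 2, v a = 0 → v b = 0 → ¬ σ.T K v := fun v ha hb h =>
      ((hσ.T_iff hab).mp h).1.elim (fun e => by rw [ha] at e; exact absurd e (by decide))
        (fun e => by rw [hb] at e; exact absurd e (by decide))
    have nonfix : ∀ v : ι → ZMod 2, v a = 0 → v b = 0 → v ≠ 0 → γ v ≠ v := fun v ha hb h0 h =>
      (hfix v h).elim h0 (notT v ha hb)
    have hne : ∀ p, e p ≠ (0 : ι → ZMod 2) := fun p h => by simpa using congrFun h p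
    have hc' : γ (e c) = e d :=
      (him c hca hcb).resolve_left (nonfix _ (e_ne hca.symm) (e_ne hcb.symm) (hne c))
    have hd' : γ (e d) = e c :=
      (him d hda hdb).resolve_right (nonfix _ (e_ne hda.symm) (e_ne hdb.symm) (hne d))
    refine nonfix (e c + e d) (by simp [e_ne hca.symm, e_ne hda.symm])
      (by simp [e_ne hcb.symm, e_ne hdb.symm]) (fun h => ?_) ?_
    · have := congrFun h c
      simp [e_ne hdc.symm] at this
    · rw [hγ.map_add, hc', hd', add_comm]
  have hv₁ : σ.T K (k₁ 1) := (hk₁.T_iff 1).mpr T_one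
  by_cases hbase : k₁ 1 a = k₁ 1 b
  · rcases (hσ.T_base hab hbase).mp hv₁ with h1 | ⟨p, hpa, hpb, h1⟩
    · exact final k₁ hk₁ h1 hfixed
    · have heb : k₁ (e b) = e p + e b := by
        have he : e b = 1 + (1 + e b) := by rw [← add_assoc, Chart.vec_add_self, zero_add]
        conv_lhs => rw [he]
        rw [hk₁.map_add, hxk, h1, add_assoc, add_comm (e p), ← add_assoc, ← he, add_comm]
      have hT : σ.T K (e p + e b) := by
        refine (hσ.T_iff hab).mpr ⟨Or.inr (by simp [e_ne hpb.symm]), fun r s hra hrb hsa hsb hr hs => ?_⟩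
        have hrp : r ≠ p := fun e => by simp [e, e_ne hpb] at hr
        have hsp : s ≠ p := fun e => by simp [e, e_ne hpb] at hs
        rcases hall r with rfl | rfl | rfl | rfl <;> rcases hall s with rfl | rfl | rfl | rfl <;>
          rcases hall p with rfl | rfl | rfl | rfl <;> first | rfl | contradiction
      rw [← heb] at hT
      have h3 := ((hσ.T_iff hab).mp ((hk₁.T_iff _).mp hT)).2 c d hca hcb hda hdb (e_ne hcb) (e_ne hdb)
      exact hdc h3.symm
  · obtain ⟨S, hS, hSv⟩ : ∃ S, σ.Gam K S ∧ S (k₁ 1) = 1 + e b := by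
      obtain ⟨S₀, hS₀, hS₀a, hS₀b⟩ : ∃ S₀, σ.Gam K S₀ ∧ S₀ (k₁ 1) a = 1 ∧ S₀ (k₁ 1) b = 0 := by
        rcases zmod2_cases (k₁ 1 a) with ha | ha
        · refine ⟨_, gam_flip hab, ?_, by simpa using ha⟩
          simpa using (zmod2_cases (k₁ 1 b)).resolve_left fun e => hbase (ha.trans e.symm)
        · exact ⟨id, gam_conj 1 fun v => by simp, ha,
            (zmod2_cases (k₁ 1 b)).resolve_right fun e => hbase (ha.trans e.symm)⟩
      set z := S₀ (k₁ 1)
      have hz : σ.T K z := (hS₀.T_iff _).mpr hv₁
      by_cases hfull : z c = 1 ∧ z d = 1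
      · refine ⟨S₀, hS₀, funext fun o => ?_⟩
        rcases hall o with rfl | rfl | rfl | rfl
        · show z _ = _; simp [hS₀a, e_ne hab]
        · show z _ = _; simp [hS₀b, CharTwo.add_self_eq_zero]
        · show z _ = _; simp [hfull.1, e_ne hcb]
        · show z _ = _; simp [hfull.2, e_ne hdb]
      · obtain ⟨p, q, hpa, hpb, hqa, hqb, hcov, hzp⟩ : ∃ p q, p ≠ a ∧ p ≠ b ∧ q ≠ a ∧ q ≠ b ∧
            (∀ o, o = a ∨ o = b ∨ o = p ∨ o = q) ∧ z p = 0 := by
          rcases zmod2_cases (z c) with h0 | h0
          · exact ⟨c, d, hca, hcb, hda, hdb, hall, h0⟩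
          · exact ⟨d, c, hda, hdb, hca, hcb, fun o => by rcases hall o with h | h | h | h <;> simp [h],
              (zmod2_cases (z d)).resolve_right fun e => hfull ⟨h0, e⟩⟩
        have hpq : p ≠ q := by
          intro e
          subst e
          rcases hcov c with h | h | h
          · exact hca h
          · exact hcb h
          · rcases hcov d with h' | h' | h'
            · exact hda h'
            · exact hdb h'
            · exact hdc ((h'.elim id id).trans (h.elim id id).symm)
        have hzq : z q = 1 := (zmod2_cases (z q)).resolve_left fun h0 =>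
          hpq (((hσ.T_iff hab).mp hz).2 p q hpa hpb hqa hqb hzp h0)
        refine ⟨_, hS₀.comp (hσ.gam_fR hab hpa hpb), funext fun o => ?_⟩
        show fR a b p z o = _
        by_cases ho : o = p
        · subst ho
          have huniv : Finset.univ \ ({a, b} : Finset ι) = {o, q} := by
            ext u
            simp only [Finset.mem_sdiff, Finset.mem_univ, Finset.mem_insert, Finset.mem_singleton,
              true_and, not_or]
            rcases hcov u with rfl | rfl | rfl | rfl
            · simp [hpa.symm, hqa.symm]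
            · simp [hpb.symm, hqb.symm]
            · simp [hpa, hpb]
            · simp [hqa, hqb]
          simp [fR, huniv, Finset.sum_pair hpq, hzp, hzq, e_ne hpb]
        · simp only [fR, Function.update_of_ne ho]
          rcases hcov o with rfl | rfl | rfl | rfl
          · simp [hS₀a, e_ne hab]
          · simp [hS₀b, CharTwo.add_self_eq_zero]
          · exact absurd rfl ho
          · simp [hzq, e_ne hqb]
    have hk' := hk₁.comp hS
    obtain ⟨k'', hk'', hl, hr⟩ := hk'.symm
    refine final _ ((hk'.comp hk₁).comp hk'') ?_ fun v hv => ?_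
    · show k'' (k₁ (S (k₁ 1))) = 1
      rw [hSv, hxk, ← hSv]
      exact hl 1
    · have h1 : k₁ (S (k₁ v)) = S (k₁ v) := by
        have := congrArg (S ∘ k₁) hv
        show _ = (S ∘ k₁) v
        rw [← this]
        exact (hr _).symm
      rcases hfixed _ h1 with h2 | h2
      · exact Or.inl ((hk'.injective (h2.trans hk'.map_zero.symm)))
      · exact Or.inr ((hk'.T_iff v).mp h2)

theorem ind_pair_image {F : (ι → ZMod 2) → (ι → ZMod 2)} {f : W ι → W ι}
    (hF : ∀ v, (swapC a b hab).φ (F v) = f ((swapC a b hab).φ v)) {c : ι → ZMod 2} {i j : ι}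
    (hc : f ((swapC a b hab).φ c) = W.base (ind {i, j}))
    (h : ind ({i, j} : Finset ι) a = ind ({i, j} : Finset ι) b) : F c = ind {i, j} :=
  (swapC a b hab).inj ((hF c).trans (hc.trans (swapVal_eq h).symm))

/-- A map carrying `1 + e b` to the centre. -/
theorem Aligned.exists_rest (hσ : σ.Aligned) :
    ∃ F, σ.Gam (swapC a b hab) F ∧ F (1 + e b) = 1 ∧
      F (ind (Finset.univ \ {a, b})) a = 0 ∧ F (ind (Finset.univ \ {a, b})) b = 0 := by
  have h4 := hσ.normal.four
  obtain ⟨m, hm⟩ := hσ.normal.even
  obtain ⟨f₀, hf₀, hx₀⟩ := (hσ.T_x hab).fus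
  obtain ⟨ν, hν2, hν⟩ := exists_image hf₀
  rcases hσ.image_shape hab hf₀ hν2 hν hx₀ with ⟨i, j, hij, rfl⟩ | ⟨h6, hfree⟩
  swap
  · exact (hσ.not_free hab hf₀ hν2 hν hx₀ h6 hfree).elim
  obtain ⟨π, hπi, hπj⟩ : ∃ π : Perm ι, π i = a ∧ π j = b := by
    refine ⟨swap (swap i a j) b * swap i a, ?_, by simp⟩
    have h5 : swap i a j ≠ a := fun e => hij ((swap i a).injective
      (e.trans (swap_apply_left i a).symm)).symm
    simp [swap_apply_of_ne_of_ne h5.symm hab]
  have hsq : ∀ w ∈ hf₀.image, w.p * w.p = 1 := by
    rintro _ ⟨p, ⟨v, rfl⟩, rfl⟩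
    have hM := ((hν _).mpr ⟨v, rfl⟩ : MemM (swap i j) _)
    rcases (show (f₀ ((swapC a b hab).φ v)).p = 1 ∨ _ from
      (mem_over (swap_mul_self i j)).mp (by
        obtain ⟨u, hu⟩ := mem_swapC hij hM
        rw [← hu]; exact swapVal_mem_over i j u)) with e | e <;> rw [e]
    · exact one_mul 1
    · exact swap_mul_self i j
  set f := (fun w => W.perm π * w * (W.perm π)⁻¹) ∘ f₀
  have hf : σ.Fus (swapC a b hab).grp f :=
    hf₀.comp (fus_conj (isPGroup_of_sq hsq) (W.perm π)) fun w hw => ⟨w, hw, rfl⟩
  have hx : f ((swapC a b hab).φ (1 + e b)) = W.cst := by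
    simp only [f, Function.comp, hx₀]
    rw [← (W.cst_comm _).eq, mul_inv_cancel_right]
  obtain ⟨ν', hν'2, hν'⟩ := exists_image hf
  have hν'eq : ν' = swap a b := by
    obtain ⟨v, hv⟩ := (hν _).mp (MemM.perm_swap hν2 i)
    have h1 : f ((swapC a b hab).φ v) = W.perm (swap a b) := by
      simp only [f, Function.comp, hv, swap_apply_left, conj_perm_perm]
      rw [← swap_apply_apply, hπi, hπj]
    have h2 := ((hν' _).mpr ⟨v, rfl⟩).2 a
    rw [h1, W.perm_p, swap_apply_left] at h2
    have hνa : ν' a = b := (h2.resolve_left hab.symm).symm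
    ext o
    by_cases hoa : o = a
    · subst hoa; rw [hνa, swap_apply_left]
    by_cases hob : o = b
    · subst hob
      rw [swap_apply_right, ← hνa]
      exact congrArg (fun e : Perm ι => e a) hν'2
    rw [swap_apply_of_ne_of_ne hoa hob]
    by_contra hne
    obtain ⟨w, hw⟩ := (hν' _).mp (MemM.perm_swap hν'2 o)
    have h3 := ((hν _).mpr ⟨w, rfl⟩).2 (π.symm o)
    simp only [f, Function.comp] at hw
    have h4 := congrArg (fun x : W ι => x.p o) hw
    simp [Perm.mul_def, Perm.inv_def] at h4
    simp only [swapC_φ] at h3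
    have hoi : π.symm o ≠ i := fun e => hoa (by rw [← hπi, ← e, Equiv.apply_symm_apply])
    have hoj : π.symm o ≠ j := fun e => hob (by rw [← hπj, ← e, Equiv.apply_symm_apply])
    rw [swap_apply_of_ne_of_ne hoi hoj, or_self] at h3
    rw [h3, Equiv.apply_symm_apply] at h4
    exact hne h4.symm
  subst hν'eq
  obtain ⟨F, hF, hF'⟩ := gam_of_fus hf fun v => mem_swapC hab ((hν' _).mpr ⟨v, rfl⟩)
  have hFx : F (1 + e b) = 1 :=
    (swapC a b hab).inj ((hF' _).trans (hx.trans (swapC a b hab).one.symm))
  refine ⟨F, hF, hFx, ?_⟩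
  set Rr := (Finset.univ \ {a, b} : Finset ι)
  have hcard : Rr.card + 2 = Fintype.card ι := card_rest hab
  have fixed_zero : ∀ {c : ι → ZMod 2} {k l : ι},
      f ((swapC a b hab).φ c) = W.base (ind {k, l}) → swap a b k = k → swap a b l = l →
      F c a = 0 ∧ F c b = 0 := by
    intro c k l hc hk hl
    have hka : a ≠ k := fun e => hab (by rw [← e, swap_apply_left] at hk; exact hk.symm)
    have hkb : b ≠ k := fun e => hab (by rw [← e, swap_apply_right] at hk; exact hk)
    have hla : a ≠ l := fun e => hab (by rw [← e, swap_apply_left] at hl; exact hl.symm)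
    have hlb : b ≠ l := fun e => hab (by rw [← e, swap_apply_right] at hl; exact hl)
    rw [ind_pair_image hab hF' hc (by simp [hka, hkb, hla, hlb])]
    simp [hka, hkb, hla, hlb]
  by_cases h6 : Fintype.card ι = 4
  · obtain ⟨c, hca, hcb, -⟩ := rest_other (a := a) (b := b) h4 a
    obtain ⟨d, hda, hdb, hdc⟩ := rest_other (a := a) (b := b) h4 c
    have hR : Rr = {c, d} := by
      symm
      refine Finset.eq_of_subset_of_card_le ?_ (by rw [Finset.card_pair hdc.symm]; omega)
      simp [Rr, Finset.insert_subset_iff, hca, hcb, hda, hdb]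
    obtain ⟨k, l, hkl, hc, hkind⟩ := centre_rest hab hf hν'2 hν' hx hdc.symm hca hcb hda hdb
    rw [hR]
    rcases hkind with ⟨hk, hl⟩ | hk
    · exact fixed_zero hc hk hl
    exfalso
    have hsym : ({k, l} : Finset ι) = {a, b} := by
      by_cases hka : k = a
      · subst hka; rw [swap_apply_left] at hk; rw [hk]
      · by_cases hkb : k = b
        · subst hkb; rw [swap_apply_right] at hk; rw [hk, Finset.pair_comm]
        · rw [swap_apply_of_ne_of_ne hka hkb] at hk; exact absurd hk hkl
    rw [hsym] at hc
    have hFR : F (ind {c, d}) = ind {a, b} := ind_pair_image hab hF' hc (by simp)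
    have huniv : ∀ o, o = a ∨ o = b ∨ o = c ∨ o = d := fun o => by
      by_cases hoa : o = a
      · exact Or.inl hoa
      by_cases hob : o = b
      · exact Or.inr (Or.inl hob)
      have : o ∈ Rr := by simp [Rr, hoa, hob]
      rw [hR] at this
      simp only [Finset.mem_insert, Finset.mem_singleton] at this
      exact Or.inr (Or.inr this)
    have hea : e a = (1 + e b) + ind {c, d} := by
      funext o
      rcases huniv o with h | h | h | h <;>
        simp [h, e_ne hab, hca.symm, hda.symm, hab.symm, hcb.symm, hdb.symm, hca, hcb, hda, hdb,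
          e_apply, CharTwo.add_self_eq_zero]
    have hFea : F (e a) = ind {c, d} := by
      rw [hea, hF.map_add, hFx, hFR]
      funext o
      rcases huniv o with h | h | h | h <;>
        simp [h, hab, hab.symm, hca.symm, hda.symm, hcb.symm, hdb.symm, hca, hcb, hda, hdb,
          CharTwo.add_self_eq_zero]
    have hTy : σ.T (swapC a b hab) (F 1) := (hF.T_iff 1).mpr T_one
    have bad : ∀ S, σ.Gam (swapC a b hab) S → S 1 = 1 → S (e a) a = S (e a) b → False := by
      intro S hS h1 h2
      have := ((hS.base_iff hab h1 (e a)).1).mp h2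
      simp [e_ne hab.symm] at this
    by_cases hy : F 1 a = F 1 b
    · rcases (hσ.T_base hab hy).mp hTy with h1 | ⟨p, hpa, hpb, h1⟩
      · exact bad F hF h1 (by rw [hFea]; simp [hca.symm, hcb.symm, hda.symm, hdb.symm])
      · refine bad _ (hF.comp (hσ.gam_fR hab hpa hpb)) ?_ ?_
        · show fR a b p (F 1) = 1
          funext o
          by_cases ho : o = p
          · subst ho
            rw [h1]
            simp only [fR, Function.update_self, Pi.add_apply, Pi.one_apply, Finset.sum_add_distrib,
              Finset.sum_const, nsmul_eq_mul, mul_one]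
            rw [show (Finset.univ \ {a, b} : Finset ι) = Rr from rfl,
              show Rr.card = 2 by omega, Finset.sum_eq_single o (fun u _ hu => e_ne hu)
                (fun hu => absurd (by simp [Rr, hpa, hpb]) hu), e_self]
            rfl
          · simp [fR, ho, h1, e_ne ho]
        · show fR a b p (F (e a)) a = fR a b p (F (e a)) b
          simp [fR, hFea, hpa.symm, hpb.symm, hca.symm, hcb.symm, hda.symm, hdb.symm]
    · obtain ⟨ω, hω, hωF⟩ := transvection hf hν' hx
        (gam_perm hab (swap c d) (swap_apply_of_ne_of_ne hca.symm hda.symm)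
          (swap_apply_of_ne_of_ne hcb.symm hdb.symm))
        (x_fixed hcb hdb) (fun v => by simpa using swap_two c d v) ⟨e c, pair_moved hdc.symm⟩
      obtain ⟨k', l', -, hc', hcases⟩ := hω.centre_eq hν'2
      rcases hcases with ⟨hk', -, -⟩ | ⟨-, hbfix⟩
      · rw [hc] at hc'
        have hmem : k' ∈ ({a, b} : Finset ι) := by
          rw [ind_injective (W.base_injective hc')]; simp
        simp only [Finset.mem_insert, Finset.mem_singleton] at hmem
        rcases hmem with rfl | rfl
        · rw [swap_apply_left] at hk'; exact hab hk'.symm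
        · rw [swap_apply_right] at hk'; exact hab hk'
      · obtain ⟨vmov, hvmov⟩ : ∃ v, (fun o => v ((swap c d).symm o)) ≠ v := ⟨e c, pair_moved hdc.symm⟩
        apply hvmov
        have hbase : ∀ u : ι → ZMod 2, u a = u b →
            ω * (swapC a b hab).φ u * ω⁻¹ = (swapC a b hab).φ u := by
          intro u hu
          rw [swapC_φ, swapVal_eq hu]
          refine hbfix u fun o => ?_
          by_cases hoa : o = a
          · subst hoa; simp [hu]
          · by_cases hob : o = b
            · subst hob; simp [hu]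
            · rw [swap_apply_of_ne_of_ne hoa hob]
        have hone : ω * (swapC a b hab).φ (F 1) * ω⁻¹ = (swapC a b hab).φ (F 1) := by
          rw [hF', hωF]
          rfl
        have hfix : ω * (swapC a b hab).φ (F vmov) * ω⁻¹ = (swapC a b hab).φ (F vmov) := by
          by_cases hv : F vmov a = F vmov b
          · exact hbase _ hv
          · have hsum : (F vmov + F 1) a = (F vmov + F 1) b := by
              simp only [Pi.add_apply]
              revert hv hy
              generalize F vmov a = p, F vmov b = q, F 1 a = r, F 1 b = s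
              decide +revert
            have h2 := hbase _ hsum
            rw [(swapC a b hab).add] at h2
            have e3 : ω * ((swapC a b hab).φ (F vmov) * (swapC a b hab).φ (F 1)) * ω⁻¹ =
                (ω * (swapC a b hab).φ (F vmov) * ω⁻¹) * (ω * (swapC a b hab).φ (F 1) * ω⁻¹) := by
              group
            rw [e3, hone] at h2
            exact mul_right_cancel h2
        rw [hF', hωF] at hfix
        exact (swapC a b hab).inj (hf.inj ((swapC a b hab).mem _) ((swapC a b hab).mem _) hfix)
  · obtain ⟨p₀, hp₀a, hp₀b, -⟩ := rest_other (a := a) (b := b) h4 a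
    set D := Rr.erase p₀
    have hmem : p₀ ∈ Rr := by simp [Rr, hp₀a, hp₀b]
    have hD : (D.card : ZMod 2) = 1 := by
      rw [Finset.card_erase_of_mem hmem]
      exact Odd.natCast_zmod_two ⟨m - 2, by
        have : Rr.card + 2 = Fintype.card ι := hcard
        omega⟩
    have hsum : ind Rr = ∑ p ∈ D, ind {p, p₀} := by
      have h1 : ∀ p ∈ D, ind ({p, p₀} : Finset ι) = e p + e p₀ :=
        fun p hp => ind_pair (Finset.ne_of_mem_erase hp)
      rw [Finset.sum_congr rfl h1, Finset.sum_add_distrib, Finset.sum_const,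
        ← Nat.cast_smul_eq_nsmul (ZMod 2), hD, one_smul, ← sum_ind_singleton, Finset.sum_erase_add _ _ hmem]
    rw [hsum, hF.map_sum, Finset.sum_apply, Finset.sum_apply]
    have hz : ∀ p ∈ D, F (ind {p, p₀}) a = 0 ∧ F (ind {p, p₀}) b = 0 := by
      intro p hp
      simp only [D, Rr, Finset.mem_erase, Finset.mem_sdiff, Finset.mem_univ, Finset.mem_insert,
        Finset.mem_singleton, true_and, not_or] at hp
      obtain ⟨l, -, hl⟩ := Finset.exists_mem_notMem_of_card_lt_card
        (s := ({a, b, p, p₀} : Finset ι)) (t := Finset.univ)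
        (by rw [Finset.card_univ]; exact Finset.card_le_four.trans_lt (by omega))
      simp only [Finset.mem_insert, Finset.mem_singleton, not_or] at hl
      obtain ⟨k, o, -, hc, hk, ho⟩ := centre_rest_fixed hab hf hν'2 hν' hx hp.1 (Ne.symm hl.2.2.2)
        (Ne.symm hl.2.2.1) hp.2.1 hp.2.2 hp₀a hp₀b hl.1 hl.2.1
      exact fixed_zero hc hk ho
    exact ⟨Finset.sum_eq_zero fun p hp => (hz p hp).1, Finset.sum_eq_zero fun p hp => (hz p hp).2⟩

theorem Aligned.gam_sMap (hσ : σ.Aligned) : σ.Gam (swapC a b hab) (sMap a b) := by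
  obtain ⟨F, hF, hFx, hRa, hRb⟩ := hσ.exists_rest hab
  set Rr := (Finset.univ \ {a, b} : Finset ι) with hRr
  have hmemR : ∀ i, i ∈ Rr ↔ i ≠ a ∧ i ≠ b := fun i => by simp [Rr]
  have hcard : Rr.card + 2 = Fintype.card ι := card_rest hab
  obtain ⟨m, hm⟩ := hσ.normal.even
  have h4 := hσ.normal.four
  have T2 : ∀ v, Big a b v → Big a b (F v) := fun v h =>
    (hσ.T_iff hab).mp ((hF.T_iff v).mpr ((hσ.T_iff hab).mpr h))
  have hbigR : ∀ u : ι → ZMod 2, (u a = 1 ∨ u b = 1) → (∀ r, r ≠ a → r ≠ b → u r = 1) → Big a b u :=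
    fun u h1 h2 => ⟨h1, fun r s hra hrb _ _ hr _ => by rw [h2 r hra hrb] at hr; exact absurd hr one_ne_zero⟩
  have hbigP : ∀ (u : ι → ZMod 2) (p : ι), (u a = 1 ∨ u b = 1) →
      (∀ r, r ≠ a → r ≠ b → r ≠ p → u r = 1) → Big a b u := fun u p h1 h2 =>
    ⟨h1, fun r s hra hrb hsa hsb hr hs => by
      have hrp : r = p := by by_contra h; rw [h2 r hra hrb h] at hr; exact one_ne_zero hr
      have hsp : s = p := by by_contra h; rw [h2 s hsa hsb h] at hs; exact one_ne_zero hs
      rw [hrp, hsp]⟩
  have hxR : e a = (1 + e b) + ind Rr := by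
    funext i
    by_cases hia : i = a
    · subst hia; simp [e_ne hab, hmemR]
    · by_cases hib : i = b
      · subst hib; simp [e_ne hia, hmemR, CharTwo.add_self_eq_zero]
      · simp [e_ne hia, e_ne hib, hmemR, hia, hib, CharTwo.add_self_eq_zero]
  have hBR : (1 : ι → ZMod 2) = ind {a, b} + ind Rr := by
    funext i
    by_cases hia : i = a
    · subst hia; simp [hmemR]
    · by_cases hib : i = b
      · subst hib; simp [hmemR]
      · simp [hmemR, hia, hib]
  have hbR : ∀ u : ι → ZMod 2, u = e b + ind Rr → Big a b u := by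
    rintro u rfl
    exact hbigR _ (Or.inr (by simp [hmemR])) fun r hra hrb => by simp [hmemR, hra, hrb, e_ne hrb]
  set γ : ι → (ι → ZMod 2) := fun p => F (e p)
  set α := F (ind {a, b})
  have hab2 : e b = ind {a, b} + e a := by
    rw [ind_pair hab, show ind {a} = e a from rfl, show ind {b} = e b from rfl,
      add_comm (e a + e b), ← add_assoc, Chart.vec_add_self, zero_add]
  have hea : F (e a) a = 1 ∧ F (e a) b = 1 := by
    rw [hxR, hF.map_add, hFx]
    simp [hRa, hRb]
  have hαnz : α a = 1 ∨ α b = 1 := by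
    have := (T2 1 (hbigR _ (Or.inl rfl) fun _ _ _ => rfl)).1
    rw [hBR, hF.map_add] at this
    simpa [hRa, hRb, α] using this
  have hαn11 : α a + 1 = 1 ∨ α b + 1 = 1 := by
    have := (T2 _ (hbR _ rfl)).1
    rw [hF.map_add, hab2, hF.map_add] at this
    simpa [hRa, hRb, hea, α] using this
  have hγ : ∀ p, p ∈ Rr → γ p a = 0 ∧ γ p b = 0 := by
    intro p hp
    obtain ⟨hpa, hpb⟩ := (hmemR p).mp hp
    have h1 : F (1 + e p) a = 1 ∨ F (1 + e p) b = 1 :=
      (T2 _ (hbigP _ p (Or.inl (by simp [e_ne hpa.symm])) fun r _ _ hrp => by simp [e_ne hrp])).1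
    have h2 : F (1 + e b + e p) a = 1 ∨ F (1 + e b + e p) b = 1 :=
      (T2 _ (hbigP _ p (Or.inl (by simp [e_ne hpa.symm, e_ne hab])) fun r _ hrb hrp => by
        simp [e_ne hrp, e_ne hrb])).1
    have h3 : F (e b + ind Rr + e p) a = 1 ∨ F (e b + ind Rr + e p) b = 1 :=
      (T2 _ (hbigP _ p (Or.inr (by simp [e_ne hpb.symm, hmemR])) fun r hra hrb hrp => by
        simp [e_ne hrp, e_ne hrb, hmemR, hra, hrb])).1
    rw [hF.map_add, hBR, hF.map_add] at h1
    rw [hF.map_add, hFx] at h2
    rw [hF.map_add, hF.map_add, hab2, hF.map_add] at h3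
    simp only [Pi.add_apply, Pi.one_apply, hRa, hRb, hea.1, hea.2, add_zero] at h1 h2 h3
    revert h1 h2 h3 hαnz hαn11
    show (_ → _ → _ → _ → _ → _)
    simp only [α, γ]
    generalize F (ind {a, b}) a = A, F (ind {a, b}) b = B, F (e p) a = P, F (e p) b = Q
    decide +revert
  have hsing : ∀ p, p ∈ Rr → ∃ q, q ∈ Rr ∧ γ p = e q := by
    intro p hp
    obtain ⟨hpa, hpb⟩ := (hmemR p).mp hp
    have h2 := (T2 _ (hbigP (1 + e b + e p) p (Or.inl (by simp [e_ne hpa.symm, e_ne hab]))
      fun r _ hrb hrp => by simp [e_ne hrp, e_ne hrb])).2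
    rw [hF.map_add, hFx] at h2
    obtain ⟨q, hq⟩ : ∃ q, γ p q = 1 := by
      by_contra hall
      push Not at hall
      have h0 : γ p = 0 := funext fun r => (zmod2_cases _).resolve_right (hall r)
      have := hF.injective (h0.trans hF.map_zero.symm)
      simpa using congrFun this p
    have hqR : q ∈ Rr := by
      rw [hmemR]
      refine ⟨fun e => ?_, fun e => ?_⟩
      · rw [e, (hγ p hp).1] at hq; exact zero_ne_one hq
      · rw [e, (hγ p hp).2] at hq; exact zero_ne_one hq
    refine ⟨q, hqR, funext fun r => ?_⟩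
    by_cases hra : r = a
    · subst hra; rw [(hγ p hp).1, e_ne ((hmemR q).mp hqR).1.symm]
    by_cases hrb : r = b
    · subst hrb; rw [(hγ p hp).2, e_ne ((hmemR q).mp hqR).2.symm]
    by_cases hrq : r = q
    · subst hrq; rw [hq, e_self]
    rw [e_ne hrq]
    refine (zmod2_cases _).resolve_right fun h => hrq ?_
    refine h2 r q hra hrb ((hmemR q).mp hqR).1 ((hmemR q).mp hqR).2 ?_ ?_
    · show 1 + γ p r = 0
      rw [h]; rfl
    · show 1 + γ p q = 0
      rw [hq]; rfl
  choose g hgR hg using hsing
  let η₀ : ι → ι := fun i => if h : i ∈ Rr then g i h else i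
  have hη₀ : Function.Injective η₀ := by
    intro i j h
    simp only [η₀] at h
    by_cases hi : i ∈ Rr <;> by_cases hj : j ∈ Rr
    · rw [dif_pos hi, dif_pos hj] at h
      exact e_injective (hF.injective (show γ i = γ j by rw [hg i hi, hg j hj, h]))
    · rw [dif_pos hi, dif_neg hj] at h; exact absurd (h ▸ hgR i hi) hj
    · rw [dif_neg hi, dif_pos hj] at h; exact absurd (h.symm ▸ hgR j hj) hi
    · rwa [dif_neg hi, dif_neg hj] at h
  let η : Perm ι := Equiv.ofBijective η₀ (Finite.injective_iff_bijective.mp hη₀)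
  have hηa : η a = a := by simp [η, η₀, hmemR]
  have hηb : η b = b := by simp [η, η₀, hmemR]
  have hηR : ∀ i (hi : i ∈ Rr), η i = g i hi := fun i hi => by simp [η, η₀, hi]
  have hFR : F (ind Rr) = ind Rr := by
    have himg : Rr.image η = Rr := by
      refine Finset.eq_of_subset_of_card_le ?_ ?_
      · intro x hx
        obtain ⟨i, hi, rfl⟩ := Finset.mem_image.mp hx
        rw [hηR i hi]; exact hgR i hi
      · rw [Finset.card_image_of_injective _ η.injective]
    rw [← sum_ind_singleton, hF.map_sum]
    conv_rhs => rw [← himg, Finset.sum_image η.injective.injOn]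
    exact Finset.sum_congr rfl fun i hi => by rw [show F (e i) = e (g i hi) from hg i hi, hηR i hi]
  have hδ : ∀ r ∈ Rr, α r = 0 := by
    intro r hr
    by_contra hne
    have h1 : α r = 1 := (zmod2_cases _).resolve_left hne
    obtain ⟨q, hq⟩ : ∃ q ∈ Rr, η q ≠ r := by
      obtain ⟨s, hs, hsr⟩ := Finset.exists_mem_ne (s := Rr) (by omega) (η.symm r)
      exact ⟨s, hs, fun e => hsr (by rw [← e, Equiv.symm_apply_apply])⟩
    obtain ⟨hqR, hqr⟩ := hq
    obtain ⟨hra, hrb⟩ := (hmemR r).mp hr
    obtain ⟨hqa, hqb⟩ := (hmemR q).mp hqR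
    have hη : η q ∈ Rr := by rw [hηR q hqR]; exact hgR q hqR
    obtain ⟨hηqa, hηqb⟩ := (hmemR _).mp hη
    have hBig := (T2 _ (hbigP (1 + e q) q (Or.inl (by simp [e_ne hqa.symm]))
      fun o _ _ ho => by simp [e_ne ho])).2
    rw [hF.map_add, hBR, hF.map_add, hFR, show F (e q) = e (η q) by rw [hηR q hqR]; exact hg q hqR] at hBig
    have h1' := (T2 1 (hbigR _ (Or.inl rfl) fun _ _ _ => rfl)).2
    rw [hBR, hF.map_add, hFR] at h1'
    -- `r` is a zero of both images, hence the only one
    have hz : α (η q) = 0 := (zmod2_cases _).resolve_right fun h => hqr (h1' (η q) r hηqa hηqb hra hrb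
      (by show α (η q) + ind Rr (η q) = 0; rw [h, ind_eq_one.mpr hη]; rfl)
      (by show α r + ind Rr r = 0; rw [h1, ind_eq_one.mpr hr]; rfl))
    exact hqr (hBig (η q) r hηqa hηqb hra hrb
      (by show α (η q) + ind Rr (η q) + e (η q) (η q) = 0; rw [hz, ind_eq_one.mpr hη, e_self]; rfl)
      (by show α r + ind Rr r + e (η q) r = 0; rw [h1, ind_eq_one.mpr hr, e_ne hqr.symm]; rfl))
  have h1 := hF.comp (gam_perm hab η⁻¹ (by rw [Perm.inv_eq_iff_eq, hηa]) (by rw [Perm.inv_eq_iff_eq, hηb]))
  have ebasis : ∀ (S : (ι → ZMod 2) → (ι → ZMod 2)), σ.Gam (swapC a b hab) S →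
      S (ind {a, b}) = e a → S (e a) = ind {a, b} → (∀ r ∈ Rr, S (e r) = e r) →
      σ.Gam (swapC a b hab) (sMap a b) := by
    intro S hS hB hA hR
    obtain ⟨f, hf, he⟩ := hS
    refine ⟨f, hf, fun v => ?_⟩
    rw [he]
    congr 1
    refine lin_ext (Gam.map_add ⟨f, hf, he⟩) (fun v w => ?_) (fun i => ?_) v
    · funext i
      by_cases h : i = b
      · subst h; simp [sMap]; abel
      · simp [sMap, h]
    · by_cases hia : i = a
      · subst hia
        rw [hA]
        funext o
        by_cases hob : o = b
        · subst hob; simp [sMap, e_ne hab.symm]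
        · by_cases hoa : o = i
          · subst hoa; simp [sMap, hob]
          · simp [sMap, hob, hoa, e_ne hoa]
      · by_cases hib : i = b
        · subst hib
          rw [hab2, Gam.map_add ⟨f, hf, he⟩, hB, hA]
          funext o
          by_cases hob : o = i
          · subst hob; simp [sMap, e_ne hab.symm, hia, CharTwo.add_self_eq_zero]
          · by_cases hoa : o = a
            · subst hoa; simp [sMap, hob, CharTwo.add_self_eq_zero]
            · simp [sMap, hob, hoa, e_ne hoa]
        · rw [hR i ((hmemR i).mpr ⟨hia, hib⟩)]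
          funext o
          by_cases hob : o = b
          · subst hob; simp [sMap, e_ne (Ne.symm hia), e_ne (Ne.symm hib)]
          · simp [sMap, hob]
  have hηmem : ∀ i, η i = a ↔ i = a := fun i =>
    ⟨fun h => η.injective (h.trans hηa.symm), fun h => h ▸ hηa⟩
  have hηmemb : ∀ i, η i = b ↔ i = b := fun i =>
    ⟨fun h => η.injective (h.trans hηb.symm), fun h => h ▸ hηb⟩
  have hηRr : ∀ i, η i ∈ Rr ↔ i ∈ Rr := fun i => by simp [hmemR, hηmem, hηmemb]
  have hFea : F (e a) = ind {a, b} := by
    rw [hxR, hF.map_add, hFx, hFR, hBR, add_assoc, Chart.vec_add_self, add_zero]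
  have hG_R : ∀ r ∈ Rr, ((fun (v : ι → ZMod 2) i => v ((η⁻¹ : Perm ι).symm i)) ∘ F) (e r) = e r := by
    intro r hr
    funext i
    simp only [Function.comp, perm_inv_symm_apply]
    rw [show F (e r) = e (η r) by rw [hηR r hr]; exact hg r hr]
    simp [e_apply]
  have hG_A : ((fun (v : ι → ZMod 2) i => v ((η⁻¹ : Perm ι).symm i)) ∘ F) (e a) = ind {a, b} := by
    funext i
    simp [hFea, hηmem, hηmemb]
  have hG_B : ((fun (v : ι → ZMod 2) i => v ((η⁻¹ : Perm ι).symm i)) ∘ F) (ind {a, b}) =
      fun i => if i = a then α a else if i = b then α b else 0 := by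
    funext i
    simp only [Function.comp, perm_inv_symm_apply]
    by_cases hia : i = a
    · subst hia; simp [hηa, α]
    · by_cases hib : i = b
      · subst hib; simp [hia, hηb, α]
      · rw [if_neg hia, if_neg hib]
        exact hδ _ ((hηRr i).mpr ((hmemR i).mpr ⟨hia, hib⟩))
  rcases zmod2_cases (α a) with ha | ha
  · have hb1 : α b = 1 := hαnz.resolve_left (by rw [ha]; decide)
    refine ebasis _ (h1.comp (gam_flip hab)) ?_ ?_ ?_
    · funext i
      show (((fun (v : ι → ZMod 2) i => v ((η⁻¹ : Perm ι).symm i)) ∘ F) (ind {a, b})) (swap a b i) = _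
      rw [hG_B]
      by_cases hia : i = a
      · subst hia; simp [hab.symm, hb1]
      · by_cases hib : i = b
        · subst hib; simp [ha, e_ne hia]
        · simp [swap_apply_of_ne_of_ne hia hib, hia, hib, e_ne hia]
    · funext i
      show (((fun (v : ι → ZMod 2) i => v ((η⁻¹ : Perm ι).symm i)) ∘ F) (e a)) (swap a b i) = _
      rw [hG_A]
      by_cases hia : i = a
      · subst hia; simp
      · by_cases hib : i = b
        · subst hib; simp
        · simp [swap_apply_of_ne_of_ne hia hib, hia, hib]
    · intro r hr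
      funext i
      show (((fun (v : ι → ZMod 2) i => v ((η⁻¹ : Perm ι).symm i)) ∘ F) (e r)) (swap a b i) = _
      rw [hG_R r hr]
      obtain ⟨hra, hrb⟩ := (hmemR r).mp hr
      by_cases hia : i = a
      · subst hia; simp [e_ne hra.symm, e_ne hrb.symm]
      · by_cases hib : i = b
        · subst hib; simp [e_ne hra.symm, e_ne hrb.symm]
        · simp [swap_apply_of_ne_of_ne hia hib]
  · have hb0 : α b = 0 := by
      rcases zmod2_cases (α b) with h | h
      · exact h
      · exact absurd hαn11 (by rw [ha, h]; decide)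
    refine ebasis _ h1 ?_ hG_A hG_R
    rw [hG_B]
    funext i
    by_cases hia : i = a
    · subst hia; simp [ha]
    · by_cases hib : i = b
      · subst hib; simp [hia, hb0, e_ne hia]
      · simp [hia, hib, e_ne hia]

end Setup

end Cfsg.Agent.H67.Kondo
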