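import Mathlib.GroupTheory.Perm.Sign
import Mathlib.Data.ZMod.Basic
import Mathlib.Algebra.Group.MinimalAxioms
import Mathlib.Algebra.BigOperators.Ring.Finset
import Mathlib.Algebra.CharP.Two

/-!
The signed permutation group `W ι = (ι → ZMod 2) ⋊ Perm ι` and its vectors.
-/

set_option autoImplicit false
set_option linter.unusedSectionVars false

namespace Cfsg.Agent.H67.Kondo

open Equiv

variable {ι : Type*}

theorem zmod2_cases (x : ZMod 2) : x = 0 ∨ x = 1 := by decide +revert

@[simp] theorem perm_one_symm_apply (i : ι) : (1 : Perm ι).symm i = i := rfl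

@[simp] theorem perm_inv_symm_apply (π : Perm ι) (i : ι) : (π⁻¹).symm i = π i := rfl

/-- Signed permutations. -/
@[ext] structure W (ι : Type*) where
  /-- the sign vector -/
  v : ι → ZMod 2
  /-- the permutation -/
  p : Perm ι

namespace W

instance : One (W ι) := ⟨⟨0, 1⟩⟩
instance : Mul (W ι) := ⟨fun a b => ⟨fun i => a.v i + b.v (a.p.symm i), a.p * b.p⟩⟩
instance : Inv (W ι) := ⟨fun a => ⟨fun i => a.v (a.p i), a.p⁻¹⟩⟩

@[simp] theorem one_v : (1 : W ι).v = 0 := rfl
@[simp] theorem one_p : (1 : W ι).p = 1 := rfl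
@[simp] theorem mul_v (a b : W ι) (i : ι) : (a * b).v i = a.v i + b.v (a.p.symm i) := rfl
@[simp] theorem mul_p (a b : W ι) : (a * b).p = a.p * b.p := rfl
@[simp] theorem inv_v (a : W ι) (i : ι) : a⁻¹.v i = a.v (a.p i) := rfl
@[simp] theorem inv_p (a : W ι) : a⁻¹.p = a.p⁻¹ := rfl

instance : Group (W ι) :=
  Group.ofLeftAxioms
    (fun a b c => W.ext (funext fun i => by simp [add_assoc, Perm.mul_def]) (by simp [mul_assoc]))
    (fun a => W.ext (funext fun i => by simp) (by simp))
    (fun a => W.ext (funext fun i => by simp [CharTwo.add_self_eq_zero]) (by simp))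

/-- As a type, a product. -/
def equivProd : W ι ≃ (ι → ZMod 2) × Perm ι where
  toFun a := (a.v, a.p)
  invFun a := ⟨a.1, a.2⟩
  left_inv _ := rfl
  right_inv _ := rfl

instance [Finite ι] : Finite (W ι) := Finite.of_equiv _ equivProd.symm

/-- The permutation part. -/
def proj : W ι →* Perm ι where
  toFun a := a.p
  map_one' := rfl
  map_mul' _ _ := rfl

@[simp] theorem proj_apply (a : W ι) : proj a = a.p := rfl

/-- Elements of the base group. -/
def base (v : ι → ZMod 2) : W ι := ⟨v, 1⟩

@[simp] theorem base_v (v : ι → ZMod 2) : (base v).v = v := rfl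
@[simp] theorem base_p (v : ι → ZMod 2) : (base v).p = 1 := rfl
theorem base_zero : base (0 : ι → ZMod 2) = 1 := rfl
theorem base_add (v w : ι → ZMod 2) : base (v + w) = base v * base w := by
  ext i
  · simp [Perm.one_def]
  · simp
theorem base_injective : Function.Injective (base : (ι → ZMod 2) → W ι) := fun v w h => congrArg W.v h
theorem eq_base_of_p {a : W ι} (h : a.p = 1) : a = base a.v := W.ext rfl h

/-- A permutation as a signed permutation. -/
def perm : Perm ι →* W ι where
  toFun π := ⟨0, π⟩
  map_one' := rfl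
  map_mul' π σ := by ext <;> simp only [mul_v, mul_p, Pi.zero_apply, add_zero]

@[simp] theorem perm_v (π : Perm ι) : (perm π).v = 0 := rfl
@[simp] theorem perm_p (π : Perm ι) : (perm π).p = π := rfl

theorem conj_base (a : W ι) (v : ι → ZMod 2) :
    a * base v * a⁻¹ = base (fun i => v (a.p.symm i)) := by
  ext i
  · simp only [mul_v, base_v, inv_v, mul_p, base_p, mul_one, Equiv.apply_symm_apply]
    generalize a.v i = x, v (a.p.symm i) = y
    decide +revert
  · simp

theorem conj_v (a b : W ι) (i : ι) :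
    (a * b * a⁻¹).v i = a.v i + b.v (a.p.symm i) + a.v (a.p (b.p.symm (a.p.symm i))) := by
  simp [Perm.mul_def]

@[simp] theorem conj_p (a b : W ι) : (a * b * a⁻¹).p = a.p * b.p * a.p⁻¹ := rfl

theorem mul_self_eq_one_iff (a : W ι) :
    a * a = 1 ↔ a.p * a.p = 1 ∧ ∀ i, a.v (a.p i) = a.v i := by
  constructor
  · intro h
    refine ⟨congrArg W.p h, fun i => ?_⟩
    have := congrFun (congrArg W.v h) (a.p i)
    simp only [mul_v, Equiv.symm_apply_apply, one_v, Pi.zero_apply] at this
    exact CharTwo.add_eq_zero.mp this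
  · rintro ⟨h1, h2⟩
    refine W.ext (funext fun i => ?_) h1
    have := h2 (a.p.symm i)
    simp only [Equiv.apply_symm_apply] at this
    simp [this, CharTwo.add_self_eq_zero]

theorem commute_iff (a b : W ι) : Commute a b ↔
    a.p * b.p = b.p * a.p ∧ ∀ i, a.v i + b.v (a.p.symm i) = b.v i + a.v (b.p.symm i) :=
  ⟨fun h => ⟨congrArg W.p h, fun i => congrFun (congrArg W.v h) i⟩,
    fun ⟨h1, h2⟩ => W.ext (funext h2) h1⟩

/-- The central element. -/
def cst : W ι := base 1

theorem cst_comm (a : W ι) : Commute cst a := by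
  rw [commute_iff]
  simp [cst, add_comm]

end W

/-- The indicator vector of a finite set. -/
def ind [DecidableEq ι] (s : Finset ι) : ι → ZMod 2 := fun i => if i ∈ s then 1 else 0

/-- The weight of a vector. -/
def wt [Fintype ι] (v : ι → ZMod 2) : ℕ := (Finset.univ.filter fun i => v i = 1).card

/-- The support of a vector. -/
def supp [Fintype ι] (v : ι → ZMod 2) : Finset ι := Finset.univ.filter fun i => v i = 1

section
variable [DecidableEq ι]

@[simp] theorem ind_apply (s : Finset ι) (i : ι) : ind s i = if i ∈ s then 1 else 0 := rfl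

theorem ind_eq_one {s : Finset ι} {i : ι} : ind s i = 1 ↔ i ∈ s := by
  by_cases h : i ∈ s <;> simp [h]

theorem ind_injective : Function.Injective (ind : Finset ι → ι → ZMod 2) := fun s t h =>
  Finset.ext fun i => by rw [← ind_eq_one, h, ind_eq_one]

@[simp] theorem ind_empty : ind (∅ : Finset ι) = 0 := by ext; simp

theorem ind_pair {i j : ι} (h : i ≠ j) : ind {i, j} = ind {i} + ind {j} := by
  funext k
  by_cases hi : k = i
  · subst hi; simp [h]
  · by_cases hj : k = j <;> simp [hi, hj, Ne.symm h]

theorem ind_union {s t : Finset ι} (h : Disjoint s t) : ind (s ∪ t) = ind s + ind t := by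
  funext k
  by_cases hs : k ∈ s
  · simp [hs, Finset.disjoint_left.mp h hs]
  · by_cases ht : k ∈ t <;> simp [hs, ht]

theorem ind_comp (s : Finset ι) (π : Perm ι) :
    (fun i => ind s (π.symm i)) = ind (s.map π.toEmbedding) := by
  funext i
  simp

variable [Fintype ι]

theorem ind_supp (v : ι → ZMod 2) : ind (supp v) = v := by
  funext i
  rcases zmod2_cases (v i) with h | h <;> simp [supp, h]

theorem supp_ind (s : Finset ι) : supp (ind s) = s := by
  ext i; simp [supp]

theorem wt_eq_card_supp (v : ι → ZMod 2) : wt v = (supp v).card := rfl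

theorem wt_ind (s : Finset ι) : wt (ind s) = s.card := by
  rw [wt_eq_card_supp, supp_ind]

@[simp] theorem ind_univ : ind (Finset.univ : Finset ι) = 1 := by ext; simp

theorem sum_eq_wt (v : ι → ZMod 2) : ∑ i, v i = (wt v : ZMod 2) := by
  conv_lhs => rw [← ind_supp v]
  simp [wt_eq_card_supp, Finset.sum_ite_mem]

theorem wt_zero : wt (0 : ι → ZMod 2) = 0 := by simp [wt]

theorem wt_eq_zero {v : ι → ZMod 2} : wt v = 0 ↔ v = 0 := by
  refine ⟨fun h => ?_, fun h => h ▸ wt_zero⟩
  rw [← ind_supp v, show supp v = ∅ from Finset.card_eq_zero.mp h, ind_empty]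

theorem wt_le_card (v : ι → ZMod 2) : wt v ≤ Fintype.card ι := Finset.card_le_univ _

theorem eq_one_of_wt {v : ι → ZMod 2} (h : wt v = Fintype.card ι) : v = 1 := by
  rw [← ind_supp v, Finset.eq_univ_of_card (supp v) h, ind_univ]

theorem wt_one : wt (1 : ι → ZMod 2) = Fintype.card ι := by simp [wt]

theorem wt_comp (v : ι → ZMod 2) (π : Perm ι) : wt (fun i => v (π i)) = wt v := by
  refine Finset.card_bij (fun i _ => π i) (by simp) (fun i _ j _ h => π.injective h) ?_
  intro j hj
  exact ⟨π.symm j, by simpa using hj, by simp⟩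

theorem wt_add_one (v : ι → ZMod 2) : wt (1 + v) + wt v = Fintype.card ι := by
  have : supp (1 + v) = (supp v)ᶜ := by
    ext i
    rcases zmod2_cases (v i) with h | h <;> simp [supp, h, CharTwo.add_self_eq_zero]
  rw [wt_eq_card_supp, wt_eq_card_supp, this, Finset.card_compl_add_card]

/-- Vectors of equal weight are permutations of each other. -/
theorem exists_perm_of_wt {v w : ι → ZMod 2} (h : wt v = wt w) :
    ∃ π : Perm ι, ∀ i, v (π.symm i) = w i := by
  obtain ⟨e⟩ := Fintype.card_eq.mp (by simpa [wt_eq_card_supp] using h : Fintype.card ↥(supp v) = Fintype.card ↥(supp w))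
  obtain ⟨f⟩ : Nonempty ({i // ¬ i ∈ supp v} ≃ {i // ¬ i ∈ supp w}) := Fintype.card_eq.mp (by
    rw [Fintype.card_subtype_compl, Fintype.card_subtype_compl]
    simp only [Fintype.card_coe]
    exact congrArg _ h)
  refine ⟨Equiv.subtypeCongr e f, fun i => ?_⟩
  obtain ⟨j, rfl⟩ := (Equiv.subtypeCongr e f).surjective i
  rw [Equiv.symm_apply_apply]
  by_cases hj : j ∈ supp v
  · have h1 : v j = 1 := (Finset.mem_filter.mp hj).2
    have h2 := (e ⟨j, hj⟩).2
    simp only [supp, Finset.mem_filter] at h2
    have h3 := h2.2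
    simp only [h1, Equiv.subtypeCongr, Equiv.trans_apply, Equiv.sumCompl_symm_apply_of_pos hj]
    exact h3.symm
  · have h1 : v j = 0 := (zmod2_cases _).resolve_right (by simpa [supp] using hj)
    have h2 := (f ⟨j, hj⟩).2
    simp only [supp, Finset.mem_filter, Finset.mem_univ, true_and] at h2
    have h3 := (zmod2_cases _).resolve_right h2
    simp only [Equiv.subtypeCongr, Equiv.trans_apply, Equiv.sumCompl_symm_apply_of_neg hj, h1]
    exact h3.symm

end

end Cfsg.Agent.H67.Kondo
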