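import Cfsg.Agent.H67.Kondo.Weight

/-!
The action on a transposition of an element interchanging the centre with `1 + e p`.
-/

set_option autoImplicit false
set_option linter.unusedSectionVars false
set_option linter.unusedSimpArgs false

namespace Cfsg.Agent.H67.Kondo

open Equiv

variable {ι : Type*}

theorem W.eq_base_mul_perm (w : W ι) : w = W.base w.v * W.perm w.p := by
  ext i <;> simp

theorem W.conj_by_base (d : ι → ZMod 2) (w : W ι) (i : ι) :
    (W.base d * w * (W.base d)⁻¹).v i = w.v i + (d i + d (w.p.symm i)) := by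
  simp only [W.mul_v, W.base_v, W.base_p, W.inv_v, W.mul_p, one_mul, perm_one_symm_apply]
  simp only [Perm.one_apply]
  generalize d i = x, w.v i = y, d (w.p.symm i) = z
  decide +revert

theorem W.conj_by_base_p (d : ι → ZMod 2) (w : W ι) :
    (W.base d * w * (W.base d)⁻¹).p = w.p := by simp

/-- The elements whose permutation is trivial or `μ`. -/
def overT (μ : Perm ι) : Subgroup (W ι) := (Subgroup.zpowers μ).comap W.proj

theorem mem_over {μ : Perm ι} (hμ : μ * μ = 1) {w : W ι} : w ∈ overT μ ↔ w.p = 1 ∨ w.p = μ := by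
  refine ⟨fun h => ?_, ?_⟩
  · obtain ⟨k, hk⟩ := Subgroup.mem_zpowers_iff.mp h
    rw [W.proj_apply] at hk
    rw [← hk]
    rcases Int.even_or_odd k with ⟨m, rfl⟩ | ⟨m, rfl⟩
    · left; rw [← two_mul, zpow_mul, show μ ^ (2 : ℤ) = μ * μ from zpow_two μ, hμ, one_zpow]
    · right; rw [zpow_add, zpow_mul, show μ ^ (2 : ℤ) = μ * μ from zpow_two μ, hμ, one_zpow,
        one_mul, zpow_one]
  · rintro (h | h)
    · show W.proj w ∈ Subgroup.zpowers μ
      rw [W.proj_apply, h]; exact one_mem _
    · show W.proj w ∈ Subgroup.zpowers μ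
      rw [W.proj_apply, h]; exact Subgroup.mem_zpowers μ

theorem isPGroup_of_sq {P : Subgroup (W ι)} (h : ∀ w ∈ P, w.p * w.p = 1) : IsPGroup 2 ↥P := by
  refine isPGroup_iff_pow_pow_eq_one.mpr fun ⟨w, hw⟩ => ⟨2, Subtype.ext ?_⟩
  show w ^ 2 ^ 2 = 1
  rw [show 2 ^ 2 = 2 * 2 from rfl, pow_mul, pow_two w, pow_two,
    W.eq_base_of_p (a := w * w) (h w hw), ← W.base_add]
  exact congrArg W.base (Chart.vec_add_self _)

theorem isPGroup_over {μ : Perm ι} (hμ : μ * μ = 1) : IsPGroup 2 ↥(overT μ) :=
  isPGroup_of_sq fun w hw => by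
    rcases (mem_over hμ).mp hw with h | h <;> rw [h]
    · exact one_mul 1
    · exact hμ

theorem base_le_over (μ : Perm ι) : (baseC ι).grp ≤ overT μ := fun w hw => by
  show W.proj w ∈ Subgroup.zpowers μ
  rw [W.proj_apply, mem_baseC.mp hw]
  exact one_mem _

namespace Setup

variable [Fintype ι] [DecidableEq ι] {G : Type*} [Group G] [Finite G] {σ : Setup ι G}

/-- Two maps that agree on elements among which one goes to the centre differ by a conjugation. -/
theorem fus_unique {P : Subgroup (W ι)} {f₁ f₂ : W ι → W ι} (h₁ : σ.Fus P f₁) (h₂ : σ.Fus P f₂)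
    {z : W ι} (hz : z ∈ P) (hfz : f₂ z = W.cst) (he : f₁ z = f₂ z) :
    ∃ ω, ∀ w ∈ P, f₁ w = ω * f₂ w * ω⁻¹ := by
  obtain ⟨f', hf', e'⟩ := h₂.symm
  have h := hf'.comp h₁ (by rintro _ ⟨p, hp, rfl⟩; rw [e' p hp]; exact hp)
  obtain ⟨ω, hω⟩ := h.eq_conj ⟨z, hz, hfz⟩ (by
    show f₁ (f' W.cst) = W.cst
    rw [← hfz, e' z hz, he])
  refine ⟨ω, fun w hw => ?_⟩
  rw [← hω _ ⟨w, hw, rfl⟩]
  show f₁ w = f₁ (f' (f₂ w))
  rw [e' w hw]

theorem conj_ω_base {ω : W ι} (h : ∀ v, ω * W.base v * ω⁻¹ = W.base v) : ω = W.base ω.v := by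
  refine W.eq_base_of_p (Equiv.ext fun i => ?_)
  have h2 := congrFun (W.base_injective ((W.conj_base ω (e i)).symm.trans (h (e i)))) (ω.p i)
  simp [e_apply] at h2
  simpa using h2

theorem Fus.twist {P : Subgroup (W ι)} {f : W ι → W ι} (h : σ.Fus P f) (α : W ι ≃* W ι)
    (hα : α W.cst = W.cst) :
    (σ.twist α hα).Fus (P.map α.toMonoidHom) (fun w => α (f (α.symm w))) := by
  obtain ⟨g, Q, hQ, hg⟩ := h
  refine ⟨g, Q, ⟨fun x hx => ⟨hQ.leH hx, σ.th x, hQ.th_mem hx, rfl⟩, hQ.two, ?_⟩, fun a ha => ?_⟩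
  · rintro _ ⟨w, hw, rfl⟩
    obtain ⟨a, ha, rfl⟩ := hQ.onto w hw
    exact ⟨a, ha, rfl⟩
  · refine ⟨(hg a ha).1, ?_⟩
    show α (σ.th (g * a * g⁻¹)) = α (f (α.symm (α (σ.th a))))
    rw [(hg a ha).2, α.symm_apply_apply]

theorem T_base_twist {v : ι → ZMod 2} (h : σ.T (baseC ι) v) :
    (σ.twist (twistEquiv chiP chiP_cst) (twistEquiv_cst _ _)).T (baseC ι) v := by
  have h2 : σ.R (W.base v) W.cst := h
  have h3 := h2.twist (α := twistEquiv chiP chiP_cst) (hα := twistEquiv_cst _ _)
  have e : ∀ w : ι → ZMod 2, twistEquiv chiP chiP_cst (W.base w) = W.base w := fun w => by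
    rw [twistEquiv_apply, chiP_base]
    show W.base 0 * _ = _
    rw [W.base_zero, one_mul]
  rw [twistEquiv_cst, e] at h3
  exact h3

theorem Normal.twist (hσ : σ.Normal) :
    (σ.twist (twistEquiv chiP chiP_cst) (twistEquiv_cst _ _)).Normal :=
  ⟨hσ.even, hσ.four, fun a => T_base_twist (hσ.top a)⟩

theorem hA_one (hσ : σ.Normal) (p : ι) : hA p (1 : ι → ZMod 2) = 1 + e p := by
  funext i
  by_cases h : i = p
  · subst h; simp [hA, card_cast hσ.even, CharTwo.add_self_eq_zero]
  · simp [hA, h, e_ne h]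

theorem hA_top (hσ : σ.Normal) (p : ι) : hA p (1 + e p) = 1 := by
  funext i
  by_cases h : i = p
  · subst h
    simp [hA, Finset.sum_add_distrib, card_cast hσ.even, sum_e]
  · simp [hA, h, e_ne h]

theorem hA_hA (p : ι) (v : ι → ZMod 2) : hA p (hA p v) = v := by
  funext i
  by_cases h : i = p
  · subst h
    simp only [hA, Function.update_self]
    rw [← Finset.add_sum_erase _ _ (Finset.mem_univ i), Function.update_self,
      Finset.sum_congr rfl (g := v) fun j hj => Function.update_of_ne (Finset.ne_of_mem_erase hj) _ _,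
      ← Finset.add_sum_erase _ v (Finset.mem_univ i)]
    generalize v i = x, ∑ j ∈ Finset.univ.erase i, v j = y
    decide +revert
  · simp [hA, h]

theorem hA_comp_perm {p : ι} {π : Perm ι} (v : ι → ZMod 2) :
    hA (π p) (fun i => v (π.symm i)) = fun i => hA p v (π.symm i) := by
  funext i
  by_cases h : i = π p
  · subst h
    simp only [hA, Function.update_self, Equiv.symm_apply_apply]
    exact Equiv.sum_comp π.symm v
  · have : π.symm i ≠ p := fun e => h (by rw [← e, Equiv.apply_symm_apply])
    simp [hA, h, this]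

theorem conj_perm_perm (π τ : Perm ι) :
    W.perm π * W.perm τ * (W.perm π)⁻¹ = W.perm (π * τ * π⁻¹) := by
  rw [← map_inv, ← map_mul, ← map_mul]

variable (σ) in
/-- The transposition `(a b)` is fixed by an element inducing `hA p`. -/
def Fixes (a b p : ι) : Prop :=
  ∃ f, σ.Fus (overT (swap a b)) f ∧ (∀ v, f (W.base v) = W.base (hA p v)) ∧
    f (W.perm (swap a b)) = W.perm (swap a b)

theorem Fixes.conj {a b p : ι} (h : σ.Fixes a b p) (π : Perm ι) : σ.Fixes (π a) (π b) (π p) := by
  obtain ⟨f, hf, hfb, hfu⟩ := h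
  set τ := swap a b
  have hτ : τ * τ = 1 := swap_mul_self a b
  have hτ' : swap (π a) (π b) = π * τ * π⁻¹ := swap_apply_apply π a b
  have hτ'2 : swap (π a) (π b) * swap (π a) (π b) = 1 := swap_mul_self _ _
  have hmem : ∀ w ∈ overT (swap (π a) (π b)), (W.perm π)⁻¹ * w * ((W.perm π)⁻¹)⁻¹ ∈ overT τ := by
    intro w hw
    rw [mem_over hτ]
    rcases (mem_over hτ'2).mp hw with e | e
    · left; simp [e]
    · right; simp [e, hτ', mul_assoc]
  have h1 := (fus_conj (σ := σ) (isPGroup_over hτ'2) (W.perm π)⁻¹).comp hf hmem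
  obtain ⟨g, hg, hgf⟩ : ∃ g, σ.Fus hf.image g ∧ g = fun w => W.perm π * w * (W.perm π)⁻¹ := by
    refine ⟨_, fus_conj ?_ _, rfl⟩
    refine isPGroup_of_sq ?_
    rintro _ ⟨x, hx, rfl⟩
    have h4 : f x * f x * (f x * f x) = 1 := by
      rw [← hf.map_mul hx hx, ← hf.map_mul (mul_mem hx hx) (mul_mem hx hx)]
      rcases (mem_over hτ).mp hx with e | e
      · have : x * x = 1 := by rw [W.eq_base_of_p e, ← W.base_add, Chart.vec_add_self, W.base_zero]
        rw [this, one_mul, hf.map_one]
      · have : x * x * (x * x) = 1 := by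
          rw [W.eq_base_of_p (a := x * x) (by simp [e, hτ]), ← W.base_add, Chart.vec_add_self,
            W.base_zero]
        rw [this, hf.map_one]
    have hx' : x = W.base x.v * W.perm x.p := W.eq_base_mul_perm x
    rcases (mem_over hτ).mp hx with e | e
    · rw [hx', hf.map_mul (base_le_over τ (base_mem _)) (by rw [mem_over hτ]; simp [e]), hfb, e,
        map_one, hf.map_one]
      simp
    · rw [hx', hf.map_mul (base_le_over τ (base_mem _)) (by rw [mem_over hτ]; simp [e]), hfb, e, hfu]
      simp [hτ]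
  have h2 := h1.comp hg fun w hw => ⟨_, hmem w hw, rfl⟩
  refine ⟨_, h2, fun v => ?_, ?_⟩
  · simp only [Function.comp, hgf, W.conj_base, W.inv_p, W.perm_p, perm_inv_symm_apply]
    rw [hfb, W.conj_base]
    congr 1
    funext i
    simp only [W.perm_p]
    have := hA_comp_perm (p := p) (π := π) (fun i => v (π i))
    simp only [Equiv.apply_symm_apply] at this
    exact (congrFun this i).symm
  · simp only [Function.comp, hgf, inv_inv]
    rw [hτ', ← map_inv, ← map_mul, ← map_mul,
      show π⁻¹ * (π * τ * π⁻¹) * π = τ by group, hfu, ← map_mul, ← map_mul]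

/-- The element inducing `hA p` fixes a transposition up to a multiple of `e p`. -/
theorem Normal.almost_fixes (hσ : σ.Normal) {a b p : ι} (hab : a ≠ b) (hpa : p ≠ a) (hpb : p ≠ b) :
    ∃ f, σ.Fus (overT (swap a b)) f ∧ (∀ v, f (W.base v) = W.base (hA p v)) ∧
      ∃ c : ZMod 2, f (W.perm (swap a b)) = W.base (fun i => c * e p i) * W.perm (swap a b) := by
  set τ := swap a b with hτdef
  have hτ : τ * τ = 1 := swap_mul_self a b
  have hτp : τ p = p := swap_apply_of_ne_of_ne hpa hpb
  obtain ⟨f₀, hf₀, hf₀'⟩ := hσ.gam_hA p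
  have hz : f₀ (W.base (1 + e p)) = W.cst := by rw [← baseC_φ, hf₀', hA_top hσ]; rfl
  obtain ⟨f, hf, hff⟩ := hf₀.extend (isPGroup_over hτ) (base_le_over τ) (base_mem _) hz (by
    intro q hq
    rw [W.commute_iff]
    refine ⟨by simp, fun i => ?_⟩
    have hqp : q.p p = p := by
      rcases (mem_over hτ).mp hq with e | e <;> simp [e, hτp]
    have : q.p.symm i = p ↔ i = p := by rw [Equiv.symm_apply_eq, hqp]
    simp [e_apply, this, add_comm])
  have hb : ∀ v, f (W.base v) = W.base (hA p v) := fun v => by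
    rw [hff _ (base_mem v), ← baseC_φ, hf₀']; rfl
  have hu : W.perm τ ∈ overT τ := (mem_over hτ).mpr (Or.inr rfl)
  have hbm : ∀ v, W.base v ∈ overT τ := fun v => base_le_over τ (base_mem v)
  set x := f (W.perm τ) with hx
  have hcomp : ∀ v : ι → ZMod 2, (fun i => hA p v (τ i)) = hA p (fun i => v (τ i)) := fun v => by
    have := hA_comp_perm (p := p) (π := τ) v
    rw [hτp] at this
    rw [hτdef] at this ⊢
    simpa using this.symm
  have hxp : x.p = τ := by
    ext i
    have h1 := congrArg f (W.conj_base (W.perm τ) (hA p (e i)))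
    rw [hf.map_mul (mul_mem hu (hbm _)) (inv_mem hu), hf.map_mul hu (hbm _), hf.map_inv hu, hb, hb,
      hA_hA, ← hx, W.conj_base] at h1
    have h2 := congrFun (W.base_injective h1) (x.p i)
    simp only [W.perm_p, Equiv.symm_apply_apply, e_self] at h2
    rw [hτdef, Equiv.symm_swap, ← hτdef, hcomp, hA_hA] at h2
    simp [e_apply] at h2
    exact τ.injective (by rw [h2]; exact (congrArg (fun e : Perm ι => e i) hτ).symm)
  have hxx : x * x = 1 := by
    rw [hx, ← hf.map_mul hu hu, ← map_mul, hτ, map_one, hf.map_one]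
  have hxab : x.v b = x.v a := by
    have := ((W.mul_self_eq_one_iff x).mp hxx).2 a
    rwa [hxp, hτdef, swap_apply_left] at this
  have hperm : ∀ π : Perm ι, π a = a → π b = b → π p = p → ∀ i, i ≠ a → i ≠ b →
      x.v (π.symm i) = x.v i := by
    intro π ha hb' hp i hia hib
    have hπτ : π * τ * π⁻¹ = τ := by rw [hτdef, ← swap_apply_apply, ha, hb']
    have hconjmem : ∀ w ∈ overT τ, W.perm π * w * (W.perm π)⁻¹ ∈ overT τ := by
      intro w hw
      rw [mem_over hτ]
      rcases (mem_over hτ).mp hw with e | e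
      · left; simp [e]
      · right; simp [e, hπτ]
    have himg : ∀ w ∈ overT τ, f w ∈ overT τ := by
      intro w hw
      have hw' := W.eq_base_mul_perm w
      rw [mem_over hτ]
      rcases (mem_over hτ).mp hw with e | e
      · left; rw [W.eq_base_of_p e, hb, W.base_p]
      · right
        rw [hw', e, hf.map_mul (hbm _) hu, hb, ← hx, W.mul_p, W.base_p, one_mul, hxp]
    have h2 := (fus_conj (σ := σ) (isPGroup_over hτ) (W.perm π)).comp hf hconjmem
    have h1 := hf.comp (fus_conj (σ := σ) (isPGroup_over hτ) (W.perm π)) himg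
    have hH : ∀ v : ι → ZMod 2, (fun i => hA p v (π.symm i)) = hA p (fun i => v (π.symm i)) := by
      intro v
      have := hA_comp_perm (p := p) (π := π) v
      rw [hp] at this
      exact this.symm
    have heq : ∀ v, W.perm π * f (W.base v) * (W.perm π)⁻¹ = f (W.perm π * W.base v * (W.perm π)⁻¹) := by
      intro v
      rw [hb, W.conj_base, W.conj_base, hb]
      exact congrArg W.base (hH v)
    obtain ⟨ω, hω⟩ := fus_unique h1 h2 (z := W.base (1 + e p)) (hbm _) (by
      show f _ = _
      rw [← heq, hff _ (base_mem _), hz]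
      exact mul_inv_eq_of_eq_mul (W.cst_comm _).eq.symm) (heq _)
    have hω0 : ω = W.base ω.v := by
      refine conj_ω_base fun v => ?_
      have h3 := hω _ (hbm (fun i => hA p v (π i)))
      simp only [Function.comp] at h3
      rw [heq, W.conj_base] at h3
      simp only [W.perm_p, Equiv.apply_symm_apply] at h3
      rw [hb, hA_hA] at h3
      exact h3.symm
    have h3 := hω _ hu
    simp only [Function.comp] at h3
    rw [conj_perm_perm, hπτ, ← hx, hω0] at h3
    have h4 := congrFun (congrArg W.v h3) i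
    rw [W.conj_by_base, W.conj_v, hxp, hτdef, Equiv.symm_swap,
      swap_apply_of_ne_of_ne hia hib, CharTwo.add_self_eq_zero, add_zero] at h4
    simpa using h4
  obtain ⟨r, hr⟩ : ∃ r, r ∉ ({a, b, p} : Finset ι) := by
    obtain ⟨r, -, hr⟩ := Finset.exists_mem_notMem_of_card_lt_card
      (s := ({a, b, p} : Finset ι)) (t := Finset.univ)
      (by rw [Finset.card_univ]; exact Finset.card_le_three.trans_lt (by have := hσ.four; omega))
    exact ⟨r, hr⟩
  simp only [Finset.mem_insert, Finset.mem_singleton, not_or] at hr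
  have hconst : ∀ i ∈ ((Finset.univ.erase p).erase a).erase b, x.v i = x.v r := by
    intro i hi
    simp only [Finset.mem_erase, Finset.mem_univ, and_true] at hi
    have := hperm (swap r i) (swap_apply_of_ne_of_ne (Ne.symm hr.1) hi.2.1.symm)
      (swap_apply_of_ne_of_ne (Ne.symm hr.2.1) hi.1.symm)
      (swap_apply_of_ne_of_ne (Ne.symm hr.2.2) hi.2.2.symm) i hi.2.1 hi.1
    simpa using this.symm
  have hsum : x.v r = 0 := by
    have himg : ∀ w ∈ overT τ, f w ∈ overT τ := by
      intro w hw
      have hw' := W.eq_base_mul_perm w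
      rw [mem_over hτ]
      rcases (mem_over hτ).mp hw with e | e
      · left; rw [W.eq_base_of_p e, hb, W.base_p]
      · right
        rw [hw', e, hf.map_mul (hbm _) hu, hb, ← hx, W.mul_p, W.base_p, one_mul, hxp]
    have h1 := hf.comp hf himg
    have h2 := fus_conj (σ := σ) (isPGroup_over hτ) 1
    have hid : ∀ v, f (f (W.base v)) = W.base v := fun v => by rw [hb, hb, hA_hA]
    obtain ⟨ω, hω⟩ := fus_unique h1 h2 (z := W.cst) (hbm 1) (by simp) (by
      simp only [Function.comp, one_mul, inv_one, mul_one]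
      exact hid 1)
    have hω0 : ω = W.base ω.v := by
      refine conj_ω_base fun v => ?_
      have h3 := hω _ (hbm v)
      simp only [Function.comp, one_mul, inv_one, mul_one, hid] at h3
      exact h3.symm
    have h3 := hω _ hu
    simp only [Function.comp, one_mul, inv_one, mul_one] at h3
    rw [← hx, W.eq_base_mul_perm x, hxp, hf.map_mul (hbm _) hu, hb, ← hx, hω0] at h3
    have h4 := congrFun (congrArg W.v h3) p
    rw [W.conj_by_base, W.perm_p, hτdef, Equiv.symm_swap, swap_apply_of_ne_of_ne hpa hpb,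
      CharTwo.add_self_eq_zero, add_zero] at h4
    simp only [W.mul_v, W.base_v, W.base_p, perm_one_symm_apply, W.perm_v, Pi.zero_apply, hA,
      Function.update_self] at h4
    rw [← Finset.add_sum_erase _ _ (Finset.mem_univ p),
      ← Finset.add_sum_erase _ _ (show a ∈ Finset.univ.erase p by simp [hpa.symm]),
      ← Finset.add_sum_erase _ _ (show b ∈ (Finset.univ.erase p).erase a by
          simp [hpb.symm, hab.symm]),
      Finset.sum_congr rfl hconst, Finset.sum_const, hxab] at h4
    have hc : Odd (((Finset.univ.erase p).erase a).erase b).card := by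
      rw [Finset.card_erase_of_mem (by simp [hpb.symm, hab.symm]),
        Finset.card_erase_of_mem (by simp [hpa.symm]), Finset.card_erase_of_mem (Finset.mem_univ p),
        Finset.card_univ]
      obtain ⟨m, hm⟩ := hσ.even
      have := hσ.four
      exact ⟨m - 2, by omega⟩
    rw [nsmul_eq_mul, hc.natCast_zmod_two, one_mul] at h4
    revert h4
    generalize x.v p = A, x.v a = B, x.v r = C
    decide +revert
  have hd := hf.comp (fus_conj (σ := σ) (isPGroup_over hτ) (W.base (fun i => x.v a * e a i))) (by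
    intro w hw
    have hw' := W.eq_base_mul_perm w
    rw [mem_over hτ]
    rcases (mem_over hτ).mp hw with e | e
    · left; rw [W.eq_base_of_p e, hb, W.base_p]
    · right
      rw [hw', e, hf.map_mul (hbm _) hu, hb, ← hx, W.mul_p, W.base_p, one_mul, hxp])
  refine ⟨_, hd, fun v => ?_, x.v p, ?_⟩
  · simp only [Function.comp, hb, W.conj_base, W.base_p, perm_one_symm_apply]
  · simp only [Function.comp, ← hx]
    refine W.ext (funext fun i => ?_) (by simp [hxp])
    rw [W.conj_by_base, hxp, hτdef, Equiv.symm_swap]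
    simp only [W.mul_v, W.base_v, W.base_p, perm_one_symm_apply, W.perm_v, Pi.zero_apply, add_zero]
    by_cases hia : i = a
    · subst hia
      simp [e_apply, hab.symm, hpa.symm, CharTwo.add_self_eq_zero]
    · by_cases hib : i = b
      · subst hib
        simp [e_apply, hia, hxab, hpb.symm, CharTwo.add_self_eq_zero]
      · rw [swap_apply_of_ne_of_ne hia hib, CharTwo.add_self_eq_zero, add_zero]
        by_cases hip : i = p
        · subst hip; simp
        · rw [hconst i (by simp [hia, hib, hip]), hsum]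
          simp [e_apply, hip]

variable (σ) in
/-- The normalised situation including transpositions. -/
structure Aligned : Prop where
  normal : σ.Normal
  fixes : ∀ a b p : ι, a ≠ b → p ≠ a → p ≠ b → σ.Fixes a b p

theorem aligned_of_fixes (hσ : σ.Normal) {a b p : ι} (hab : a ≠ b) (hpa : p ≠ a) (hpb : p ≠ b)
    (h : σ.Fixes a b p) : σ.Aligned := by
  refine ⟨hσ, fun a' b' p' hab' hpa' hpb' => ?_⟩
  let π₁ : Perm ι := swap a a'
  let π₂ : Perm ι := swap (π₁ b) b' * π₁
  let π : Perm ι := swap (π₂ p) p' * π₂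
  have h1a : π₁ a = a' := swap_apply_left a a'
  have hb1 : π₁ b ≠ a' := by rw [← h1a]; exact fun e => hab (π₁.injective e).symm
  have h2a : π₂ a = a' := by
    simp [π₂, h1a, swap_apply_of_ne_of_ne hb1.symm hab']
  have h2b : π₂ b = b' := by simp [π₂]
  have hp2a : π₂ p ≠ a' := by rw [← h2a]; exact fun e => hpa (π₂.injective e)
  have hp2b : π₂ p ≠ b' := by rw [← h2b]; exact fun e => hpb (π₂.injective e)
  have h3a : π a = a' := by simp [π, h2a, swap_apply_of_ne_of_ne hp2a.symm hpa'.symm]
  have h3b : π b = b' := by simp [π, h2b, swap_apply_of_ne_of_ne hp2b.symm hpb'.symm]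
  have h3p : π p = p' := by simp [π]
  have := h.conj π
  rwa [h3a, h3b, h3p] at this

/-- After a twist by the sign the situation is aligned. -/
theorem Normal.exists_aligned (hσ : σ.Normal) :
    σ.Aligned ∨ (σ.twist (twistEquiv chiP chiP_cst) (twistEquiv_cst _ _)).Aligned := by
  have h4 := hσ.four
  obtain ⟨a⟩ : Nonempty ι := Fintype.card_pos_iff.mp (by omega)
  obtain ⟨b, hba⟩ := Fintype.exists_ne_of_one_lt_card (by omega : 1 < Fintype.card ι) a
  obtain ⟨p, -, hp⟩ := Finset.exists_mem_notMem_of_card_lt_card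
    (s := ({a, b} : Finset ι)) (t := Finset.univ)
    (by rw [Finset.card_univ]; exact Finset.card_le_two.trans_lt (by omega))
  simp only [Finset.mem_insert, Finset.mem_singleton, not_or] at hp
  obtain ⟨f, hf, hfb, c, hfu⟩ := hσ.almost_fixes hba.symm hp.1 hp.2
  rcases zmod2_cases c with rfl | rfl
  · refine Or.inl (aligned_of_fixes hσ hba.symm hp.1 hp.2 ⟨f, hf, hfb, ?_⟩)
    rw [hfu, show (fun i => (0 : ZMod 2) * e p i) = (0 : ι → ZMod 2) from funext fun _ => zero_mul _,
      W.base_zero, one_mul]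
  · refine Or.inr (aligned_of_fixes hσ.twist hba.symm hp.1 hp.2 ?_)
    set τ := swap a b
    have hτ : τ * τ = 1 := swap_mul_self a b
    set α := twistEquiv (ι := ι) chiP chiP_cst with hα
    have hαb : ∀ v, α (W.base v) = W.base v := fun v => by
      rw [hα, twistEquiv_apply, chiP_base]
      show W.base 0 * _ = _
      rw [W.base_zero, one_mul]
    have hαu : α (W.perm τ) = W.cst * W.perm τ := by
      rw [hα, twistEquiv_apply]
      congr 1
      have : chiP (W.perm τ : W ι) = Multiplicative.ofAdd (1 : ZMod 2) := by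
        simp [chiP, τ, Perm.sign_swap hba.symm]
      rw [this]
      rfl
    have hmap : (overT τ).map α.toMonoidHom = overT τ := by
      ext w
      rw [Subgroup.mem_map_equiv]
      rw [mem_over hτ, mem_over hτ]
      rw [show (α.symm w).p = w.p from ?_]
      have := twistEquiv_p chiP chiP_cst (α.symm w)
      rw [← hα, α.apply_symm_apply] at this
      exact this.symm
    have hsymm : ∀ w, α.symm w = α w := fun w => rfl
    have h1 := hf.twist α (twistEquiv_cst chiP chiP_cst)
    rw [hmap] at h1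
    refine ⟨_, h1, fun v => ?_, ?_⟩
    · show α (f (α.symm (W.base v))) = _
      rw [hsymm, hαb, hfb, hαb]
    · show α (f (α.symm (W.perm τ))) = _
      rw [hsymm, hαu, show (W.cst : W ι) = W.base 1 from rfl,
        hf.map_mul (base_le_over τ (base_mem 1)) ((mem_over hτ).mpr (Or.inr rfl)),
        hfb 1, hA_one hσ, hfu, ← mul_assoc, ← W.base_add,
        map_mul, hαb, hαu, ← mul_assoc, W.cst, ← W.base_add]
      rw [show (1 + e p + fun i => 1 * e p i) + 1 = (0 : ι → ZMod 2) from ?_, W.base_zero, one_mul]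
      funext i
      simp only [Pi.add_apply, Pi.one_apply, one_mul, Pi.zero_apply]
      generalize e p i = y
      decide +revert

end Setup

end Cfsg.Agent.H67.Kondo
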