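import Cfsg.Agent.H67.Kondo.Model
import Cfsg.Agent.S1853

/-!
A finite group with an involution whose centralizer maps onto the signed permutation group with
a kernel of odd order; the fusion that the group induces on `2`-subgroups of the image.
-/

set_option autoImplicit false
set_option linter.unusedSectionVars false
set_option linter.style.haveILetI false

namespace Cfsg.Agent.H67.Kondo

open Equiv Subgroup

/-- The group with the chosen involution and the map of its centralizer. -/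
structure Setup (ι : Type*) (G : Type*) [Group G] where
  /-- the involution -/
  t : G
  /-- the Sylow `2`-subgroup centralized by `t` -/
  S : Sylow 2 G
  /-- the map, meaningful on the centralizer of `t` -/
  th : G → W ι
  t_ord : orderOf t = 2
  S_le : (S : Subgroup G) ≤ centralizer ({t} : Set G)
  th_mul : ∀ x ∈ centralizer ({t} : Set G), ∀ y ∈ centralizer ({t} : Set G),
    th (x * y) = th x * th y
  th_surj : ∀ w, ∃ x ∈ centralizer ({t} : Set G), th x = w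
  th_ker : ∀ x ∈ centralizer ({t} : Set G), th x = 1 → x * x = 1 → x = 1
  th_t : th t = W.cst
  no_hom : ∀ f : G →* Multiplicative (ZMod 2), f = 1

namespace Setup

variable {ι : Type*} {G : Type*} [Group G] (σ : Setup ι G)

/-- The centralizer of the involution. -/
def H : Subgroup G := centralizer ({σ.t} : Set G)

/-- The map as a homomorphism. -/
def thHom : ↥σ.H →* W ι := MonoidHom.mk' (fun x => σ.th x) fun x y => σ.th_mul _ x.2 _ y.2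

theorem mem_H {x : G} : x ∈ σ.H ↔ σ.t * x = x * σ.t := by
  unfold H
  rw [mem_centralizer_singleton_iff]
  exact eq_comm

theorem t_mem : σ.t ∈ σ.H := σ.mem_H.mpr rfl

theorem th_one : σ.th 1 = 1 := σ.thHom.map_one

theorem th_inv {x : G} (hx : x ∈ σ.H) : σ.th x⁻¹ = (σ.th x)⁻¹ := σ.thHom.map_inv ⟨x, hx⟩

theorem th_pow {x : G} (hx : x ∈ σ.H) (n : ℕ) : σ.th (x ^ n) = σ.th x ^ n :=
  σ.thHom.map_pow ⟨x, hx⟩ n

theorem th_conj {g x : G} (hg : g ∈ σ.H) (hx : x ∈ σ.H) :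
    σ.th (g * x * g⁻¹) = σ.th g * σ.th x * (σ.th g)⁻¹ := by
  rw [σ.th_mul _ (mul_mem hg hx) _ (inv_mem hg), σ.th_mul _ hg _ hx, σ.th_inv hg]

theorem ker_two : ∀ (k : ℕ) (x : G), x ∈ σ.H → σ.th x = 1 → x ^ 2 ^ k = 1 → x = 1
  | 0, x, _, _, h => by simpa using h
  | k + 1, x, hx, h1, h => by
    have h2 := ker_two k (x ^ 2) (pow_mem hx 2) (by rw [σ.th_pow hx, h1, one_pow])
      (by rw [← pow_mul, ← pow_succ']; exact h)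
    exact σ.th_ker x hx h1 (by rw [← pow_two, h2])

theorem exists_pow_eq_one {Q : Subgroup G} (hQ : IsPGroup 2 ↥Q) {x : G} (hx : x ∈ Q) :
    ∃ k : ℕ, x ^ 2 ^ k = 1 := by
  obtain ⟨k, hk⟩ := isPGroup_iff_pow_pow_eq_one.mp hQ ⟨x, hx⟩
  exact ⟨k, by simpa using congrArg Subtype.val hk⟩

theorem th_injOn {Q : Subgroup G} (hQ : IsPGroup 2 ↥Q) (hQH : Q ≤ σ.H) {a b : G} (ha : a ∈ Q)
    (hb : b ∈ Q) (h : σ.th a = σ.th b) : a = b := by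
  obtain ⟨k, hk⟩ := exists_pow_eq_one hQ (mul_mem ha (inv_mem hb))
  refine mul_inv_eq_one.mp (σ.ker_two k _ (hQH (mul_mem ha (inv_mem hb))) ?_ hk)
  rw [σ.th_mul _ (hQH ha) _ (hQH (inv_mem hb)), σ.th_inv (hQH hb), h, mul_inv_cancel]

/-- The preimage of a subgroup. -/
def pre (P : Subgroup (W ι)) : Subgroup G where
  carrier := {x | x ∈ σ.H ∧ σ.th x ∈ P}
  one_mem' := ⟨one_mem _, by rw [σ.th_one]; exact one_mem _⟩
  mul_mem' := fun ⟨a, a'⟩ ⟨b, b'⟩ => ⟨mul_mem a b, by rw [σ.th_mul _ a _ b]; exact mul_mem a' b'⟩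
  inv_mem' := fun ⟨a, a'⟩ => ⟨inv_mem a, by rw [σ.th_inv a]; exact inv_mem a'⟩

theorem mem_pre {P : Subgroup (W ι)} {x : G} : x ∈ σ.pre P ↔ x ∈ σ.H ∧ σ.th x ∈ P := Iff.rfl

theorem pre_le (P : Subgroup (W ι)) : σ.pre P ≤ σ.H := fun _ h => h.1

/-- `Q` maps bijectively onto `P`. -/
structure IsLift (P : Subgroup (W ι)) (Q : Subgroup G) : Prop where
  le : Q ≤ σ.pre P
  two : IsPGroup 2 ↥Q
  onto : ∀ w ∈ P, ∃ a ∈ Q, σ.th a = w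

variable {σ}

theorem IsLift.leH {P : Subgroup (W ι)} {Q : Subgroup G} (h : σ.IsLift P Q) : Q ≤ σ.H :=
  h.le.trans (σ.pre_le P)

theorem IsLift.th_mem {P : Subgroup (W ι)} {Q : Subgroup G} (h : σ.IsLift P Q) {a : G}
    (ha : a ∈ Q) : σ.th a ∈ P := (h.le ha).2

theorem IsLift.inj {P : Subgroup (W ι)} {Q : Subgroup G} (h : σ.IsLift P Q) {a b : G}
    (ha : a ∈ Q) (hb : b ∈ Q) (hab : σ.th a = σ.th b) : a = b :=
  σ.th_injOn h.two h.leH ha hb hab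

theorem IsLift.restrict {P P' : Subgroup (W ι)} {Q : Subgroup G} (h : σ.IsLift P Q)
    (hP : P' ≤ P) : σ.IsLift P' (Q ⊓ σ.pre P') := by
  refine ⟨inf_le_right, h.two.to_inf_left, fun w hw => ?_⟩
  obtain ⟨a, ha, rfl⟩ := h.onto w (hP hw)
  exact ⟨a, ⟨ha, h.leH ha, hw⟩, rfl⟩

theorem IsLift.comm {P : Subgroup (W ι)} {Q : Subgroup G} (h : σ.IsLift P Q) {a b : G}
    (ha : a ∈ Q) (hb : b ∈ Q) (hc : Commute (σ.th a) (σ.th b)) : a * b = b * a := by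
  refine h.inj (mul_mem ha hb) (mul_mem hb ha) ?_
  rw [σ.th_mul _ (h.leH ha) _ (h.leH hb), σ.th_mul _ (h.leH hb) _ (h.leH ha), hc.eq]

variable (σ) [Finite G] [Finite ι]

theorem exists_isLift {P : Subgroup (W ι)} (hP : IsPGroup 2 ↥P) {Q₀ : Subgroup G}
    (h0 : Q₀ ≤ σ.pre P) (h0' : IsPGroup 2 ↥Q₀) : ∃ Q, σ.IsLift P Q ∧ Q₀ ≤ Q := by
  haveI : Fact (Nat.Prime 2) := ⟨Nat.prime_two⟩
  obtain ⟨T, hT⟩ := (h0'.comap_subtype (K := σ.pre P)).exists_le_sylow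
  let q : ↥(σ.pre P) →* ↥P :=
    MonoidHom.mk' (fun x => ⟨σ.th x, x.2.2⟩) fun x y => Subtype.ext (σ.th_mul _ x.2.1 _ y.2.1)
  have hq : Function.Surjective q := by
    rintro ⟨w, hw⟩
    obtain ⟨x, hx, rfl⟩ := σ.th_surj w
    exact ⟨⟨x, hx, hw⟩, rfl⟩
  have htop : (T.mapSurjective hq : Subgroup ↥P) = ⊤ :=
    (T.mapSurjective hq).3 (hP.to_subgroup ⊤) le_top |>.symm
  refine ⟨(T : Subgroup ↥(σ.pre P)).map (σ.pre P).subtype,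
    ⟨map_subtype_le _, T.2.map _, fun w hw => ?_⟩, fun x hx => ⟨⟨x, h0 hx⟩, hT hx, rfl⟩⟩
  have hm : (⟨w, hw⟩ : ↥P) ∈ (T : Subgroup _).map q := by
    rw [← Sylow.coe_mapSurjective hq, htop]; exact Subgroup.mem_top _
  obtain ⟨x, hx, hxw⟩ := hm
  exact ⟨x, ⟨x, hx, rfl⟩, congrArg Subtype.val hxw⟩

theorem exists_isLift' {P : Subgroup (W ι)} (hP : IsPGroup 2 ↥P) : ∃ Q, σ.IsLift P Q :=
  (σ.exists_isLift hP (Q₀ := ⊥) bot_le IsPGroup.of_bot).imp fun _ h => h.1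

/-- A `2`-subgroup over `P` can be moved into a lift of `P` by an element of the kernel. -/
theorem exists_ker_conj {P : Subgroup (W ι)} {Q Q₀ : Subgroup G} (hQ : σ.IsLift P Q)
    (h0 : Q₀ ≤ σ.pre P) (h0' : IsPGroup 2 ↥Q₀) :
    ∃ c ∈ σ.H, σ.th c = 1 ∧ ∀ a ∈ Q₀, c * a * c⁻¹ ∈ Q := by
  haveI : Fact (Nat.Prime 2) := ⟨Nat.prime_two⟩
  obtain ⟨T₀, hT₀⟩ := (h0'.comap_subtype (K := σ.pre P)).exists_le_sylow
  obtain ⟨T, hT⟩ := (hQ.two.comap_subtype (K := σ.pre P)).exists_le_sylow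
  have hTQ : ∀ x : ↥(σ.pre P), x ∈ T → (x : G) ∈ Q := by
    intro x hx
    obtain ⟨a, ha, hax⟩ := hQ.onto _ x.2.2
    have h2 : IsPGroup 2 ↥((T : Subgroup _).map (σ.pre P).subtype) := T.2.map _
    have := σ.th_injOn h2 ((map_subtype_le _).trans (σ.pre_le P))
      (a := a) (b := (x : G)) ⟨⟨a, hQ.le ha⟩, hT ha, rfl⟩ ⟨x, hx, rfl⟩ hax
    rwa [← this]
  obtain ⟨k, hk⟩ := MulAction.exists_smul_eq ↥(σ.pre P) T₀ T
  obtain ⟨a, ha, hak⟩ := hQ.onto _ k.2.2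
  refine ⟨a⁻¹ * k, mul_mem (inv_mem (hQ.leH ha)) k.2.1, ?_, fun x hx => ?_⟩
  · rw [σ.th_mul _ (inv_mem (hQ.leH ha)) _ k.2.1, σ.th_inv (hQ.leH ha), hak, inv_mul_cancel]
  · have h1 : k * ⟨x, h0 hx⟩ * k⁻¹ ∈ T := by
      rw [← hk]
      exact ⟨⟨x, h0 hx⟩, hT₀ hx, rfl⟩
    have e : a⁻¹ * (k : G) * x * (a⁻¹ * k)⁻¹ = a⁻¹ * ((k : G) * x * (k : G)⁻¹) * a := by group
    rw [e]
    exact mul_mem (mul_mem (inv_mem ha) (hTQ _ h1)) ha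

/-- The fusion on `P`. -/
def Fus (P : Subgroup (W ι)) (f : W ι → W ι) : Prop :=
  ∃ g Q, σ.IsLift P Q ∧ ∀ a ∈ Q, g * a * g⁻¹ ∈ σ.H ∧ σ.th (g * a * g⁻¹) = f (σ.th a)

theorem exists_fus {P : Subgroup (W ι)} {Q : Subgroup G} (hQ : σ.IsLift P Q) (g : G)
    (hg : ∀ a ∈ Q, g * a * g⁻¹ ∈ σ.H) :
    ∃ f, σ.Fus P f ∧ ∀ a ∈ Q, f (σ.th a) = σ.th (g * a * g⁻¹) := by
  classical
  refine ⟨fun w => if h : w ∈ P then σ.th (g * (hQ.onto w h).choose * g⁻¹) else 1, ?_⟩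
  have key : ∀ a ∈ Q, (fun w => if h : w ∈ P then σ.th (g * (hQ.onto w h).choose * g⁻¹) else 1)
      (σ.th a) = σ.th (g * a * g⁻¹) := by
    intro a ha
    simp only [dif_pos (hQ.th_mem ha)]
    have := (hQ.onto _ (hQ.th_mem ha)).choose_spec
    rw [hQ.inj this.1 ha this.2]
  exact ⟨⟨g, Q, hQ, fun a ha => ⟨hg a ha, (key a ha).symm⟩⟩, key⟩

variable {σ}
variable {P P' : Subgroup (W ι)} {f f' : W ι → W ι}

theorem Fus.congr (h : σ.Fus P f) (e : ∀ w ∈ P, f' w = f w) : σ.Fus P f' := by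
  obtain ⟨g, Q, hQ, hg⟩ := h
  exact ⟨g, Q, hQ, fun a ha => ⟨(hg a ha).1, by rw [(hg a ha).2, e _ (hQ.th_mem ha)]⟩⟩

theorem Fus.mono (h : σ.Fus P f) (hP : P' ≤ P) : σ.Fus P' f := by
  obtain ⟨g, Q, hQ, hg⟩ := h
  exact ⟨g, _, hQ.restrict hP, fun a ha => hg a ha.1⟩

theorem Fus.map_mul (h : σ.Fus P f) {x y : W ι} (hx : x ∈ P) (hy : y ∈ P) :
    f (x * y) = f x * f y := by
  obtain ⟨g, Q, hQ, hg⟩ := h
  obtain ⟨a, ha, rfl⟩ := hQ.onto x hx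
  obtain ⟨b, hb, rfl⟩ := hQ.onto y hy
  rw [← σ.th_mul _ (hQ.leH ha) _ (hQ.leH hb), ← (hg _ (mul_mem ha hb)).2, ← (hg _ ha).2,
    ← (hg _ hb).2, ← σ.th_mul _ (hg _ ha).1 _ (hg _ hb).1]
  congr 1
  group

theorem Fus.map_one (h : σ.Fus P f) : f 1 = 1 := by
  simpa using h.map_mul (one_mem P) (one_mem P)

theorem Fus.map_inv (h : σ.Fus P f) {x : W ι} (hx : x ∈ P) : f x⁻¹ = (f x)⁻¹ := by
  refine eq_inv_of_mul_eq_one_left ?_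
  rw [← h.map_mul (inv_mem hx) hx, inv_mul_cancel, h.map_one]

theorem Fus.inj (h : σ.Fus P f) {x y : W ι} (hx : x ∈ P) (hy : y ∈ P) (e : f x = f y) : x = y := by
  obtain ⟨g, Q, hQ, hg⟩ := h
  obtain ⟨a, ha, rfl⟩ := hQ.onto x hx
  obtain ⟨b, hb, rfl⟩ := hQ.onto y hy
  rw [← (hg _ ha).2, ← (hg _ hb).2] at e
  have h2 : IsPGroup 2 ↥(Q.map (MulAut.conj g).toMonoidHom) := hQ.two.map _
  have h3 : Q.map (MulAut.conj g).toMonoidHom ≤ σ.H := by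
    rintro _ ⟨c, hc, rfl⟩
    exact (hg c hc).1
  have := σ.th_injOn h2 h3 ⟨a, ha, rfl⟩ ⟨b, hb, rfl⟩ (by simpa using e)
  rw [show a = b by simpa using this]

/-- The image of `P`. -/
def Fus.image (h : σ.Fus P f) : Subgroup (W ι) where
  carrier := {w | ∃ x ∈ P, f x = w}
  one_mem' := ⟨1, one_mem P, h.map_one⟩
  mul_mem' := by
    rintro _ _ ⟨x, hx, rfl⟩ ⟨y, hy, rfl⟩
    exact ⟨x * y, mul_mem hx hy, h.map_mul hx hy⟩
  inv_mem' := by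
    rintro _ ⟨x, hx, rfl⟩
    exact ⟨x⁻¹, inv_mem hx, h.map_inv hx⟩

theorem Fus.mem_image (h : σ.Fus P f) {w : W ι} : w ∈ h.image ↔ ∃ x ∈ P, f x = w := Iff.rfl

theorem Fus.comp {R : Subgroup (W ι)} (h : σ.Fus P f) (h' : σ.Fus R f')
    (hle : ∀ w ∈ P, f w ∈ R) : σ.Fus P (f' ∘ f) := by
  obtain ⟨g, Q, hQ, hg⟩ := h
  obtain ⟨g', Q', hQ', hg'⟩ := h'
  have h2 : IsPGroup 2 ↥(Q.map (MulAut.conj g).toMonoidHom) := hQ.two.map _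
  have h3 : Q.map (MulAut.conj g).toMonoidHom ≤ σ.pre R := by
    rintro _ ⟨c, hc, rfl⟩
    refine ⟨(hg c hc).1, ?_⟩
    show σ.th (g * c * g⁻¹) ∈ R
    rw [(hg c hc).2]
    exact hle _ (hQ.th_mem hc)
  obtain ⟨c, hcH, hc1, hc⟩ := σ.exists_ker_conj hQ' h3 h2
  refine ⟨g' * c * g, Q, hQ, fun a ha => ?_⟩
  have hca : c * (g * a * g⁻¹) * c⁻¹ ∈ Q' := hc _ ⟨a, ha, rfl⟩
  have e : g' * c * g * a * (g' * c * g)⁻¹ = g' * (c * (g * a * g⁻¹) * c⁻¹) * g'⁻¹ := by group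
  rw [e]
  refine ⟨(hg' _ hca).1, ?_⟩
  rw [(hg' _ hca).2, σ.th_conj hcH (hg a ha).1, hc1, (hg a ha).2]
  simp

theorem Fus.symm (h : σ.Fus P f) : ∃ f', σ.Fus h.image f' ∧ ∀ w ∈ P, f' (f w) = w := by
  have h' := h
  obtain ⟨g, Q, hQ, hg⟩ := h'
  have hL : σ.IsLift h.image (Q.map (MulAut.conj g).toMonoidHom) := by
    refine ⟨?_, hQ.two.map _, ?_⟩
    · rintro _ ⟨c, hc, rfl⟩
      exact ⟨(hg c hc).1, σ.th c, hQ.th_mem hc, ((hg c hc).2).symm⟩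
    · rintro _ ⟨x, hx, rfl⟩
      obtain ⟨a, ha, rfl⟩ := hQ.onto x hx
      exact ⟨_, ⟨a, ha, rfl⟩, (hg a ha).2⟩
  obtain ⟨f₁, hf₁, hf₁'⟩ := σ.exists_fus hL g⁻¹ (by
    rintro _ ⟨c, hc, rfl⟩
    simpa [mul_assoc] using hQ.leH hc)
  refine ⟨f₁, hf₁, fun w hw => ?_⟩
  obtain ⟨a, ha, rfl⟩ := hQ.onto w hw
  rw [← (hg a ha).2]
  refine (hf₁' _ ⟨a, ha, rfl⟩).trans ?_
  congr 1
  show g⁻¹ * (g * a * g⁻¹) * g⁻¹⁻¹ = a
  group

theorem fus_conj (hP : IsPGroup 2 ↥P) (ω : W ι) : σ.Fus P (fun w => ω * w * ω⁻¹) := by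
  obtain ⟨Q, hQ⟩ := σ.exists_isLift' hP
  obtain ⟨g, hg, rfl⟩ := σ.th_surj ω
  exact ⟨g, Q, hQ, fun a ha =>
    ⟨mul_mem (mul_mem hg (hQ.leH ha)) (inv_mem hg), σ.th_conj hg (hQ.leH ha)⟩⟩

theorem eq_t {a : G} (ha : a ∈ σ.H) (hth : σ.th a = W.cst) (k : ℕ) (hk : a ^ 2 ^ k = 1) :
    a = σ.t := by
  have ht2 : σ.t * σ.t = 1 := by rw [← pow_two, ← σ.t_ord, pow_orderOf_eq_one]
  have h1 : a * σ.t = 1 := by
    refine σ.ker_two (k + 1) _ (mul_mem ha σ.t_mem) ?_ ?_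
    · rw [σ.th_mul _ ha _ σ.t_mem, hth, σ.th_t, ← σ.th_t, ← σ.th_mul _ σ.t_mem _ σ.t_mem, ht2,
        σ.th_one]
    · have hc : Commute a σ.t := (σ.mem_H.mp ha).symm
      rw [hc.mul_pow, pow_succ, pow_mul, hk, one_pow, one_mul, ← pow_succ, pow_succ',
        pow_mul, pow_two σ.t, ht2, one_pow]
  rw [mul_eq_one_iff_eq_inv.mp h1, inv_eq_of_mul_eq_one_left ht2]

theorem Fus.eq_conj (h : σ.Fus P f) (hc : W.cst ∈ P) (e : f W.cst = W.cst) :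
    ∃ ω, ∀ w ∈ P, f w = ω * w * ω⁻¹ := by
  obtain ⟨g, Q, hQ, hg⟩ := h
  obtain ⟨a, ha, hac⟩ := hQ.onto _ hc
  obtain ⟨k, hk⟩ := exists_pow_eq_one hQ.two ha
  have hat : a = σ.t := eq_t (hQ.leH ha) hac k hk
  have hgt : g * a * g⁻¹ = σ.t :=
    eq_t (hg a ha).1 (by rw [(hg a ha).2, hac, e]) k (by rw [conj_pow, hk, mul_one, mul_inv_cancel])
  have hgH : g ∈ σ.H := by
    rw [σ.mem_H]
    rw [hat] at hgt
    exact (mul_inv_eq_iff_eq_mul.mp hgt).symm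
  refine ⟨σ.th g, fun w hw => ?_⟩
  obtain ⟨b, hb, rfl⟩ := hQ.onto w hw
  rw [← (hg b hb).2, σ.th_conj hgH (hQ.leH hb)]

theorem Fus.extend (h : σ.Fus P f) (hP' : IsPGroup 2 ↥P') (hle : P ≤ P') {z : W ι} (hz : z ∈ P)
    (hfz : f z = W.cst) (hcz : ∀ q ∈ P', Commute q z) :
    ∃ f', σ.Fus P' f' ∧ ∀ w ∈ P, f' w = f w := by
  obtain ⟨g, Q, hQ, hg⟩ := h
  obtain ⟨Q', hQ', hQQ'⟩ := σ.exists_isLift hP'
    (fun x hx => ⟨hQ.leH hx, hle (hQ.th_mem hx)⟩) hQ.two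
  obtain ⟨a, ha, rfl⟩ := hQ.onto z hz
  obtain ⟨k, hk⟩ := exists_pow_eq_one hQ.two ha
  have hgt : g * a * g⁻¹ = σ.t :=
    eq_t (hg a ha).1 (by rw [(hg a ha).2, hfz]) k (by rw [conj_pow, hk, mul_one, mul_inv_cancel])
  obtain ⟨f', hf', hf''⟩ := σ.exists_fus hQ' g (fun q hq => by
    have hc := hQ'.comm hq (hQQ' ha) (hcz _ (hQ'.th_mem hq))
    rw [σ.mem_H, ← hgt]
    have e1 : g * a * g⁻¹ * (g * q * g⁻¹) = g * (a * q) * g⁻¹ := by group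
    have e2 : g * q * g⁻¹ * (g * a * g⁻¹) = g * (q * a) * g⁻¹ := by group
    rw [e1, e2, hc])
  refine ⟨f', hf', fun w hw => ?_⟩
  obtain ⟨b, hb, rfl⟩ := hQ.onto w hw
  rw [hf'' b (hQQ' hb), (hg b hb).2]

theorem isPGroup_zpowers {G' : Type*} [Group G'] {x : G'} (hx : x * x = 1) :
    IsPGroup 2 ↥(zpowers x) := by
  refine isPGroup_iff_pow_pow_eq_one.mpr fun y => ⟨1, ?_⟩
  obtain ⟨y, n, rfl⟩ := y
  apply Subtype.ext
  show (x ^ n) ^ 2 ^ 1 = 1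
  rw [pow_one, ← zpow_natCast, ← zpow_mul, mul_comm, zpow_mul]
  simp [pow_two, hx]

/-- Involutions with conjugate lifts. -/
def R (σ : Setup ι G) (x y : W ι) : Prop :=
  ∃ X ∈ σ.H, ∃ Y ∈ σ.H, X * X = 1 ∧ Y * Y = 1 ∧ σ.th X = x ∧ σ.th Y = y ∧ IsConj X Y

theorem R.symm {x y : W ι} : σ.R x y → σ.R y x := by
  rintro ⟨X, hX, Y, hY, a, b, c, d, e⟩
  exact ⟨Y, hY, X, hX, b, a, d, c, e.symm⟩

theorem R.sq {x y : W ι} : σ.R x y → x * x = 1 ∧ y * y = 1 := by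
  rintro ⟨X, hX, Y, hY, a, b, rfl, rfl, -⟩
  rw [← σ.th_mul _ hX _ hX, a, ← σ.th_mul _ hY _ hY, b, σ.th_one]
  exact ⟨rfl, rfl⟩

theorem isConj_of_th {X X' : G} (hX : X ∈ σ.H) (hX' : X' ∈ σ.H) (a : X * X = 1) (a' : X' * X' = 1)
    (h : σ.th X = σ.th X') : IsConj X X' := by
  have hle : ∀ {Y : G}, Y ∈ σ.H → σ.th Y = σ.th X → zpowers Y ≤ σ.pre (zpowers (σ.th X)) := by
    intro Y hY hth
    rw [zpowers_le]
    exact ⟨hY, hth ▸ mem_zpowers _⟩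
  have hx : σ.th X * σ.th X = 1 := by rw [← σ.th_mul _ hX _ hX, a, σ.th_one]
  obtain ⟨Q, hQ, hle'⟩ :=
    σ.exists_isLift (isPGroup_zpowers hx) (hle hX' h.symm) (isPGroup_zpowers a')
  obtain ⟨c, hcH, hc1, hc⟩ := σ.exists_ker_conj hQ (hle hX rfl) (isPGroup_zpowers a)
  refine isConj_iff.mpr ⟨c, hQ.inj (hc X (mem_zpowers X)) (hle' (mem_zpowers X')) ?_⟩
  rw [σ.th_conj hcH hX, hc1, h]
  simp

theorem R.trans {x y z : W ι} : σ.R x y → σ.R y z → σ.R x z := by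
  rintro ⟨X, hX, Y, hY, a, b, c, d, e⟩ ⟨Y', hY', Z, hZ, b', f, d', g, e'⟩
  exact ⟨X, hX, Z, hZ, a, f, c, g,
    e.trans ((isConj_of_th hY hY' b b' (d.trans d'.symm)).trans e')⟩

theorem exists_invol {x : W ι} (hx : x * x = 1) : ∃ X ∈ σ.H, X * X = 1 ∧ σ.th X = x := by
  obtain ⟨Q, hQ⟩ := σ.exists_isLift' (isPGroup_zpowers hx)
  obtain ⟨a, ha, hax⟩ := hQ.onto x (mem_zpowers x)
  refine ⟨a, hQ.leH ha, hQ.inj (mul_mem ha ha) (one_mem _) ?_, hax⟩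
  rw [σ.th_mul _ (hQ.leH ha) _ (hQ.leH ha), hax, hx, σ.th_one]

theorem R.refl {x : W ι} (hx : x * x = 1) : σ.R x x := by
  obtain ⟨X, hX, a, b⟩ := exists_invol (σ := σ) hx
  exact ⟨X, hX, X, hX, a, a, b, b, IsConj.refl X⟩

theorem Fus.rel (h : σ.Fus P f) {x : W ι} (hx : x ∈ P) (hx2 : x * x = 1) : σ.R x (f x) := by
  obtain ⟨g, Q, hQ, hg⟩ := h
  obtain ⟨a, ha, rfl⟩ := hQ.onto x hx
  have h2 : a * a = 1 := hQ.inj (mul_mem ha ha) (one_mem _) (by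
    rw [σ.th_mul _ (hQ.leH ha) _ (hQ.leH ha), hx2, σ.th_one])
  refine ⟨a, hQ.leH ha, g * a * g⁻¹, (hg a ha).1, h2, ?_, rfl, (hg a ha).2, isConj_iff.mpr ⟨g, rfl⟩⟩
  rw [show g * a * g⁻¹ * (g * a * g⁻¹) = g * (a * a) * g⁻¹ by group, h2]
  group

theorem exists_conj_le (Q : Subgroup G) (hQ : IsPGroup 2 ↥Q) (hQH : Q ≤ σ.H) :
    ∃ h ∈ σ.H, ∀ q ∈ Q, h * q * h⁻¹ ∈ (σ.S : Subgroup G) := by
  haveI : Fact (Nat.Prime 2) := ⟨Nat.prime_two⟩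
  obtain ⟨T, hT⟩ := (hQ.comap_subtype (K := σ.H)).exists_le_sylow
  obtain ⟨k, hk⟩ := MulAction.exists_smul_eq ↥σ.H T (σ.S.subtype σ.S_le)
  refine ⟨k, k.2, fun q hq => ?_⟩
  have h1 : k * ⟨q, hQH hq⟩ * k⁻¹ ∈ k • T := ⟨⟨q, hQH hq⟩, hT hq, rfl⟩
  rw [hk] at h1
  exact h1

theorem R.fus {x : W ι} (h : σ.R x W.cst) (hP : IsPGroup 2 ↥P) (hx : x ∈ P)
    (hc : ∀ p ∈ P, Commute p x) : ∃ f, σ.Fus P f ∧ f x = W.cst := by
  obtain ⟨X, hX, Y, hY, a, b, rfl, hy, hconj⟩ := h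
  obtain ⟨g, hg⟩ := isConj_iff.mp hconj
  have hYt : Y = σ.t := eq_t hY hy 1 (by rw [pow_one, pow_two, b])
  obtain ⟨Q, hQ, hle⟩ := σ.exists_isLift hP (Q₀ := zpowers X)
    (by rw [zpowers_le]; exact ⟨hX, hx⟩) (isPGroup_zpowers a)
  obtain ⟨f, hf, hf'⟩ := σ.exists_fus hQ g (fun q hq => by
    have hcom := hQ.comm hq (hle (mem_zpowers X)) (hc _ (hQ.th_mem hq))
    rw [σ.mem_H, ← hYt, ← hg]
    have e1 : g * X * g⁻¹ * (g * q * g⁻¹) = g * (X * q) * g⁻¹ := by group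
    have e2 : g * q * g⁻¹ * (g * X * g⁻¹) = g * (q * X) * g⁻¹ := by group
    rw [e1, e2, hcom])
  exact ⟨f, hf, by rw [hf' X (hle (mem_zpowers X)), hg, hYt, σ.th_t]⟩

/-- Conjugate involutions are joined inside the fusion of their abelian neighbourhoods. -/
theorem R.weak {x y : W ι} {P₁ P₂ : Subgroup (W ι)} (h : σ.R x y) (h1 : IsPGroup 2 ↥P₁)
    (h2 : IsPGroup 2 ↥P₂) (hx : x ∈ P₁) (hy : y ∈ P₂) (hcx : ∀ p ∈ P₁, Commute p x)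
    (hcy : ∀ p ∈ P₂, Commute p y) :
    ∃ f₁ f₂, σ.Fus P₁ f₁ ∧ σ.Fus P₂ f₂ ∧ f₁ x = f₂ y := by
  haveI : Fact (Nat.Prime 2) := ⟨Nat.prime_two⟩
  obtain ⟨X, hX, Y, hY, a, b, rfl, rfl, hconj⟩ := h
  obtain ⟨g, hg⟩ := isConj_iff.mp hconj
  obtain ⟨Q₁, hQ₁, hle₁⟩ := σ.exists_isLift h1 (Q₀ := zpowers X)
    (by rw [zpowers_le]; exact ⟨hX, hx⟩) (isPGroup_zpowers a)
  obtain ⟨Q₂, hQ₂, hle₂⟩ := σ.exists_isLift h2 (Q₀ := zpowers Y)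
    (by rw [zpowers_le]; exact ⟨hY, hy⟩) (isPGroup_zpowers b)
  have hB₁ : Q₁.map (MulAut.conj g).toMonoidHom ≤ centralizer ({Y} : Set G) := by
    rintro _ ⟨q, hq, rfl⟩
    rw [mem_centralizer_singleton_iff]
    show g * q * g⁻¹ * Y = Y * (g * q * g⁻¹)
    have hcom := hQ₁.comm hq (hle₁ (mem_zpowers X)) (hcx _ (hQ₁.th_mem hq))
    have e1 : g * X * g⁻¹ * (g * q * g⁻¹) = g * (X * q) * g⁻¹ := by group
    have e2 : g * q * g⁻¹ * (g * X * g⁻¹) = g * (q * X) * g⁻¹ := by group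
    rw [← hg, e1, e2, hcom]
  have hB₂ : Q₂ ≤ centralizer ({Y} : Set G) := by
    intro q hq
    rw [mem_centralizer_singleton_iff]
    exact hQ₂.comm hq (hle₂ (mem_zpowers Y)) (hcy _ (hQ₂.th_mem hq))
  obtain ⟨R₁, hR₁⟩ := ((hQ₁.two.map (MulAut.conj g).toMonoidHom).comap_subtype
    (K := centralizer ({Y} : Set G))).exists_le_sylow
  obtain ⟨R₂, hR₂⟩ := (hQ₂.two.comap_subtype (K := centralizer ({Y} : Set G))).exists_le_sylow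
  obtain ⟨k, hk⟩ := MulAction.exists_smul_eq ↥(centralizer ({Y} : Set G)) R₁ R₂
  obtain ⟨U, hU⟩ := (R₂.2.map (centralizer ({Y} : Set G)).subtype).exists_le_sylow
  obtain ⟨u, hu⟩ := MulAction.exists_smul_eq G U σ.S
  have into : ∀ r : ↥(centralizer ({Y} : Set G)), r ∈ R₂ → u * r * u⁻¹ ∈ σ.H := by
    intro r hr
    apply σ.S_le
    rw [← hu]
    exact ⟨r, hU ⟨r, hr, rfl⟩, rfl⟩
  obtain ⟨f₁, hf₁, hf₁'⟩ := σ.exists_fus hQ₁ (u * k * g) (fun q hq => by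
    have h3 : k * ⟨g * q * g⁻¹, hB₁ ⟨q, hq, rfl⟩⟩ * k⁻¹ ∈ R₂ := by
      rw [← hk]
      exact ⟨⟨g * q * g⁻¹, hB₁ ⟨q, hq, rfl⟩⟩, hR₁ ⟨q, hq, rfl⟩, rfl⟩
    have := into _ h3
    simpa [mul_assoc] using this)
  obtain ⟨f₂, hf₂, hf₂'⟩ := σ.exists_fus hQ₂ u (fun q hq => into ⟨q, hB₂ hq⟩ (hR₂ hq))
  refine ⟨f₁, f₂, hf₁, hf₂, ?_⟩
  rw [hf₁' X (hle₁ (mem_zpowers X)), hf₂' Y (hle₂ (mem_zpowers Y))]
  congr 1
  have hkY : (k : G) * Y = Y * k := mem_centralizer_singleton_iff.mp k.2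
  have e : u * k * g * X * (u * k * g)⁻¹ = u * ((k : G) * (g * X * g⁻¹) * (k : G)⁻¹) * u⁻¹ := by
    group
  rw [e, hg, hkY]
  group

/-- Transfer. -/
theorem transfer {A : Subgroup (W ι)} (hA : IsPGroup 2 ↥A) {w : W ι} (hw : w ∈ A)
    (hw2 : w * w = 1) (hc : ∀ p ∈ A, Commute p w) (χ : W ι →* Multiplicative (ZMod 2))
    (hχ : χ w ≠ 1) : ∃ f, σ.Fus A f ∧ χ (f w) = 1 := by
  obtain ⟨Q, hQ⟩ := σ.exists_isLift' hA
  obtain ⟨a, ha, rfl⟩ := hQ.onto w hw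
  obtain ⟨h, hh, hhS⟩ := exists_conj_le (σ := σ) Q hQ.two hQ.leH
  let φ : ↥(σ.S : Subgroup G) →* Multiplicative (ZMod 2) :=
    (χ.comp σ.thHom).comp (Subgroup.inclusion σ.S_le)
  have hφ : ∀ (z : G) (hz : z ∈ (σ.S : Subgroup G)), φ ⟨z, hz⟩ = χ (σ.th z) := fun z hz => rfl
  have hconj : χ (σ.th (h * a * h⁻¹)) = χ (σ.th a) := by
    rw [σ.th_conj hh (hQ.leH ha), _root_.map_mul, _root_.map_mul, _root_.map_inv,
      mul_comm (χ (σ.th h)), mul_inv_cancel_right]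
  have haa : a * a = 1 := hQ.inj (mul_mem ha ha) (one_mem _) (by
    rw [σ.th_mul _ (hQ.leH ha) _ (hQ.leH ha), hw2, σ.th_one])
  have hne : h * a * h⁻¹ ≠ 1 := by
    intro e
    refine hχ ?_
    rw [← hconj, e, σ.th_one, _root_.map_one]
  haveI : Fact (Nat.Prime 2) := ⟨Nat.prime_two⟩
  have hord : orderOf (h * a * h⁻¹) = 2 := orderOf_eq_prime (by
    rw [pow_two, show h * a * h⁻¹ * (h * a * h⁻¹) = h * (a * a) * h⁻¹ by group, haa]; group) hne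
  obtain ⟨g, hgK, hgS, hg1⟩ := Cfsg.Agent.S1853.exists_conj_mem σ.S φ σ.no_hom (h * a * h⁻¹) hord
    (hhS a ha) (by rw [hφ, hconj]; exact hχ) (Q.map (MulAut.conj h).toMonoidHom) (hQ.two.map _)
    ⟨a, ha, rfl⟩ (by
      rintro _ ⟨q, hq, rfl⟩
      rw [mem_centralizer_singleton_iff]
      show h * q * h⁻¹ * (h * a * h⁻¹) = h * a * h⁻¹ * (h * q * h⁻¹)
      have hcom := hQ.comm hq ha (hc _ (hQ.th_mem hq))
      have e1 : h * a * h⁻¹ * (h * q * h⁻¹) = h * (a * q) * h⁻¹ := by group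
      have e2 : h * q * h⁻¹ * (h * a * h⁻¹) = h * (q * a) * h⁻¹ := by group
      rw [e1, e2, hcom])
  have hassoc : ∀ q : G, g⁻¹ * h * q * (g⁻¹ * h)⁻¹ = g⁻¹ * (h * q * h⁻¹) * g := fun q => by group
  obtain ⟨f, hf, hf'⟩ := σ.exists_fus hQ (g⁻¹ * h) (fun q hq => by
    rw [hassoc]; exact σ.S_le (hgK _ ⟨q, hq, rfl⟩))
  refine ⟨f, hf, ?_⟩
  rw [hf' a ha, hassoc]
  rwa [hφ] at hg1

/-- Changing the map by an automorphism of the image. -/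
def twist (σ : Setup ι G) (α : W ι ≃* W ι) (hα : α W.cst = W.cst) : Setup ι G where
  t := σ.t
  S := σ.S
  th x := α (σ.th x)
  t_ord := σ.t_ord
  S_le := σ.S_le
  th_mul x hx y hy := by rw [σ.th_mul x hx y hy, map_mul]
  th_surj w := by
    obtain ⟨x, hx, h⟩ := σ.th_surj (α.symm w)
    exact ⟨x, hx, by simp [h]⟩
  th_ker x hx h h2 := σ.th_ker x hx (by simpa using h) h2
  th_t := by rw [σ.th_t, hα]
  no_hom := σ.no_hom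

theorem R.twist {α : W ι ≃* W ι} {hα : α W.cst = W.cst} {x y : W ι} (h : σ.R x y) :
    (σ.twist α hα).R (α x) (α y) := by
  obtain ⟨X, hX, Y, hY, a, b, rfl, rfl, e⟩ := h
  exact ⟨X, hX, Y, hY, a, b, rfl, rfl, e⟩

end Setup

end Cfsg.Agent.H67.Kondo
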