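import Cfsg.Agent.H67.Kondo.Chart

/-!
Vectors, characters and the automorphisms of the signed permutation group fixing the central
element.
-/

set_option autoImplicit false
set_option linter.unusedSectionVars false
set_option linter.unusedSimpArgs false

namespace Cfsg.Agent.H67.Kondo

open Equiv

variable {ι : Type*} [Fintype ι] [DecidableEq ι]

/-- The unit vector. -/
def e (a : ι) : ι → ZMod 2 := ind {a}

theorem e_apply (a i : ι) : e a i = if i = a then 1 else 0 := by simp [e]

@[simp] theorem e_self (a : ι) : e a a = 1 := by simp [e_apply]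

theorem e_ne {a i : ι} (h : i ≠ a) : e a i = 0 := by simp [e_apply, h]

theorem e_injective : Function.Injective (e : ι → ι → ZMod 2) := fun _ _ h =>
  Finset.singleton_injective (ind_injective h)

theorem wt_e (a : ι) : wt (e a) = 1 := by simp [e, wt_ind]

theorem eq_e_of_wt {v : ι → ZMod 2} (h : wt v = 1) : ∃ a, v = e a := by
  obtain ⟨a, ha⟩ := Finset.card_eq_one.mp h
  exact ⟨a, by rw [← ind_supp v, supp, ha]; rfl⟩

theorem eq_one_add_e {v : ι → ZMod 2} (h : wt v + 1 = Fintype.card ι) : ∃ a, v = 1 + e a := by
  have := wt_add_one v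
  obtain ⟨a, ha⟩ := eq_e_of_wt (v := 1 + v) (by omega)
  exact ⟨a, by rw [← ha, ← add_assoc, Chart.vec_add_self, zero_add]⟩

theorem wt_one_add_e (a : ι) : wt (1 + e a) + 1 = Fintype.card ι := by
  have := wt_add_one (e a)
  rwa [wt_e] at this

theorem sum_ind_singleton (s : Finset ι) : ∑ i ∈ s, e i = ind s := by
  funext k
  simp [e, Finset.sum_apply]

theorem eq_sum_e (v : ι → ZMod 2) : v = ∑ i ∈ supp v, e i := by rw [sum_ind_singleton, ind_supp]

theorem wt_add_le (v w : ι → ZMod 2) : wt (v + w) ≤ wt v + wt w := by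
  rw [wt_eq_card_supp, wt_eq_card_supp, wt_eq_card_supp]
  refine (Finset.card_le_card ?_).trans (Finset.card_union_le _ _)
  intro i hi
  simp only [supp, Finset.mem_filter, Finset.mem_univ, true_and, Pi.add_apply, Finset.mem_union] at hi ⊢
  rcases zmod2_cases (v i) with h | h
  · exact Or.inr (by simpa [h] using hi)
  · exact Or.inl h

theorem sum_e (a : ι) : ∑ i, e a i = 1 := by simp [e_apply]

theorem swap_two (i j : ι) (v : ι → ZMod 2) :
    (fun k => v (swap i j k)) = v ∨ (fun k => v (swap i j k)) = v + ind {i, j} := by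
  by_cases h : v i = v j
  · left
    funext k
    by_cases hi : k = i
    · subst hi; simp [h]
    · by_cases hj : k = j
      · subst hj; simp [h]
      · simp [swap_apply_of_ne_of_ne hi hj]
  · right
    have h1 : v i + v j = 1 := by
      revert h
      generalize v i = x, v j = y
      decide +revert
    funext k
    by_cases hi : k = i
    · subst hi
      simp only [swap_apply_left, Pi.add_apply, ind_apply, Finset.mem_insert, true_or, if_true]
      rw [← h1, ← add_assoc, CharTwo.add_self_eq_zero, zero_add]
    · by_cases hj : k = j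
      · subst hj
        simp only [swap_apply_right, Pi.add_apply, ind_apply, Finset.mem_insert,
          Finset.mem_singleton, or_true, if_true]
        rw [← h1, add_comm (v i), ← add_assoc, CharTwo.add_self_eq_zero, zero_add]
      · simp [swap_apply_of_ne_of_ne hi hj, hi, hj]

/-- The sum of the signs. -/
def chiV : W ι →* Multiplicative (ZMod 2) :=
  MonoidHom.mk' (fun w => Multiplicative.ofAdd (∑ i, w.v i)) fun a b => by
    rw [← ofAdd_add]
    congr 1
    simp only [W.mul_v, Finset.sum_add_distrib]
    congr 1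
    exact Equiv.sum_comp a.p.symm b.v

theorem chiV_base (v : ι → ZMod 2) : chiV (W.base v) = Multiplicative.ofAdd (∑ i, v i) := rfl

/-- The parity of the permutation. -/
def chiP : W ι →* Multiplicative (ZMod 2) :=
  ((MonoidHom.mk' (fun u : ℤˣ => if u = 1 then 1 else Multiplicative.ofAdd (1 : ZMod 2))
    (by decide)).comp Equiv.Perm.sign).comp W.proj

theorem chiP_base (v : ι → ZMod 2) : chiP (W.base v) = 1 := by simp [chiP]

theorem chiP_swap {a b : ι} (hab : a ≠ b) (w : W ι) (h : w.p = swap a b) : chiP w ≠ 1 := by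
  simp [chiP, h, Perm.sign_swap hab]

theorem chi_conj (χ : W ι →* Multiplicative (ZMod 2)) (ω x : W ι) : χ (ω * x * ω⁻¹) = χ x := by
  rw [map_mul, map_mul, map_inv, mul_comm (χ ω), mul_inv_cancel_right]

/-- Multiplication by the central element according to a character. -/
def twistHom (χ : W ι →* Multiplicative (ZMod 2)) : W ι →* W ι :=
  MonoidHom.mk' (fun w => W.base (fun _ => Multiplicative.toAdd (χ w)) * w) fun a b => by
    have hc : Commute a (W.base fun _ => Multiplicative.toAdd (χ b)) := by
      rw [W.commute_iff]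
      simp [add_comm]
    rw [map_mul, toAdd_mul,
      show (fun _ : ι => Multiplicative.toAdd (χ a) + Multiplicative.toAdd (χ b)) =
        (fun _ => Multiplicative.toAdd (χ a)) + fun _ => Multiplicative.toAdd (χ b) from rfl,
      W.base_add]
    simp only [mul_assoc]
    rw [← mul_assoc (W.base fun _ => Multiplicative.toAdd (χ b)) a, ← hc.eq, mul_assoc]

theorem twistHom_twistHom (χ : W ι →* Multiplicative (ZMod 2)) (hχ : χ W.cst = 1) (w : W ι) :
    twistHom χ (twistHom χ w) = w := by
  have h : ∀ c : ZMod 2, χ (W.base fun _ => c) = 1 := fun c => by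
    rcases zmod2_cases c with rfl | rfl
    · exact map_one χ
    · exact hχ
  show W.base (fun _ => Multiplicative.toAdd (χ (W.base (fun _ => Multiplicative.toAdd (χ w)) * w))) *
    (W.base (fun _ => Multiplicative.toAdd (χ w)) * w) = w
  rw [map_mul, h, one_mul, ← mul_assoc, ← W.base_add, Chart.vec_add_self, W.base_zero, one_mul]

/-- The automorphism of a character trivial on the central element. -/
def twistEquiv (χ : W ι →* Multiplicative (ZMod 2)) (hχ : χ W.cst = 1) : W ι ≃* W ι :=
  { twistHom χ with
    invFun := twistHom χ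
    left_inv := twistHom_twistHom χ hχ
    right_inv := twistHom_twistHom χ hχ }

theorem twistEquiv_apply (χ : W ι →* Multiplicative (ZMod 2)) (hχ : χ W.cst = 1) (w : W ι) :
    twistEquiv χ hχ w = W.base (fun _ => Multiplicative.toAdd (χ w)) * w := rfl

theorem twistEquiv_cst (χ : W ι →* Multiplicative (ZMod 2)) (hχ : χ W.cst = 1) :
    twistEquiv χ hχ W.cst = W.cst := by
  rw [twistEquiv_apply, hχ]
  show W.base 0 * _ = _
  rw [W.base_zero, one_mul]

theorem twistEquiv_p (χ : W ι →* Multiplicative (ZMod 2)) (hχ : χ W.cst = 1) (w : W ι) :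
    (twistEquiv χ hχ w).p = w.p := by simp [twistEquiv_apply]

theorem card_cast (hN : Even (Fintype.card ι)) : (Fintype.card ι : ZMod 2) = 0 := by
  obtain ⟨k, hk⟩ := hN
  rw [hk, Nat.cast_add, CharTwo.add_self_eq_zero]

theorem chiV_cst (hN : Even (Fintype.card ι)) : chiV (W.cst : W ι) = 1 := by
  show Multiplicative.ofAdd (∑ _i : ι, (1 : ZMod 2)) = 1
  simp [card_cast hN]

theorem chiP_cst : chiP (W.cst : W ι) = 1 := chiP_base _

/-- Additive maps agreeing on unit vectors are equal. -/
theorem lin_ext {F F' : (ι → ZMod 2) → (ι → ZMod 2)} (hF : ∀ v w, F (v + w) = F v + F w)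
    (hF' : ∀ v w, F' (v + w) = F' v + F' w) (h : ∀ i, F (e i) = F' (e i)) (v : ι → ZMod 2) :
    F v = F' v := by
  rw [eq_sum_e v]
  show AddMonoidHom.mk' F hF _ = AddMonoidHom.mk' F' hF' _
  rw [map_sum, map_sum]
  exact Finset.sum_congr rfl fun i _ => h i

end Cfsg.Agent.H67.Kondo
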