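import Cfsg.Agent.H67.Kondo.Vectors

/-!
The fusion on the base subgroup.
-/

set_option autoImplicit false
set_option linter.unusedSectionVars false
set_option linter.unusedSimpArgs false

namespace Cfsg.Agent.H67.Kondo

open Equiv

variable {ι : Type*} [Fintype ι] [DecidableEq ι]

namespace Setup

variable {G : Type*} [Group G] [Finite G] {σ : Setup ι G}

theorem base_mem (v : ι → ZMod 2) : W.base v ∈ (baseC ι).grp := (baseC ι).mem v

theorem perm_gam (π : Perm ι) : σ.Gam (baseC ι) fun v i => v (π.symm i) :=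
  gam_conj (W.perm π) fun v => W.conj_base _ v

theorem T_wt {v w : ι → ZMod 2} (h : σ.T (baseC ι) v) (hw : wt v = wt w) : σ.T (baseC ι) w := by
  obtain ⟨π, hπ⟩ := exists_perm_of_wt hw
  have := ((perm_gam (σ := σ) π).T_iff v).mpr h
  rwa [show (fun i => v (π.symm i)) = w from funext hπ] at this

theorem one_ne_zero_of (hN4 : 2 ≤ Fintype.card ι) : (1 : ι → ZMod 2) ≠ 0 := by
  intro h
  have := congrArg wt h
  rw [wt_one, wt_zero] at this
  omega

/-- Pairs on one side of the support go to pairs. -/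
theorem pair_image {f : W ι → W ι} (hf : σ.Fus (baseC ι).grp f) {K : Finset ι}
    (hx : f (W.base (ind K)) = W.cst) {i j : ι} (hij : i ≠ j) (h : i ∈ K ↔ j ∈ K) :
    ∃ i' j', i' ≠ j' ∧ f (W.base (ind {i, j})) = W.base (ind {i', j'}) := by
  obtain ⟨ν, hν2, hν⟩ := exists_image hf
  have hfixK : (fun k => ind K ((swap i j).symm k)) = ind K := by
    funext k
    simp only [Equiv.symm_swap, ind_apply]
    by_cases hi : k = i
    · subst hi; simp [h]
    · by_cases hj : k = j
      · subst hj; simp [h]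
      · simp [swap_apply_of_ne_of_ne hi hj]
  have hmoved : (fun k => e i ((swap i j).symm k)) ≠ e i := by
    intro he
    have := congrFun he i
    simp [e_apply, hij.symm] at this
  obtain ⟨i', j', h1, h2, -⟩ := centre_pair hf hν2 hν (K := baseC ι) (x := ind K) (c := ind {i, j})
    hx (perm_gam (swap i j)) hfixK (fun v => by simpa using swap_two i j v) ⟨e i, hmoved⟩
  exact ⟨i', j', h1, h2⟩

theorem even_image {f : W ι → W ι} (hf : σ.Fus (baseC ι).grp f) {K : Finset ι}
    (hx : f (W.base (ind K)) = W.cst) :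
    ∀ s : Finset ι, s ⊆ K → Even s.card →
      ∃ w, f (W.base (ind s)) = W.base w ∧ wt w ≤ s.card := by
  intro s
  induction s using Finset.strongInduction with
  | _ s ih =>
    intro hs hev
    rcases s.eq_empty_or_nonempty with rfl | ⟨i, hi⟩
    · exact ⟨0, by simp [W.base_zero, hf.map_one], by simp [wt_zero]⟩
    obtain ⟨j, hj, hji⟩ : ∃ j ∈ s, j ≠ i := by
      by_contra h
      push Not at h
      have : s = {i} := Finset.eq_singleton_iff_unique_mem.mpr ⟨hi, h⟩
      rw [this] at hev
      simp at hev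
    have hij : {i, j} ⊆ s := by simp [Finset.insert_subset_iff, hi, hj]
    have hc : (s \ {i, j}).card = s.card - 2 := by
      rw [Finset.card_sdiff_of_subset hij, Finset.card_pair hji.symm]
    have h2 : 2 ≤ s.card := by rw [← Finset.card_pair hji.symm]; exact Finset.card_le_card hij
    obtain ⟨w, hw, hwt⟩ := ih (s \ {i, j})
      (Finset.sdiff_ssubset hij ⟨i, by simp⟩) (Finset.sdiff_subset.trans hs)
      (by rw [hc]; exact (Nat.even_sub h2).mpr (iff_of_true hev (by norm_num)))
    obtain ⟨i', j', hij', h'⟩ := pair_image hf hx hji.symm (iff_of_true (hs hi) (hs hj))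
    refine ⟨w + ind {i', j'}, ?_, ?_⟩
    · rw [W.base_add, ← hw, ← h', ← hf.map_mul (base_mem _) (base_mem _)]
      rw [← W.base_add, ← ind_union Finset.sdiff_disjoint, Finset.sdiff_union_of_subset hij]
    · refine (wt_add_le _ _).trans ?_
      rw [wt_ind, Finset.card_pair hij']
      omega

theorem no_even_weight {v : ι → ZMod 2} (h : σ.T (baseC ι) v) (h2 : Even (wt v))
    (hk : wt v + 1 ≤ Fintype.card ι) : False := by
  obtain ⟨f, hf, hfv⟩ := h.fus
  obtain ⟨w, hw, hwt⟩ := even_image hf (K := supp v) (by rw [ind_supp]; exact hfv) (supp v) le_rfl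
    (by rwa [← wt_eq_card_supp])
  rw [ind_supp] at hw
  simp only [baseC_φ] at hfv
  rw [hfv] at hw
  rw [← W.base_injective hw, wt_one, ← wt_eq_card_supp] at hwt
  omega

theorem no_odd_weight (hN : Even (Fintype.card ι)) {v : ι → ZMod 2} (h : σ.T (baseC ι) v)
    (h2 : ¬ Even (wt v)) (h3 : 3 ≤ wt v) (hk : wt v + 3 ≤ Fintype.card ι) : False := by
  have hK : 3 ≤ (supp v).card := h3
  have hK' : 3 ≤ (supp v)ᶜ.card := by
    rw [Finset.card_compl, ← wt_eq_card_supp]
    omega
  obtain ⟨p₁, hp₁, p₂, hp₂, hp⟩ := Finset.one_lt_card.mp (by omega : 1 < (supp v).card)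
  obtain ⟨q₁, hq₁, q₂, hq₂, hq⟩ := Finset.one_lt_card.mp (by omega : 1 < (supp v)ᶜ.card)
  rw [Finset.mem_compl] at hq₁ hq₂
  obtain ⟨f, hf, hfv⟩ := h.fus
  have hx : f (W.base (ind (supp v))) = W.cst := by rw [ind_supp]; exact hfv
  obtain ⟨a, b, hab, hp'⟩ := pair_image hf hx hp (iff_of_true hp₁ hp₂)
  obtain ⟨c, d, hcd, hq'⟩ := pair_image hf hx hq (iff_of_false hq₁ hq₂)
  set u : ι → ZMod 2 := v + (ind {p₁, p₂} + ind {q₁, q₂})
  have hne : ∀ x ∈ supp v, x ≠ q₁ ∧ x ≠ q₂ :=
    fun x hx => ⟨fun e => hq₁ (e ▸ hx), fun e => hq₂ (e ▸ hx)⟩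
  have hu : wt u = wt v := by
    have hs : supp u = (supp v \ {p₁, p₂}) ∪ {q₁, q₂} := by
      ext i
      have hv : v i = if i ∈ supp v then 1 else 0 := (congrFun (ind_supp v) i).symm
      simp only [supp, Finset.mem_filter, Finset.mem_univ, true_and, u, Pi.add_apply, ind_apply,
        Finset.mem_union, Finset.mem_sdiff, Finset.mem_insert, Finset.mem_singleton] at hv ⊢
      by_cases h1 : i = p₁ ∨ i = p₂
      · have hi : i ∈ supp v := by rcases h1 with rfl | rfl <;> assumption
        have h2 : ¬(i = q₁ ∨ i = q₂) := not_or.mpr (hne i hi)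
        have hvi : v i = 1 := (Finset.mem_filter.mp hi).2
        simp [h1, h2, hvi, CharTwo.add_self_eq_zero]
      · by_cases h2 : i = q₁ ∨ i = q₂
        · have hi : i ∉ supp v := by rcases h2 with rfl | rfl <;> assumption
          have hvi : v i = 0 := (zmod2_cases _).resolve_right fun e => hi (by simp [supp, e])
          simp [h1, h2, hvi]
        · simp [h1, h2]
    rw [wt_eq_card_supp, hs, Finset.card_union_of_disjoint, Finset.card_sdiff_of_subset,
      Finset.card_pair hp, Finset.card_pair hq, ← wt_eq_card_supp]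
    · omega
    · simp [Finset.insert_subset_iff, hp₁, hp₂]
    · rw [Finset.disjoint_right]
      simp only [Finset.mem_insert, Finset.mem_singleton, Finset.mem_sdiff]
      rintro x (rfl | rfl) ⟨hx, -⟩
      exacts [hq₁ hx, hq₂ hx]
  have hTu := T_wt h hu.symm
  have hfu : f (W.base u) = W.base (1 + (ind {a, b} + ind {c, d})) := by
    rw [W.base_add, W.base_add, W.base_add, W.base_add, ← hp', ← hq',
      show W.base 1 = W.cst from rfl, ← hfv]
    simp only [baseC_φ] at hfv ⊢
    rw [← hf.map_mul (base_mem _) (base_mem _),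
      ← hf.map_mul (base_mem _) ((baseC ι).grp.mul_mem (base_mem _) (base_mem _))]
  set w : ι → ZMod 2 := ind {a, b} + ind {c, d}
  have hw0 : w ≠ 0 := by
    intro e
    rw [e, add_zero, show W.base 1 = W.cst from rfl, ← hfv] at hfu
    have := (baseC ι).inj (hf.inj (base_mem _) (base_mem _) hfu)
    have := congrFun this p₁
    simp [u, hp, (hne p₁ hp₁).1, (hne p₁ hp₁).2] at this
  have hw4 : wt w ≤ 4 := (wt_add_le _ _).trans (by rw [wt_ind, wt_ind, Finset.card_pair hab, Finset.card_pair hcd])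
  have hwe : Even (wt w) := by
    have h1 : (wt w : ZMod 2) = 0 := by
      rw [← sum_eq_wt]
      simp only [w, Pi.add_apply, Finset.sum_add_distrib, sum_eq_wt, wt_ind, Finset.card_pair hab,
        Finset.card_pair hcd]
      rfl
    exact even_iff_two_dvd.mpr ((ZMod.natCast_eq_zero_iff_even).mp h1).two_dvd
  have hwpos : wt w ≠ 0 := fun e => hw0 (wt_eq_zero.mp e)
  have := wt_add_one w
  refine no_even_weight (σ := σ) (v := 1 + w) ?_ ?_ (by omega)
  · have := (hf.rel (base_mem u) ((baseC ι).sq u))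
    rw [hfu] at this
    exact this.symm.trans hTu
  · rcases hwe with ⟨x, hx⟩
    rcases hN with ⟨y, hy⟩
    exact ⟨y - x, by omega⟩

theorem weight_cases (hN : Even (Fintype.card ι)) (hN4 : 4 ≤ Fintype.card ι) {v : ι → ZMod 2}
    (h : σ.T (baseC ι) v) :
    wt v = 1 ∨ wt v + 1 = Fintype.card ι ∨ v = 1 := by
  have h0 : wt v ≠ 0 := fun e => T_ne_zero h (one_ne_zero_of (by omega)) (wt_eq_zero.mp e)
  have hle := wt_le_card v
  by_cases hev : Even (wt v)
  · by_cases hk : wt v = Fintype.card ι
    · exact Or.inr (Or.inr (eq_one_of_wt hk))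
    · exact absurd (no_even_weight h hev (by omega)) not_false
  · by_cases h1 : wt v = 1
    · exact Or.inl h1
    · by_cases h2 : wt v + 1 = Fintype.card ι
      · exact Or.inr (Or.inl h2)
      · refine absurd (no_odd_weight hN h hev ?_ ?_) not_false
        · rcases Nat.not_even_iff_odd.mp hev with ⟨m, hm⟩; omega
        · rcases Nat.not_even_iff_odd.mp hev with ⟨m, hm⟩
          rcases hN with ⟨y, hy⟩
          omega

/-- After a twist all `1 + e a` are fused to the centre. -/
theorem exists_twist (hN : Even (Fintype.card ι)) (hN4 : 4 ≤ Fintype.card ι) :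
    (∀ a, σ.T (baseC ι) (1 + e a)) ∨
      ∀ a, (σ.twist (twistEquiv chiV (chiV_cst hN)) (twistEquiv_cst _ _)).T (baseC ι) (1 + e a) := by
  obtain ⟨a₀⟩ : Nonempty ι := Fintype.card_pos_iff.mp (by omega)
  obtain ⟨f, z, hf, hz, hchi⟩ := transfer_chart (σ := σ) (baseC ι) (e a₀) chiV
    (by rw [baseC_φ, chiV_base, sum_e]; decide)
  rcases weight_cases hN hN4 (fus_T hf hz) with h | h | h
  · refine Or.inr fun a => ?_
    have h1 : σ.T (baseC ι) (e a) := T_wt (fus_T hf hz) (by rw [h, wt_e])
    have h2 : σ.R (W.base (e a)) W.cst := h1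
    have h3 := h2.twist (α := twistEquiv chiV (chiV_cst hN)) (hα := twistEquiv_cst _ _)
    rw [twistEquiv_cst, twistEquiv_apply, chiV_base, sum_e, ← W.base_add] at h3
    exact h3
  · exact Or.inl fun a => T_wt (fus_T hf hz) (by have := wt_one_add_e a; omega)
  · subst h
    rw [(baseC ι).one] at hz
    obtain ⟨ω, hω⟩ := hf.eq_conj (baseC ι).cst_mem hz
    rw [baseC_φ, hω _ (base_mem _), chi_conj, chiV_base, sum_e] at hchi
    exact absurd hchi (by decide)

variable (σ) in
/-- The normalised situation. -/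
structure Normal : Prop where
  even : Even (Fintype.card ι)
  four : 4 ≤ Fintype.card ι
  top : ∀ a, σ.T (baseC ι) (1 + e a)

/-- A map sending some `1 + e a` to the centre keeps the base subgroup. -/
theorem Normal.fix_one (hσ : σ.Normal) {f : W ι → W ι} (hf : σ.Fus (baseC ι).grp f) {a : ι}
    (ha : f (W.base (1 + e a)) = W.cst) : ∀ v, f (W.base v) ∈ (baseC ι).grp := by
  obtain ⟨ν, hν2, hν⟩ := exists_image hf
  have h4 := hσ.four
  obtain ⟨j₀, hj₀⟩ : ∃ j₀, j₀ ≠ a := Fintype.exists_ne_of_one_lt_card (by omega) a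
  set D : Finset ι := Finset.univ \ {a, j₀}
  have hD : D.card = Fintype.card ι - 2 := by
    rw [Finset.card_sdiff_of_subset (Finset.subset_univ _), Finset.card_univ,
      Finset.card_pair hj₀.symm]
  have hfix : ∀ p q : ι, p ≠ a → q ≠ a → (fun i => (1 + e a : ι → ZMod 2) (swap p q i)) = 1 + e a := by
    intro p q hp hq
    funext i
    have : swap p q i = a ↔ i = a := by
      constructor
      · intro h
        have := congrArg (swap p q) h
        rwa [swap_apply_self, swap_apply_of_ne_of_ne hp.symm hq.symm] at this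
      · rintro rfl
        exact swap_apply_of_ne_of_ne hp.symm hq.symm
    simp [e_apply, this]
  have hbig := fix_big hf ν D (Finset.card_pos.mp (by omega)) (fun p => ind {p, j₀}) ?_ ?_
  · have := eq_one_of_fix ν (by omega)
    intro v
    rw [mem_baseC]
    have h1 := ((hν _).mpr ⟨v, rfl⟩).2
    subst this
    exact Equiv.ext fun i => (h1 i).elim id id
  · intro s hs s' hs' h
    simp only [Finset.mem_coe, Finset.mem_powerset] at hs hs'
    ext i
    by_cases hi : i ∈ D
    · have hne : i ≠ j₀ := by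
        simp only [D, Finset.mem_sdiff, Finset.mem_insert, Finset.mem_singleton] at hi
        tauto
      have := congrFun h i
      simp only [Finset.sum_apply, ind_apply, Finset.mem_insert, Finset.mem_singleton, hne,
        or_false, Finset.sum_ite_eq] at this
      by_cases h1 : i ∈ s <;> by_cases h2 : i ∈ s' <;> simp_all
    · exact iff_of_false (fun h1 => hi (hs h1)) fun h1 => hi (hs' h1)
  · intro p hp
    simp only [D, Finset.mem_sdiff, Finset.mem_univ, Finset.mem_insert, Finset.mem_singleton,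
      true_and, not_or] at hp
    obtain ⟨l, -, hl⟩ := Finset.exists_mem_notMem_of_card_lt_card
      (s := ({a, j₀, p} : Finset ι)) (t := Finset.univ)
      (by rw [Finset.card_univ]; exact Finset.card_le_three.trans_lt (by omega))
    simp only [Finset.mem_insert, Finset.mem_singleton, not_or] at hl
    refine centre_fixed hf hν2 hν (K := baseC ι) (x := 1 + e a) (c' := ind {j₀, l}) ha
      (perm_gam (swap p j₀)) ?_ (fun v => by simpa using swap_two p j₀ v)
      (perm_gam (swap j₀ l)) ?_ (fun v => by simpa using swap_two j₀ l v) (v := e p) ?_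
    · simpa using hfix p j₀ hp.1 hj₀
    · simpa using hfix j₀ l hj₀ hl.1
    · intro h
      have := congrFun h l
      simp [e_apply, swap_apply_def, hl.2.1, hl.2.2, hp.2] at this
      try tauto

theorem Normal.exists_to_one (hσ : σ.Normal) (a : ι) :
    ∃ F, σ.Gam (baseC ι) F ∧ F (1 + e a) = 1 := by
  obtain ⟨f, hf, ha⟩ := (hσ.top a).fus
  obtain ⟨F, hF, hF'⟩ := gam_of_fus hf (hσ.fix_one hf ha)
  exact ⟨F, hF, (baseC ι).inj ((hF' _).trans (ha.trans (baseC ι).one.symm))⟩

theorem Normal.not_low (hσ : σ.Normal) (a : ι) : ¬ σ.T (baseC ι) (e a) := by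
  intro h
  have hN := hσ.even
  have h4 := hσ.four
  obtain ⟨F, hF, hFa⟩ := hσ.exists_to_one a
  obtain ⟨F', hF', hFF', hF'F⟩ := hF.symm
  obtain ⟨i, hi⟩ : ∃ i, i ≠ a := Fintype.exists_ne_of_one_lt_card (by omega) a
  have hT : σ.T (baseC ι) (F (1 + e i)) := (hF.T_iff _).mpr (hσ.top i)
  have hT2 : σ.T (baseC ι) (1 + F (1 + e i)) := by
    rcases weight_cases hN h4 hT with h1 | h1 | h1
    · exact T_wt (hσ.top a) (by have := wt_one_add_e a; have := wt_add_one (F (1 + e i)); omega)
    · exact T_wt h (by rw [wt_e]; have := wt_add_one (F (1 + e i)); omega)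
    · exfalso
      have := hF.injective (h1.trans hFa.symm)
      exact hi (e_injective (add_left_cancel this))
  rw [show (1 : ι → ZMod 2) + F (1 + e i) = F ((1 + e a) + (1 + e i)) by rw [hF.map_add (1 + e a), hFa]]
    at hT2
  have := (hF.T_iff _).mp hT2
  rw [
    show (1 + e a) + (1 + e i) = (1 + 1) + (e a + e i) by abel, Chart.vec_add_self, zero_add,
    show e a + e i = ind {a, i} from (ind_pair hi.symm).symm] at this
  have hw : wt (ind ({a, i} : Finset ι)) = 2 := by rw [wt_ind, Finset.card_pair hi.symm]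
  exact no_even_weight this (by rw [hw]; decide) (by omega)

theorem Normal.T_iff_base (hσ : σ.Normal) {v : ι → ZMod 2} :
    σ.T (baseC ι) v ↔ v = 1 ∨ ∃ a, v = 1 + e a := by
  refine ⟨fun h => ?_, ?_⟩
  · rcases weight_cases hσ.even hσ.four h with h1 | h1 | h1
    · obtain ⟨a, rfl⟩ := eq_e_of_wt h1
      exact absurd h (hσ.not_low a)
    · exact Or.inr (eq_one_add_e h1)
    · exact Or.inl h1
  · rintro (rfl | ⟨a, rfl⟩)
    exacts [T_one, hσ.top a]

/-- `v ↦ v + (∑ of the others) e a`. -/
def hA (a : ι) (v : ι → ZMod 2) : ι → ZMod 2 := Function.update v a (∑ i, v i)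

theorem hA_add (a : ι) (v w : ι → ZMod 2) : hA a (v + w) = hA a v + hA a w := by
  funext i
  by_cases h : i = a
  · subst h; simp [hA, Finset.sum_add_distrib]
  · simp [hA, h]

theorem Normal.gam_hA (hσ : σ.Normal) (a : ι) : σ.Gam (baseC ι) (hA a) := by
  obtain ⟨F, hF, hFa⟩ := hσ.exists_to_one a
  obtain ⟨c, hc⟩ : ∃ c, F 1 = 1 + e c := by
    refine (hσ.T_iff_base.mp ((hF.T_iff _).mpr T_one)).resolve_left fun h => ?_
    have := congrFun (hF.injective (h.trans hFa.symm)) a
    simp [CharTwo.add_self_eq_zero] at this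
  obtain ⟨F₁, hF₁, h1a, h11⟩ : ∃ F₁, σ.Gam (baseC ι) F₁ ∧ F₁ (1 + e a) = 1 ∧ F₁ 1 = 1 + e a := by
    refine ⟨_, hF.comp (perm_gam (swap a c)), ?_, ?_⟩
    · simp only [Function.comp, hFa]; rfl
    · funext i
      simp only [Function.comp, hc, Equiv.symm_swap, Pi.add_apply, Pi.one_apply, e_apply]
      by_cases hi : i = a
      · subst hi; simp
      · by_cases hj : i = c
        · subst hj; simp [hi, Ne.symm hi]
        · simp [swap_apply_of_ne_of_ne hi hj, hi, hj]
  have hg : ∀ i, i ≠ a → ∃ j, j ≠ a ∧ F₁ (1 + e i) = 1 + e j := by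
    intro i hi
    obtain ⟨j, hj⟩ := (hσ.T_iff_base.mp ((hF₁.T_iff _).mpr (hσ.top i))).resolve_left
      fun h => hi (e_injective (add_left_cancel (hF₁.injective (h.trans h1a.symm))))
    refine ⟨j, ?_, hj⟩
    rintro rfl
    have := congrFun (hF₁.injective (hj.trans h11.symm)) i
    simp [CharTwo.add_self_eq_zero] at this
  choose g hga hg using hg
  let η₀ : ι → ι := fun i => if h : i = a then a else g i h
  have hη₀ : Function.Injective η₀ := by
    intro i j h
    simp only [η₀] at h
    by_cases hi : i = a <;> by_cases hj : j = a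
    · rw [hi, hj]
    · rw [dif_pos hi, dif_neg hj] at h; exact absurd h.symm (hga j hj)
    · rw [dif_neg hi, dif_pos hj] at h; exact absurd h (hga i hi)
    · rw [dif_neg hi, dif_neg hj] at h
      exact e_injective (add_left_cancel (hF₁.injective ((hg i hi).trans (by rw [h, ← hg j hj]))))
  let η : Perm ι := Equiv.ofBijective η₀ (Finite.injective_iff_bijective.mp hη₀)
  have hη : η a = a := by simp [η, η₀]
  have hG := hF₁.comp (perm_gam η⁻¹)
  obtain ⟨f, hf, he⟩ := hG
  refine ⟨f, hf, fun v => ?_⟩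
  rw [he]
  congr 1
  refine lin_ext (Gam.map_add ⟨f, hf, he⟩) (hA_add a) (fun i => ?_) v
  have hadd := hF₁.map_add
  have he_i : e i = 1 + (1 + e i) := by rw [← add_assoc, Chart.vec_add_self, zero_add]
  funext k
  simp only [Function.comp, perm_inv_symm_apply, hA]
  rw [he_i, hadd, h11, ← he_i, sum_e]
  by_cases hi : i = a
  · subst hi
    rw [h1a]
    have hk : η k = i ↔ k = i := ⟨fun h => η.injective (h.trans hη.symm), fun h => h ▸ hη⟩
    by_cases hki : k = i
    · subst hki; simp [hη, CharTwo.add_self_eq_zero]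
    · simp [Function.update_of_ne hki, e_apply, hk, hki, CharTwo.add_self_eq_zero]
  · rw [hg i hi]
    have hk : η k = g i hi ↔ k = i := by
      have : η i = g i hi := by simp [η, η₀, hi]
      rw [← this, η.injective.eq_iff]
    have hk' : η k = a ↔ k = a := ⟨fun h => η.injective (h.trans hη.symm), fun h => h ▸ hη⟩
    by_cases hka : k = a
    · subst hka
      simp [hη, Ne.symm (hga i hi), e_apply, CharTwo.add_self_eq_zero]
    · have h11' : ∀ x : ZMod 2, 1 + (1 + x) = x := by decide
      simp [Function.update_of_ne hka, e_apply, hk, hk', hka, h11']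

/-- Any map defined on the base subgroup keeps it. -/
theorem Normal.rigid (hσ : σ.Normal) {f : W ι → W ι} (hf : σ.Fus (baseC ι).grp f) (v : ι → ZMod 2) :
    f (W.base v) ∈ (baseC ι).grp := by
  obtain ⟨ν, -, hν⟩ := exists_image hf
  obtain ⟨z, hz⟩ := (hν W.cst).mp memM_cst
  rcases hσ.T_iff_base.mp (fus_T hf hz) with rfl | ⟨a, rfl⟩
  · rw [(baseC ι).one] at hz
    obtain ⟨ω, hω⟩ := hf.eq_conj (baseC ι).cst_mem hz
    rw [mem_baseC, hω _ (base_mem v), W.conj_base]
    rfl
  · exact hσ.fix_one hf hz v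

theorem Normal.image_base (hσ : σ.Normal) {f : W ι → W ι} (hf : σ.Fus (baseC ι).grp f) :
    ∃ F, σ.Gam (baseC ι) F ∧ ∀ v, W.base (F v) = f (W.base v) :=
  gam_of_fus hf (hσ.rigid hf)

theorem sum_top (s : Finset ι) (g : ι → ι) (hg : Set.InjOn g s) :
    ∑ i ∈ s, (1 + e (g i)) = (s.card : ZMod 2) • (1 : ι → ZMod 2) + ind (s.image g) := by
  rw [Finset.sum_add_distrib, Finset.sum_const, Nat.cast_smul_eq_nsmul,
    ← sum_ind_singleton (s.image g), Finset.sum_image hg]

/-- Fusion keeps even weights apart. -/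
theorem Normal.weight_eq (hσ : σ.Normal) {F : (ι → ZMod 2) → (ι → ZMod 2)}
    (hF : σ.Gam (baseC ι) F) {v : ι → ZMod 2} (hv : Even (wt v)) (hFv : Even (wt (F v))) :
    wt (F v) = wt v := by
  classical
  set s := supp v
  have hs0 : (s.card : ZMod 2) = 0 := ZMod.natCast_eq_zero_iff_even.mpr hv
  have hv' : v = ∑ i ∈ s, (1 + e i) := by
    have := sum_top s id (Function.injective_id.injOn)
    simp only [id_eq, hs0, zero_smul, zero_add] at this
    rw [this, Finset.image_id, ind_supp]
  have key : ∀ i, F (1 + e i) = 1 ∨ ∃ j, F (1 + e i) = 1 + e j :=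
    fun i => hσ.T_iff_base.mp ((hF.T_iff _).mpr (hσ.top i))
  have hinj : ∀ i j, F (1 + e i) = F (1 + e j) → i = j := fun i j h =>
    e_injective (add_left_cancel (hF.injective h))
  let g : ι → ι := fun i => if h : ∃ j, F (1 + e i) = 1 + e j then h.choose else i
  have hg : ∀ i, F (1 + e i) ≠ 1 → F (1 + e i) = 1 + e (g i) := by
    intro i hi
    have h := (key i).resolve_left hi
    simp only [g, dif_pos h]
    exact h.choose_spec
  set s' := s.filter fun i => F (1 + e i) ≠ 1
  have hgi : Set.InjOn g s' := by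
    intro i hi j hj h
    simp only [s', Finset.coe_filter, Set.mem_setOf_eq] at hi hj
    exact hinj i j (by rw [hg i hi.2, hg j hj.2, h])
  have hFv' : F v = ∑ i ∈ s.filter (fun i => ¬ F (1 + e i) ≠ 1), (1 : ι → ZMod 2) +
      ((s'.card : ZMod 2) • (1 : ι → ZMod 2) + ind (s'.image g)) := by
    rw [← sum_top s' g hgi, hv', hF.map_sum,
      ← Finset.sum_filter_add_sum_filter_not s (fun i => F (1 + e i) ≠ 1), add_comm]
    congr 1
    · exact Finset.sum_congr rfl fun i hi => by
        simpa using (Finset.mem_filter.mp hi).2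
    · exact Finset.sum_congr rfl fun i hi => hg i (Finset.mem_filter.mp hi).2
  have hcard := Finset.card_filter_add_card_filter_not (s := s) (fun i => F (1 + e i) ≠ 1)
  have hw : wt (F v) = s'.card := by
    rw [hFv', Finset.sum_const, ← Nat.cast_smul_eq_nsmul (ZMod 2), ← add_assoc, ← add_smul,
      ← Nat.cast_add, show (s.filter fun i => ¬ F (1 + e i) ≠ 1).card + s'.card = s.card from
        (add_comm _ _).trans hcard, hs0, zero_smul, zero_add, wt_ind,
      Finset.card_image_of_injOn hgi]
  have h1 : (s.filter fun i => ¬ F (1 + e i) ≠ 1).card ≤ 1 := by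
    rw [Finset.card_le_one]
    intro i hi j hj
    exact hinj i j (by simp only [Finset.mem_filter, not_not] at hi hj; rw [hi.2, hj.2])
  rw [hw, wt_eq_card_supp]
  rw [hw] at hFv
  obtain ⟨x, hx⟩ := hv
  obtain ⟨y, hy⟩ := hFv
  have hss : s.card = wt v := rfl
  change s'.card = s.card
  have hs'le : s'.card + (s.filter fun i => ¬ F (1 + e i) ≠ 1).card = s.card := hcard
  omega

theorem Normal.classes_distinct (hσ : σ.Normal) {v w : ι → ZMod 2} (hv : Even (wt v))
    (hw : Even (wt w)) (h : σ.R (W.base v) (W.base w)) : wt v = wt w := by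
  obtain ⟨f₁, f₂, h₁, h₂, he⟩ := h.weak (baseC ι).isPGroup (baseC ι).isPGroup (base_mem v)
    (base_mem w) (fun _ hp => (baseC ι).grp_comm hp (base_mem v))
    (fun _ hp => (baseC ι).grp_comm hp (base_mem w))
  obtain ⟨F₁, hF₁, e₁⟩ := hσ.image_base h₁
  obtain ⟨F₂, hF₂, e₂⟩ := hσ.image_base h₂
  rw [← e₁, ← e₂] at he
  obtain ⟨F₃, hF₃, h32, -⟩ := hF₂.symm
  have hcomp := hF₁.comp hF₃
  have hvw : (F₃ ∘ F₁) v = w := by
    show F₃ (F₁ v) = w
    rw [W.base_injective he, h32]
  have := hσ.weight_eq hcomp hv (by rw [hvw]; exact hw)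
  rw [hvw] at this
  exact this.symm

end Setup

end Cfsg.Agent.H67.Kondo
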